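import Mathlib
import Cfsg.Agent.OddHalf.F4.EndOut_m3
import Cfsg.Agent.OddHalf.D4.U3.MkNor_mg
import Cfsg.Agent.OddHalf.D4.Basic
import Cfsg.Agent.KFacts.TwF4.Torus
import Cfsg.Agent.OddHalf.DblR.MinusTor
import Cfsg.Agent.KFacts.TwF4.Perf
import Cfsg.Agent.KFacts.TwF4.CentR
import Cfsg.Agent.KFacts.TwF4.TorFix
import Cfsg.Agent.KFacts.TwF4.SylU
import Cfsg.Agent.OddHalf.D4.CommConj
import Cfsg.Agent.S0001
import Cfsg.Agent.KFacts.TwF4.Layers
import Cfsg.Agent.OddHalf.D4.Pair3_m3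
import Cfsg.Agent.KFacts.TwF4.OutTwo
import Cfsg.Agent.Omega.TwoF.RowM12_m3
import Cfsg.Agent.TitsK.ParC_m3
import Cfsg.Agent.OddHalf.D6.QThree.G23Out
import Cfsg.Agent.KFacts.RgdSL
import Cfsg.Agent.Nodes.Unique
import Cfsg.Agent.KFacts.RgdField
import Cfsg.Agent.KFacts.RgdTau
import Cfsg.Agent.KFacts.RgdFixU
import Cfsg.Agent.OddHalf.SpN.Start_m3
import Cfsg.Agent.LieRecognition.FieldSemilinear
import Cfsg.Agent.KFacts.RgdFld.Two_m3
import Cfsg.Agent.KFacts.J4.SheetJ4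
import Cfsg.Agent.KFacts.InnerCaseM
import Cfsg.Agent.FastGrp
import Cfsg.Agent.Prune
set_option linter.all false

section
prune_inst 0x7ffcfffaadb8addfdfff7e7ffed9dffc39d0dfffefdff943ffe0e1ff0fdf03082de52b8d8de010ff0ef662b410b87813f97eceffea6bdc7ffffd5ff45ffbee0fa5e7bd8851d68c340f380fff03f06f8e7f3fffffffffffffffffffffffffffbefffdffffffff

-- part: OddHalf/D4/En2/Kill_mg
section
prune_inst 0x1024100000000018000060001c02d20001020068800000000c000080290024000120048001101000020000040008100000000000000000000000000000000000100000000000000000000004000000000000000000000000000000000000000000000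
set_option linter.all false
open scoped Cfsg.Agent.FastGrp

-- part: OddHalf/D4/En2/Kill
section
-- merged: Cfsg.Agent.OddHalf.D4.En2.Inv
section

/-!
# ODD, D4, `E_n(2)`: every involution of the positive unipotent group is conjugate in it to a product of root elements
for pairwise orthogonal positive roots (text: helper305 #11622 (C))
-/

set_option autoImplicit false
set_option linter.unusedSectionVars false

namespace Cfsg.Agent.OddHalf.D4.En2

open Subgroup Cfsg.Agent.OddHalf.SL.Defs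

variable {L Y : Type*} [AddCommGroup L] [Group Y]
variable {B : L → L → ℤ} {Φ : Set L} {x : L → Y} {ht : L →+ ℤ}

/-- the positive roots orthogonal to all roots of `R` -/
def PO (B : L → L → ℤ) (Φ : Set L) (ht : L →+ ℤ) (R : List L) : Set L := {c | c ∈ Pos Φ ht ∧ ∀ r ∈ R, B c r = 0}

namespace RE

variable (h : RE B Φ x ht)
include h

omit h in
theorem PO_pos {R : List L} : PO B Φ ht R ⊆ Pos Φ ht := fun _ hc => hc.1

omit h in
theorem PO_cons {R : List L} {b : L} : PO B Φ ht (b :: R) ⊆ PO B Φ ht R :=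
  fun _ hc => ⟨hc.1, fun r hr => hc.2 r (List.mem_cons_of_mem _ hr)⟩

theorem PO_closed (R : List L) : Closed B (PO B Φ ht R) := by
  rintro a ha b hb hab
  refine ⟨h.closed_pos a ha.1 b hb.1 hab, fun r hr => ?_⟩
  rw [h.rt.add_left, ha.2 r hr, hb.2 r hr, add_zero]

/-- a bound on heights -/
theorem exists_bound : ∃ N : ℕ, ∀ c ∈ Φ, ht c ≤ N := by
  obtain ⟨M, hM⟩ := (h.rt.fin.image ht).bddAbove
  refine ⟨M.toNat, fun c hc => ?_⟩
  have := hM ⟨c, hc, rfl⟩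
  omega

/-- the lowest root in an element of `XS x S` -/
theorem exists_lowest {S : Set L} (hS : S ⊆ Pos Φ ht) (hc : Closed B S) {w : Y} (hw : w ∈ XS x S) (hw1 : w ≠ 1) :
    ∃ b ∈ S, ∃ y ∈ XS x {c | c ∈ S ∧ ht b < ht c}, w = x b * y := by
  obtain ⟨N, hN⟩ := h.exists_bound
  have key : ∀ n : ℕ, w ∈ XS x {c | c ∈ S ∧ (n : ℤ) < ht c} ∨
      ∃ b ∈ S, ∃ y ∈ XS x {c | c ∈ S ∧ ht b < ht c}, w = x b * y := by
    intro n
    induction n with
    | zero =>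
      left
      refine XS_mono ?_ hw
      exact fun c hcS => ⟨hcS, (hS hcS).2⟩
    | succ n ih =>
      rcases ih with ih | ih
      swap
      · right; exact ih
      by_cases hex : ∃ b ∈ S, ht b = n + 1
      · obtain ⟨b, hbS, hbn⟩ := hex
        have hb := (hS hbS).1
        have hsub : {c | c ∈ S ∧ (n : ℤ) < ht c} ⊆ insert b {c | c ∈ S ∧ ht b < ht c} := by
          rintro c ⟨hcS, hcn⟩
          by_cases hcb : c = b
          · left; exact hcb
          · right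
            refine ⟨hcS, ?_⟩
            have h1 : ht c ≠ ht b := fun h0 => hcb (h.hti c (hS hcS).1 b hb h0)
            omega
        have h2 := h.mem_insert (T := {c | c ∈ S ∧ ht b < ht c}) hb (fun u hu => by
          apply h.conj_XS hb (fun c hc => (hS hc.1).1) _ _ hu
          · rintro ⟨h3, -⟩
            have h4 := (hS h3).2
            have h5 := (hS hbS).2
            rw [map_neg] at h4
            omega
          · rintro c ⟨hcS, hcb⟩ hBc
            refine ⟨hc b hbS c hcS hBc, ?_⟩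
            have h5 := (hS hcS).2
            rw [map_add]; omega) (XS_mono hsub ih)
        rcases h2 with h2 | h2
        · left
          rw [hbn] at h2
          push_cast
          exact h2
        · right
          exact ⟨b, hbS, x b * w, h2, (h.cancel hb w).symm⟩
      · left
        push Not at hex
        apply XS_mono _ ih
        rintro c ⟨hcS, hcn⟩
        refine ⟨hcS, ?_⟩
        have := hex c hcS
        push_cast
        omega
  rcases key N with h1 | h1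
  · exfalso
    apply hw1
    have h2 : {c | c ∈ S ∧ (N : ℤ) < ht c} = ∅ := by
      ext c
      simp only [Set.mem_ofPred_eq, Set.mem_empty_iff_false, iff_false, not_and, not_lt]
      intro hcS
      exact hN c (hS hcS).1
    rw [h2] at h1
    unfold XS at h1
    rw [Set.image_empty, Subgroup.closure_empty, mem_bot] at h1
    exact h1
  · exact h1

/-- clearing the roots `c` with `B c b = 1` -/
theorem clear {R : List L} {b : L} (hb : b ∈ PO B Φ ht R) {y : Y}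
    (hy : y ∈ XS x {c | c ∈ PO B Φ ht R ∧ ht b < ht c}) (n : ℕ) :
    ∃ g ∈ XS x (PO B Φ ht R), ∃ y' ∈ XS x {c | c ∈ PO B Φ ht R ∧ ht b < ht c ∧ (B c b ≤ 0 ∨ (n : ℤ) < ht c)},
      g * (x b * y) * g⁻¹ = x b * y' := by
  induction n with
  | zero =>
    refine ⟨1, one_mem _, y, XS_mono ?_ hy, by group⟩
    exact fun c hc => ⟨hc.1, hc.2, Or.inr hc.1.1.2⟩
  | succ n ih =>
    obtain ⟨g, hg, y', hy', he⟩ := ih
    by_cases hex : ∃ c ∈ PO B Φ ht R, ht c = n + 1 ∧ 0 < B c b ∧ ht b < ht c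
    swap
    · refine ⟨g, hg, y', XS_mono ?_ hy', he⟩
      rintro c ⟨hcR, hcb, hc⟩
      refine ⟨hcR, hcb, ?_⟩
      by_contra hcon
      push Not at hcon
      obtain ⟨h1, h2⟩ := hcon
      apply hex
      refine ⟨c, hcR, ?_, h1, hcb⟩
      push_cast at h2
      omega
    · obtain ⟨c, hcR, hcn, hcB, hcb⟩ := hex
      have hcΦ := hcR.1.1
      have hbΦ := hb.1.1
      have hBc : B c b = 1 := by
        have h1 := h.rt.le c hcΦ b hbΦ
        have h2 : B c b ≠ 2 := fun h0 => by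
          have := h.rt.eq c hcΦ b hbΦ h0
          rw [this] at hcb
          omega
        omega
      have hBc' : B b c = 1 := by rw [h.rt.symm]; exact hBc
      set d := c - b with hd
      have hdΦ : d ∈ Φ := h.rt.sub_mem hcΦ hbΦ hBc
      have hdht : ht d = ht c - ht b := by rw [hd, map_sub]
      have hdb : B d b = -1 := by rw [hd, h.rt.sub_left, hBc, h.self hbΦ]; norm_num
      have hdc : B d c = 1 := by rw [hd, h.rt.sub_left, h.self hcΦ, hBc']; norm_num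
      have hdadd : d + b = c := by rw [hd]; abel
      have hdR : d ∈ PO B Φ ht R := by
        refine ⟨⟨hdΦ, by omega⟩, fun r hr => ?_⟩
        rw [hd, h.rt.sub_left, hcR.2 r hr, hb.2 r hr, sub_zero]
      set T : Set L := {c | c ∈ PO B Φ ht R ∧ ht b < ht c ∧ (B c b ≤ 0 ∨ ((n + 1 : ℕ) : ℤ) < ht c)} with hT
      have hsub : {c | c ∈ PO B Φ ht R ∧ ht b < ht c ∧ (B c b ≤ 0 ∨ (n : ℤ) < ht c)} ⊆ insert c T := by
        rintro e ⟨heR, heb, he'⟩
        by_cases hec : e = c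
        · left; exact hec
        · right
          refine ⟨heR, heb, ?_⟩
          have h1 : ht e ≠ ht c := fun h0 => hec (h.hti e heR.1.1 c hcΦ h0)
          push_cast
          omega
      -- `x c` normalises
      have hnc : ∀ u ∈ XS x T, x c * u * (x c)⁻¹ ∈ XS x T := by
        intro u hu
        apply h.conj_XS hcΦ (fun e he => he.1.1.1) _ _ hu
        · rintro ⟨h3, -⟩
          have h4 := h3.1.2
          rw [map_neg] at h4
          omega
        · rintro e ⟨heR, heb, he'⟩ hBe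
          refine ⟨h.PO_closed R c hcR e heR hBe, ?_, Or.inr ?_⟩
          · have := heR.1.2
            rw [map_add]; omega
          · have := heR.1.2
            rw [map_add]; push_cast; omega
      have hnd : ∀ u ∈ XS x T, x d * u * (x d)⁻¹ ∈ XS x T := by
        intro u hu
        apply h.conj_XS hdΦ (fun e he => he.1.1.1) _ _ hu
        · rintro ⟨h3, -⟩
          have h4 := h3.1.2
          rw [map_neg] at h4
          have := hdR.1.2
          omega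
        · rintro e ⟨heR, heb, he'⟩ hBe
          have := hdR.1.2
          refine ⟨h.PO_closed R d hdR e heR hBe, ?_, Or.inr ?_⟩
          · rw [map_add]; omega
          · rw [map_add]; push_cast; omega
      rcases h.mem_insert hcΦ hnc (XS_mono hsub hy') with h1 | h1
      · exact ⟨g, hg, y', h1, he⟩
      · refine ⟨x d * g, mul_mem (mem_XS hdR) hg, x d * (x c * y') * (x d)⁻¹, hnd _ h1, ?_⟩
        have e1 : x d * g * (x b * y) * (x d * g)⁻¹ = x d * (g * (x b * y) * g⁻¹) * (x d)⁻¹ := by group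
        rw [e1, he]
        have e2 : x d * x b * (x d)⁻¹ = x b * x c := by
          rw [h.conj_neg hdΦ hbΦ hdb, hdadd]
        have e3 : x d * x c * (x d)⁻¹ = x c := h.conj_pos hdΦ hcΦ (by omega)
        calc x d * (x b * y') * (x d)⁻¹ = (x d * x b * (x d)⁻¹) * (x d * y' * (x d)⁻¹) := by group
          _ = x b * (x c * (x d * y' * (x d)⁻¹)) := by rw [e2, mul_assoc]
          _ = x b * ((x d * x c * (x d)⁻¹) * (x d * y' * (x d)⁻¹)) := by rw [e3]
          _ = x b * (x d * (x c * y') * (x d)⁻¹) := by group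

/-- an element of `XS x {c ∈ PO R | ..}` commuting with `x b` and `x (-b)` lies in `XS x (PO (b :: R))` -/
theorem mem_PO_cons {R : List L} (hR : ∀ r ∈ R, r ∈ Φ) {b : L} (hb : b ∈ Φ) {y : Y} (hy : y ∈ XS x (PO B Φ ht R))
    (h1 : y * x b = x b * y) (h2 : y * x (-b) = x (-b) * y) : y ∈ XS x (PO B Φ ht (b :: R)) := by
  let F : List (L →+ ℤ) := ht :: fB h.rt b :: fB h.rt (-b) :: (R.map (fB h.rt) ++ R.map fun r => fB h.rt (-r))
  apply h.inter_mem (F := F)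
  · intro f hf
    simp only [F, List.mem_cons, List.mem_append, List.mem_map] at hf
    rcases hf with rfl | rfl | rfl | ⟨r, hr, rfl⟩ | ⟨r, hr, rfl⟩
    · refine XS_mono ?_ hy
      exact fun c hc => ⟨hc.1.1, hc.1.2.le⟩
    · exact h.cent b hb y h1
    · exact h.cent (-b) (h.rt.neg_mem b hb) y h2
    · refine XS_mono ?_ hy
      exact fun c hc => ⟨hc.1.1, by rw [fB_apply, hc.2 r hr]⟩
    · refine XS_mono ?_ hy
      exact fun c hc => ⟨hc.1.1, by rw [fB_apply, h.rt.neg_right, hc.2 r hr]; norm_num⟩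
  · intro c hc hF
    have g0 := hF ht (by simp [F])
    have g1 := hF (fB h.rt b) (by simp [F])
    have g2 := hF (fB h.rt (-b)) (by simp [F])
    rw [fB_apply] at g1 g2
    rw [h.rt.neg_right] at g2
    have g3 := h.ht0 c hc
    refine ⟨⟨hc, by omega⟩, fun r hr => ?_⟩
    rcases List.mem_cons.mp hr with rfl | hr
    · omega
    · have g4 := hF (fB h.rt r) (by
        simp only [F, List.mem_cons, List.mem_append, List.mem_map]
        right; right; right; left; exact ⟨r, hr, rfl⟩)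
      have g5 := hF (fB h.rt (-r)) (by
        simp only [F, List.mem_cons, List.mem_append, List.mem_map]
        right; right; right; right; exact ⟨r, hr, rfl⟩)
      rw [fB_apply] at g4 g5
      rw [h.rt.neg_right] at g5
      omega

/-- **Classes of involutions.** -/
theorem exists_conj_pr : ∀ (n : ℕ) (R : List L), (∀ r ∈ R, r ∈ Φ) → (PO B Φ ht R).ncard ≤ n →
    ∀ w ∈ XS x (PO B Φ ht R), w * w = 1 →
    ∃ g ∈ XS x (PO B Φ ht R), ∃ F : List L, Ort B Φ F ∧ (∀ a ∈ F, a ∈ PO B Φ ht R) ∧ g * w * g⁻¹ = pr x F := by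
  intro n
  induction n with
  | zero =>
    intro R hR hn w hw _
    have hfin : (PO B Φ ht R).Finite := h.rt.fin.subset fun c hc => hc.1.1
    have h1 : PO B Φ ht R = ∅ := by
      rw [← Set.ncard_eq_zero hfin]; omega
    refine ⟨1, one_mem _, [], Ort.nil, by simp, ?_⟩
    rw [h1] at hw
    unfold XS at hw
    rw [Set.image_empty, Subgroup.closure_empty, mem_bot] at hw
    rw [hw]; simp
  | succ n ih =>
    intro R hR hn w hw hw2
    by_cases hw1 : w = 1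
    · exact ⟨1, one_mem _, [], Ort.nil, by simp, by rw [hw1]; simp⟩
    obtain ⟨b, hb, y, hy, hwy⟩ := h.exists_lowest PO_pos (h.PO_closed R) hw hw1
    obtain ⟨N, hN⟩ := h.exists_bound
    obtain ⟨g, hg, y', hy', he⟩ := h.clear hb hy N
    have hbΦ := hb.1.1
    have hnb := h.rt.neg_mem b hbΦ
    have hyR : y' ∈ XS x (PO B Φ ht R) := XS_mono (fun c hc => hc.1) hy'
    -- `y'` commutes with `x (-b)`
    have c1 : x (-b) * y' = y' * x (-b) := by
      apply comm_XS _ hy'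
      rintro c ⟨hcR, -, hc⟩
      apply h.comm _ hnb c hcR.1.1
      rw [h.rt.neg_left, h.rt.symm]
      have := hN c hcR.1.1
      omega
    -- `(x b * y')² = 1`
    have hsq : (x b * y') * (x b * y') = 1 := by
      rw [← he, ← hwy]
      calc g * w * g⁻¹ * (g * w * g⁻¹) = g * (w * w) * g⁻¹ := by group
        _ = 1 := by rw [hw2]; group
    have c2 : x b * y' * x b = y'⁻¹ := by
      apply eq_inv_of_mul_eq_one_left
      rw [mul_assoc]; exact hsq
    have hbr := h.braid b hbΦ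
    have hb2 := h.sq b hbΦ
    have hn2 := h.sq _ hnb
    -- `y'` commutes with `x b`
    have c3 : x (-b) * (x b * y' * x b) = x b * y' * x b * x (-b) := by
      rw [c2]
      have := c1
      calc x (-b) * y'⁻¹ = y'⁻¹ * (y' * x (-b)) * y'⁻¹ := by group
        _ = y'⁻¹ * (x (-b) * y') * y'⁻¹ := by rw [c1]
        _ = y'⁻¹ * x (-b) := by group
    have c4 : (x b * x (-b) * x b) * y' = y' * (x b * x (-b) * x b) := by
      have e1 : (x b * x (-b) * x b) * y' = x b * (x (-b) * (x b * y' * x b)) * x b := by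
        calc (x b * x (-b) * x b) * y' = x b * x (-b) * x b * y' * 1 := by group
          _ = x b * x (-b) * x b * y' * (x b * x b) := by rw [hb2]
          _ = _ := by group
      rw [e1, c3]
      calc x b * (x b * y' * x b * x (-b)) * x b = (x b * x b) * y' * (x b * x (-b) * x b) := by group
        _ = _ := by rw [hb2, one_mul]
    rw [hbr] at c4
    have c5 : x b * y' = y' * x b := by
      have e1 : x b * y' = x (-b) * ((x (-b) * x b * x (-b)) * y') * x (-b) := by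
        calc x b * y' = 1 * x b * y' * 1 := by group
          _ = (x (-b) * x (-b)) * x b * y' * (x (-b) * x (-b)) := by rw [hn2]
          _ = x (-b) * x (-b) * x b * (y' * x (-b)) * x (-b) := by group
          _ = x (-b) * x (-b) * x b * (x (-b) * y') * x (-b) := by rw [c1]
          _ = _ := by group
      rw [e1, c4]
      calc x (-b) * (y' * (x (-b) * x b * x (-b))) * x (-b)
          = (x (-b) * y') * (x (-b) * x b) * (x (-b) * x (-b)) := by group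
        _ = (y' * x (-b)) * (x (-b) * x b) * (x (-b) * x (-b)) := by rw [c1]
        _ = y' * (x (-b) * x (-b)) * x b * (x (-b) * x (-b)) := by group
        _ = y' * x b := by rw [hn2]; group
    have hy'' : y' ∈ XS x (PO B Φ ht (b :: R)) := h.mem_PO_cons hR hbΦ hyR c5.symm c1.symm
    have hsq' : y' * y' = 1 := by
      have e1 : (x b * y') * (x b * y') = (x b * x b) * (y' * y') := by
        calc (x b * y') * (x b * y') = (x b * y') * (y' * x b) := by rw [c5]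
          _ = x b * (y' * y') * x b := by group
          _ = x b * (y' * (y' * x b)) := by group
          _ = x b * (y' * (x b * y')) := by rw [c5]
          _ = x b * ((y' * x b) * y') := by group
          _ = x b * ((x b * y') * y') := by rw [c5]
          _ = _ := by group
      rw [hsq, hb2, one_mul] at e1
      exact e1.symm
    have hlt : (PO B Φ ht (b :: R)).ncard ≤ n := by
      have hfin : (PO B Φ ht R).Finite := h.rt.fin.subset fun c hc => hc.1.1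
      have h3 : PO B Φ ht (b :: R) ⊂ PO B Φ ht R := by
        refine ⟨PO_cons, fun h4 => ?_⟩
        have h5 := (h4 hb).2 b List.mem_cons_self
        rw [h.self hbΦ] at h5
        omega
      have h4 := Set.ncard_lt_ncard h3 hfin
      omega
    obtain ⟨g', hg', F, hF, hFm, hgF⟩ := ih (b :: R) (by
      intro r hr
      rcases List.mem_cons.mp hr with rfl | hr
      · exact hbΦ
      · exact hR r hr) hlt y' hy'' hsq'
    refine ⟨g' * g, mul_mem (XS_mono PO_cons hg') hg, b :: F, Ort.cons hbΦ hF ?_, ?_, ?_⟩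
    · intro c hc
      rw [h.rt.symm]
      exact (hFm c hc).2 b List.mem_cons_self
    · intro c hc
      rcases List.mem_cons.mp hc with rfl | hc
      · exact hb
      · exact PO_cons (hFm c hc)
    · have e1 : g' * g * w * (g' * g)⁻¹ = g' * (g * w * g⁻¹) * g'⁻¹ := by group
      rw [e1, hwy, he, pr_cons]
      have c6 : x b * g' = g' * x b := by
        apply comm_XS _ hg'
        rintro c hc
        apply h.comm b hbΦ c hc.1.1
        rw [h.rt.symm, hc.2 b List.mem_cons_self]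
      calc g' * (x b * y') * g'⁻¹ = (g' * x b) * y' * g'⁻¹ := by group
        _ = (x b * g') * y' * g'⁻¹ := by rw [c6]
        _ = x b * (g' * y' * g'⁻¹) := by group
        _ = _ := by rw [hgF]

/-- **Classes of involutions of the positive unipotent group.** -/
theorem exists_conj {w : Y} (hw : w ∈ XS x (Pos Φ ht)) (hw2 : w * w = 1) :
    ∃ g ∈ XS x (Pos Φ ht), ∃ F : List L, Ort B Φ F ∧ (∀ a ∈ F, a ∈ Pos Φ ht) ∧ g * w * g⁻¹ = pr x F := by
  have e : PO B Φ ht [] = Pos Φ ht := by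
    ext c
    simp [PO]
  obtain ⟨g, hg, F, hF, hFm, hgF⟩ := h.exists_conj_pr _ [] (by simp) le_rfl w (by rw [e]; exact hw) hw2
  rw [e] at hg
  exact ⟨g, hg, F, hF, fun a ha => (hFm a ha).1, hgF⟩

end RE

end Cfsg.Agent.OddHalf.D4.En2

end

-- merged: Cfsg.Agent.OddHalf.D4.En2.NoSiegel
section

/-!
# ODD, D4, `E_n(2)`: no Siegel elements (text: helper305 #11622 (A))

`noSiegel`: an element `k` of the positive unipotent group with `[C_Q(w), k] ≤ ⟨w⟩` lies in `Q = Q_ρ`.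
-/

set_option autoImplicit false
set_option linter.unusedSectionVars false

namespace Cfsg.Agent.OddHalf.D4.En2

open Subgroup Cfsg.Agent.OddHalf.SL.Defs

variable {L Y : Type*} [AddCommGroup L] [Group Y]
variable {B : L → L → ℤ} {Φ : Set L} {x : L → Y} {ht : L →+ ℤ} {ρ : L} {Fl : (L →+ L) → Prop}

/-- the filtration of `Q` -/
def Vt (B : L → L → ℤ) (Φ : Set L) (x : L → Y) (ht : L →+ ℤ) (ρ : L) (t : ℤ) : Subgroup Y :=
  XS x {d | d ∈ Φ ∧ 0 < B d ρ ∧ t < ht d}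

theorem Vt_anti {t t' : ℤ} (htt : t ≤ t') : Vt B Φ x ht ρ t' ≤ Vt B Φ x ht ρ t := by
  refine XS_mono ?_
  exact fun c hc => ⟨hc.1, hc.2.1, lt_of_le_of_lt htt hc.2.2⟩

section

variable (h : RE B Φ x ht) (ha : RA B Φ x ht ρ Fl)
include h ha

theorem ht_lt_ρ {d : L} (hd : d ∈ Φ) (h1 : B d ρ = 1) : ht d < ht ρ := by
  have rt := h.rt
  have hs := rt.sub_mem ha.ρmem hd (by rw [rt.symm]; exact h1)
  have h2 := RA.pos_of h ha hs (by rw [rt.sub_left, h.self ha.ρmem, h1]; norm_num)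
  have h3 := h2.2
  rw [map_sub] at h3
  omega

/-- `x d`, `d` positive, normalises `Vt t` -/
theorem Vt_norm {d : L} (hd : d ∈ Pos Φ ht) {t : ℤ} {u : Y} (hu : u ∈ Vt B Φ x ht ρ t) :
    x d * u * (x d)⁻¹ ∈ Vt B Φ x ht ρ t := by
  apply h.conj_XS hd.1 (fun e he => he.1) _ _ hu
  · rintro ⟨h1, h2, -⟩
    have h3 := ha.high d hd.1 hd.2
    rw [h.rt.neg_left] at h2
    omega
  · rintro e ⟨he, he1, he2⟩ hde
    refine ⟨h.rt.add d hd.1 e he hde, ?_, ?_⟩
    · rw [h.rt.add_left]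
      have h3 := ha.high d hd.1 hd.2
      omega
    · rw [map_add]
      have := hd.2
      omega

theorem Vt_norm_U {g : Y} (hg : g ∈ XS x (Pos Φ ht)) {t : ℤ} {u : Y} (hu : u ∈ Vt B Φ x ht ρ t) :
    g * u * g⁻¹ ∈ Vt B Φ x ht ρ t := by
  have h1 : XS x (Pos Φ ht) ≤ normalizer (Vt B Φ x ht ρ t : Set Y) := by
    apply XS_le
    intro c hc
    rw [mem_normalizer_iff]
    intro u
    refine ⟨fun hu => Vt_norm h ha hc hu, fun h3 => ?_⟩
    have h4 := Vt_norm h ha hc h3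
    rw [h.inv hc.1] at h4
    have e : x c * (x c * u * x c) * x c = (x c * x c) * u * (x c * x c) := by group
    rw [e, h.sq c hc.1, one_mul, mul_one] at h4
    exact h4
  exact (mem_normalizer_iff.mp (h1 hg) u).mp hu

/-- the lowest root orthogonal to `ρ` -/
theorem exists_lowest_orth {k : Y} (hk : k ∈ XS x (Pos Φ ht)) (hkQ : k ∉ Qs B Φ x ρ) :
    ∃ c ∈ Pos Φ ht, B c ρ = 0 ∧ ∃ y ∈ XS x {d | d ∈ Pos Φ ht ∧ (0 < B d ρ ∨ ht c < ht d)}, k = x c * y := by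
  obtain ⟨N, hN⟩ := h.exists_bound
  have key : ∀ n : ℕ, k ∈ XS x {d | d ∈ Pos Φ ht ∧ (0 < B d ρ ∨ (n : ℤ) < ht d)} ∨
      ∃ c ∈ Pos Φ ht, B c ρ = 0 ∧ ∃ y ∈ XS x {d | d ∈ Pos Φ ht ∧ (0 < B d ρ ∨ ht c < ht d)}, k = x c * y := by
    intro n
    induction n with
    | zero =>
      left
      refine XS_mono ?_ hk
      exact fun c hc => ⟨hc, Or.inr hc.2⟩
    | succ n ih =>
      rcases ih with ih | ih
      swap
      · right; exact ih
      by_cases hex : ∃ c ∈ Pos Φ ht, B c ρ = 0 ∧ ht c = n + 1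
      · obtain ⟨c, hc, hcρ, hcn⟩ := hex
        have hsub : {d | d ∈ Pos Φ ht ∧ (0 < B d ρ ∨ (n : ℤ) < ht d)} ⊆
            insert c {d | d ∈ Pos Φ ht ∧ (0 < B d ρ ∨ ht c < ht d)} := by
          rintro d ⟨hd, hd'⟩
          by_cases hdc : d = c
          · left; exact hdc
          · right
            refine ⟨hd, ?_⟩
            have h1 : ht d ≠ ht c := fun h0 => hdc (h.hti d hd.1 c hc.1 h0)
            omega
        have h2 := h.mem_insert (T := {d | d ∈ Pos Φ ht ∧ (0 < B d ρ ∨ ht c < ht d)}) hc.1 (fun u hu => by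
          apply h.conj_XS hc.1 (fun d hd => hd.1.1) _ _ hu
          · rintro ⟨⟨-, h3⟩, -⟩
            have h4 := hc.2
            rw [map_neg] at h3
            omega
          · rintro d ⟨hd, hd'⟩ hcd
            refine ⟨h.closed_pos c hc d hd hcd, ?_⟩
            have h4 := hc.2
            have h5 := hd.2
            rw [h.rt.add_left, map_add, hcρ]
            omega) (XS_mono hsub ih)
        rcases h2 with h2 | h2
        · left
          rw [hcn] at h2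
          push_cast
          exact h2
        · right
          exact ⟨c, hc, hcρ, x c * k, h2, (h.cancel hc.1 k).symm⟩
      · left
        push Not at hex
        refine XS_mono ?_ ih
        rintro d ⟨hd, hd'⟩
        refine ⟨hd, ?_⟩
        by_cases h0 : 0 < B d ρ
        · left; exact h0
        · right
          have h1 := ha.high d hd.1 hd.2
          have := hex d hd (by omega)
          push_cast
          omega
  rcases key N with h1 | h1
  · exfalso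
    apply hkQ
    refine XS_mono ?_ h1
    rintro d ⟨hd, hd' | hd'⟩
    · exact ⟨hd.1, hd'⟩
    · exfalso
      have := hN d hd.1
      omega
  · exact h1

/-- `u ∈ Q` with `[k, u] ∈ x (b + c) Vt (ht b + ht c)` -/
def Lead (B : L → L → ℤ) (Φ : Set L) (x : L → Y) (ht : L →+ ℤ) (ρ c : L) (k u : Y) (b : L) : Prop :=
  u ∈ Qs B Φ x ρ ∧ (b ∈ Φ ∧ B b ρ = 1 ∧ B b c = -1) ∧
    ∃ v ∈ Vt B Φ x ht ρ (ht b + ht c), k * u * k⁻¹ * u⁻¹ = x (b + c) * v

theorem lead_root {c : L} (hc : c ∈ Pos Φ ht) (hcρ : B c ρ = 0) {y : Y}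
    (hy : y ∈ XS x {d | d ∈ Pos Φ ht ∧ (0 < B d ρ ∨ ht c < ht d)}) {b : L} (hb : b ∈ Φ) (hbρ : B b ρ = 1)
    (hbc : B b c = -1) : Lead B Φ x ht ρ c (x c * y) (x b) b := by
  have rt := h.rt
  have hbp := RA.pos_of h ha hb (by omega)
  have hcb : B c b = -1 := by rw [rt.symm]; exact hbc
  have hs := rt.add c hc.1 b hb hcb
  have e0 : c + b = b + c := add_comm c b
  have hsρ : B (c + b) ρ = 1 := by rw [rt.add_left, hcρ, hbρ]; norm_num
  have hlt := ht_lt_ρ h ha hs hsρ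
  rw [map_add] at hlt
  -- `y x_b y⁻¹ ∈ x_b V`
  have key : ∀ y ∈ XS x {d | d ∈ Pos Φ ht ∧ (0 < B d ρ ∨ ht c < ht d)},
      (x b)⁻¹ * (y * x b * y⁻¹) ∈ Vt B Φ x ht ρ (ht b + ht c) := by
    intro y hy
    have hyU : ∀ y ∈ XS x {d | d ∈ Pos Φ ht ∧ (0 < B d ρ ∨ ht c < ht d)}, y ∈ XS x (Pos Φ ht) := by
      intro y hy
      refine XS_mono ?_ hy
      exact fun d hd => hd.1
    have hbU : x b ∈ XS x (Pos Φ ht) := mem_XS hbp
    have gen : ∀ d ∈ Pos Φ ht, (0 < B d ρ ∨ ht c < ht d) → (x b)⁻¹ * (x d * x b * (x d)⁻¹) ∈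
        Vt B Φ x ht ρ (ht b + ht c) := by
      intro d hd hd'
      rcases h.cases hd.1 hb with h1 | h1 | h1
      · exfalso
        have := rt.eq_neg hd.1 hb h1
        have h2 := ha.high d hd.1 hd.2
        rw [this, rt.neg_left] at h2
        omega
      · rw [h.conj_neg hd.1 hb h1, inv_mul_cancel_left]
        have hdb := rt.add d hd.1 b hb h1
        apply mem_XS
        refine ⟨hdb, ?_, ?_⟩
        · have h2 := ha.high d hd.1 hd.2
          rw [rt.add_left]; omega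
        · rcases hd' with h2 | h2
          · have h3 : B (d + b) ρ ≤ 2 := rt.le _ hdb ρ ha.ρmem
            rw [rt.add_left] at h3
            have h4 : d + b = ρ := rt.eq _ hdb ρ ha.ρmem (by rw [rt.add_left]; omega)
            rw [h4]; omega
          · rw [map_add]; omega
      · rw [h.conj_pos hd.1 hb (by omega), inv_mul_cancel]
        exact one_mem _
    unfold XS at hy
    induction hy using closure_induction with
    | mem z hz =>
      obtain ⟨d, hd, rfl⟩ := hz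
      exact gen d hd.1 hd.2
    | one => rw [one_mul, inv_one, mul_one, inv_mul_cancel]; exact one_mem _
    | mul y1 y2 hy1 hy2 ih1 ih2 =>
      have e1 : (x b)⁻¹ * (y1 * y2 * x b * (y1 * y2)⁻¹) =
          ((x b)⁻¹ * (y1 * x b * y1⁻¹)) * (y1 * ((x b)⁻¹ * (y2 * x b * y2⁻¹)) * y1⁻¹) := by group
      rw [e1]
      exact mul_mem ih1 (Vt_norm_U h ha (hyU y1 hy1) ih2)
    | inv y1 hy1 ih1 =>
      have h3 : (x b)⁻¹ * (y1⁻¹ * x b * y1⁻¹⁻¹) =
          ((x b)⁻¹ * y1⁻¹ * x b) * (((x b)⁻¹ * (y1 * x b * y1⁻¹))⁻¹) * ((x b)⁻¹ * y1⁻¹ * x b)⁻¹ := by group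
      rw [h3]
      apply Vt_norm_U h ha _ (inv_mem ih1)
      exact mul_mem (mul_mem (inv_mem hbU) (inv_mem (hyU y1 hy1))) hbU
  have hv := key y hy
  set v := (x b)⁻¹ * (y * x b * y⁻¹) with hvd
  refine ⟨mem_XS ⟨hb, by omega⟩, ⟨hb, hbρ, hbc⟩, x b * (x c * v * (x c)⁻¹) * (x b)⁻¹, ?_, ?_⟩
  · exact Vt_norm h ha hbp (Vt_norm h ha hc hv)
  · have h1 : x c * x b * (x c)⁻¹ = x b * x (b + c) := by
      rw [h.conj_neg hc.1 hb hcb, e0]
    have h2 : x b * x (b + c) = x (b + c) * x b := by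
      apply h.comm b hb _ (by rw [← e0]; exact hs)
      rw [rt.add_right, h.self hb, hbc]; norm_num
    calc x c * y * x b * (x c * y)⁻¹ * (x b)⁻¹
        = (x c * x b * (x c)⁻¹) * (x c * ((x b)⁻¹ * (y * x b * y⁻¹)) * (x c)⁻¹) * (x b)⁻¹ := by group
      _ = (x b * x (b + c)) * (x c * v * (x c)⁻¹) * (x b)⁻¹ := by rw [h1, hvd]
      _ = x (b + c) * (x b * (x c * v * (x c)⁻¹) * (x b)⁻¹) := by rw [h2]; group

theorem Lead.mul {c : L} {k u u' : Y} {b b' : L} (h1 : Lead B Φ x ht ρ c k u b) (h2 : Lead B Φ x ht ρ c k u' b')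
    (hlt : ht b < ht b') (hcρ : B c ρ = 0) (hc : c ∈ Pos Φ ht) : Lead B Φ x ht ρ c k (u * u') b := by
  have rt := h.rt
  obtain ⟨huQ, hb, v, hv, e⟩ := h1
  obtain ⟨huQ', hb', v', hv', e'⟩ := h2
  have h3 : x (b' + c) * v' ∈ Vt B Φ x ht ρ (ht b + ht c) := by
    apply mul_mem
    · apply mem_XS
      refine ⟨rt.add b' hb'.1 c hc.1 hb'.2.2, ?_, ?_⟩
      · rw [rt.add_left, hb'.2.1, hcρ]; norm_num
      · rw [map_add]; omega
    · exact Vt_anti (by omega) hv'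
  refine ⟨mul_mem huQ huQ', hb, v * (u * (x (b' + c) * v') * u⁻¹), ?_, ?_⟩
  · apply mul_mem hv
    exact Vt_norm_U h ha (RA.Qρ_le h ha huQ) h3
  · calc k * (u * u') * k⁻¹ * (u * u')⁻¹ = (k * u * k⁻¹ * u⁻¹) * (u * (k * u' * k⁻¹ * u'⁻¹) * u⁻¹) := by group
      _ = _ := by rw [e, e', mul_assoc]

theorem Lead.ne {c : L} {k u : Y} {b : L} (h1 : Lead B Φ x ht ρ c k u b) (hcρ : B c ρ = 0) (hc : c ∈ Pos Φ ht) :
    k * u * k⁻¹ * u⁻¹ ≠ 1 := by
  have rt := h.rt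
  obtain ⟨huQ, hb, v, hv, e⟩ := h1
  rw [e]
  intro h0
  have hs := rt.add b hb.1 c hc.1 hb.2.2
  have hsp := RA.pos_of h ha hs (by rw [rt.add_left, hb.2.1, hcρ]; norm_num)
  have hmem : x (b + c) ∈ Vt B Φ x ht ρ (ht b + ht c) := by
    rw [mul_eq_one_iff_eq_inv] at h0
    rw [h0]; exact inv_mem hv
  refine h.notMem_of_notMem ?_ ?_ hsp ?_ hmem
  · exact fun d hd => RA.pos_of h ha hd.1 hd.2.1
  · rintro d ⟨hd, hd1, hd2⟩ e ⟨he, he1, he2⟩ hde
    have p1 := (RA.pos_of h ha hd hd1).2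
    refine ⟨rt.add d hd e he hde, ?_, ?_⟩
    · rw [rt.add_left]; omega
    · rw [map_add]; omega
  · rintro ⟨-, -, h3⟩
    rw [map_add] at h3
    omega

/-- the two-dimensional contradiction -/
theorem lead_two {c : L} {k w p q : Y} {b b' : L} (hcρ : B c ρ = 0) (hc : c ∈ Pos Φ ht) (hw2 : w * w = 1)
    (hk : ∀ v ∈ Qs B Φ x ρ, v * w = w * v → k * v * k⁻¹ * v⁻¹ = 1 ∨ k * v * k⁻¹ * v⁻¹ = w)
    (h1 : Lead B Φ x ht ρ c k p b) (h2 : Lead B Φ x ht ρ c k q b') (hlt : ht b < ht b') (hp : p * w = w * p)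
    (hq : q * w = w * q) : False := by
  have e1 := (hk p h1.1 hp).resolve_left (h1.ne h ha hcρ hc)
  have e2 := (hk q h2.1 hq).resolve_left (h2.ne h ha hcρ hc)
  apply (h1.mul h ha h2 hlt hcρ hc).ne h ha hcρ hc
  calc k * (p * q) * k⁻¹ * (p * q)⁻¹ = (k * p * k⁻¹ * p⁻¹) * (p * (k * q * k⁻¹ * q⁻¹) * p⁻¹) := by group
    _ = w * (p * w * p⁻¹) := by rw [e1, e2]
    _ = w * w := by rw [hp]; group
    _ = 1 := hw2

theorem lead_three {c : L} {k w : Y} {u1 u2 u3 : Y} {b1 b2 b3 : L} (hcρ : B c ρ = 0) (hc : c ∈ Pos Φ ht)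
    (hwQ : w ∈ Qs B Φ x ρ) (hw2 : w * w = 1)
    (hk : ∀ v ∈ Qs B Φ x ρ, v * w = w * v → k * v * k⁻¹ * v⁻¹ = 1 ∨ k * v * k⁻¹ * v⁻¹ = w)
    (h1 : Lead B Φ x ht ρ c k u1 b1) (h2 : Lead B Φ x ht ρ c k u2 b2) (h3 : Lead B Φ x ht ρ c k u3 b3)
    (h12 : ht b1 < ht b2) (h23 : ht b2 < ht b3) : False := by
  have hz := h.sq ρ ha.ρmem
  have hcen : ∀ u ∈ Qs B Φ x ρ, x ρ * u = u * x ρ := fun u hu => h.Q_central ha.ρmem hu
  have hd : ∀ u ∈ Qs B Φ x ρ, u * w = w * u ∨ u * w = x ρ * (w * u) := fun u hu => h.Q_comm ha.ρmem hu hwQ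
  have hprod : ∀ u ∈ Qs B Φ x ρ, ∀ v ∈ Qs B Φ x ρ, u * w = x ρ * (w * u) → v * w = x ρ * (w * v) →
      (u * v) * w = w * (u * v) := by
    intro u hu v hv e1 e2
    calc (u * v) * w = u * (v * w) := by group
      _ = (u * x ρ) * w * v := by rw [e2]; group
      _ = x ρ * (u * w) * v := by rw [← hcen u hu]; group
      _ = (x ρ * x ρ) * (w * u) * v := by rw [e1]; group
      _ = w * (u * v) := by rw [hz]; group
  rcases hd u1 h1.1 with s1 | s1 <;> rcases hd u2 h2.1 with s2 | s2 <;> rcases hd u3 h3.1 with s3 | s3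
  · exact lead_two h ha hcρ hc hw2 hk h1 h2 h12 s1 s2
  · exact lead_two h ha hcρ hc hw2 hk h1 h2 h12 s1 s2
  · exact lead_two h ha hcρ hc hw2 hk h1 h3 (by omega) s1 s3
  · exact lead_two h ha hcρ hc hw2 hk h1 (h2.mul h ha h3 h23 hcρ hc) h12 s1 (hprod _ h2.1 _ h3.1 s2 s3)
  · exact lead_two h ha hcρ hc hw2 hk h2 h3 h23 s2 s3
  · exact lead_two h ha hcρ hc hw2 hk (h1.mul h ha h3 (by omega) hcρ hc) h2 h12 (hprod _ h1.1 _ h3.1 s1 s3) s2
  · exact lead_two h ha hcρ hc hw2 hk (h1.mul h ha h2 h12 hcρ hc) h3 (by omega) (hprod _ h1.1 _ h2.1 s1 s2) s3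
  · exact lead_two h ha hcρ hc hw2 hk (h1.mul h ha h2 h12 hcρ hc) (h2.mul h ha h3 h23 hcρ hc) h12
      (hprod _ h1.1 _ h2.1 s1 s2) (hprod _ h2.1 _ h3.1 s2 s3)

/-- **No Siegel elements.** -/
theorem noSiegel {k w : Y} (hkU : k ∈ XS x (Pos Φ ht)) (hwQ : w ∈ Qs B Φ x ρ) (hw2 : w * w = 1)
    (hk : ∀ v ∈ Qs B Φ x ρ, v * w = w * v → k * v * k⁻¹ * v⁻¹ = 1 ∨ k * v * k⁻¹ * v⁻¹ = w) :
    k ∈ Qs B Φ x ρ := by
  have rt := h.rt
  by_contra hkQ
  obtain ⟨c, hc, hcρ, y, hy, rfl⟩ := exists_lowest_orth h ha hkU hkQ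
  have hcΦ := hc.1
  have hρ := ha.ρmem
  have hρc : B ρ c = 0 := by rw [rt.symm]; exact hcρ
  obtain ⟨m, hm, m1, m2⟩ := h.orth ρ hρ c hcΦ hρc
  obtain ⟨m', hm', m3, m4, m5⟩ := h.quad ρ hρ (-c) (rt.neg_mem c hcΦ) m hm (by rw [rt.neg_right, hρc, neg_zero]) m1
    (by rw [rt.neg_right, m2]; norm_num)
  rw [rt.neg_right] at m4
  have m4' : B m' c = -1 := by omega
  have s1 : ρ - m ∈ Φ := rt.sub_mem hρ hm (by rw [rt.symm]; exact m1)
  have s2 : B (ρ - m) c = 1 := by rw [rt.sub_left, hρc, m2]; norm_num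
  have s3 := rt.sub_mem s1 hcΦ s2
  have s4 : B (ρ - m - c) ρ = 1 := by rw [rt.sub_left, rt.sub_left, h.self hρ, m1, hcρ]; norm_num
  have s5 : B (ρ - m - c) c = -1 := by rw [rt.sub_left, s2, h.self hcΦ]; norm_num
  have s6 : B (ρ - m - c) m = 0 := by
    rw [rt.sub_left, rt.sub_left, rt.symm ρ m, m1, h.self hm, rt.symm c m, m2]; norm_num
  have s7 : B (ρ - m - c) m' = 1 := by
    rw [rt.sub_left, rt.sub_left, rt.symm ρ m', m3, rt.symm m m', m5, rt.symm c m', m4']; norm_num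
  have d1 : ht m ≠ ht m' := by
    intro h0
    have := h.hti m hm m' hm' h0
    rw [this, h.self hm'] at m5
    omega
  have d2 : ht m ≠ ht (ρ - m - c) := by
    intro h0
    have := h.hti m hm _ s3 h0
    rw [← this, h.self hm] at s6
    omega
  have d3 : ht m' ≠ ht (ρ - m - c) := by
    intro h0
    have := h.hti m' hm' _ s3 h0
    rw [← this, h.self hm'] at s7
    omega
  have l1 := lead_root h ha hc hcρ hy hm m1 m2
  have l2 := lead_root h ha hc hcρ hy hm' m3 m4'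
  have l3 := lead_root h ha hc hcρ hy s3 s4 s5
  rcases lt_or_gt_of_ne d1 with a1 | a1 <;> rcases lt_or_gt_of_ne d2 with a2 | a2 <;>
    rcases lt_or_gt_of_ne d3 with a3 | a3
  · exact lead_three h ha hcρ hc hwQ hw2 hk l1 l2 l3 a1 a3
  · exact lead_three h ha hcρ hc hwQ hw2 hk l1 l3 l2 a2 a3
  · omega
  · exact lead_three h ha hcρ hc hwQ hw2 hk l3 l1 l2 a2 a1
  · exact lead_three h ha hcρ hc hwQ hw2 hk l2 l1 l3 a1 a2
  · omega
  · exact lead_three h ha hcρ hc hwQ hw2 hk l2 l3 l1 a3 a2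
  · exact lead_three h ha hcρ hc hwQ hw2 hk l3 l2 l1 a3 a1

end

end Cfsg.Agent.OddHalf.D4.En2

end

-- merged: Cfsg.Agent.OddHalf.D4.En2.CaseA
section

/-!
# ODD, D4, `E_n(2)`: case (A): `N ∩ O_2(C(e)) ≠ 1` for a root element `e` centralised by `α`, `β`
(text: helper305 #11622 (A))
-/

set_option autoImplicit false
set_option linter.unusedSectionVars false

namespace Cfsg.Agent.OddHalf.D4.En2

open Subgroup Cfsg.Agent.OddHalf.SL.Defs Cfsg.Agent.OddHalf.D4.Basic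

variable {L Y : Type*} [AddCommGroup L] [Group Y]
variable {B : L → L → ℤ} {Φ : Set L} {x : L → Y} {ht : L →+ ℤ} {ρ : L} {Fl : (L →+ L) → Prop}

/-- nondegeneracy of the commutator form on `Q` -/
theorem RE.nondeg (h : RE B Φ x ht) {a : L} (ha : a ∈ Φ) {w n : Y} (hw : w ∈ Qs B Φ x a) (hn : n ∈ Qs B Φ x a)
    (hw1 : w ≠ 1) (hwa : w ≠ x a) (hw2 : w * w = 1)
    (hc : ∀ v ∈ Qs B Φ x a, v * w = w * v → v * n = n * v) : n = 1 ∨ n = x a ∨ n = w ∨ n = x a * w := by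
  have hz := h.sq a ha
  have hcen : ∀ u ∈ Qs B Φ x a, x a * u = u * x a := fun u hu => h.Q_central ha hu
  -- an element `q` not commuting with `w`
  obtain ⟨c, hcΦ, hca, hcw⟩ : ∃ c ∈ Φ, B c a = 1 ∧ w * x c ≠ x c * w := by
    by_contra hcon
    push Not at hcon
    rcases h.Q_center ha hw fun c hc hca => hcon c hc hca with h1 | h1
    · exact hw1 h1
    · exact hwa h1
  have hq : x c ∈ Qs B Φ x a := mem_XS ⟨hcΦ, by omega⟩
  set q := x c with hqd
  have hwq : w * q = x a * (q * w) := (h.Q_comm ha hw hq).resolve_left hcw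
  -- the first case
  have first : ∀ n ∈ Qs B Φ x a, (∀ v ∈ Qs B Φ x a, v * w = w * v → v * n = n * v) → n * q = q * n →
      n = 1 ∨ n = x a := by
    intro n hn hc hnq
    apply h.Q_center ha hn
    intro d hd hda
    have hd' : x d ∈ Qs B Φ x a := mem_XS ⟨hd, by omega⟩
    rcases h.Q_comm ha hw hd' with h1 | h1
    · exact (hc _ hd' h1.symm).symm
    · have h2 : (x d * q) * w = w * (x d * q) := by
        have e1 : q * w = x a * (w * q) := by rw [hwq, ← mul_assoc, hz, one_mul]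
        calc (x d * q) * w = x d * (q * w) := by group
          _ = (x d * x a) * w * q := by rw [e1]; group
          _ = (x a * (x d * w)) * q := by rw [← hcen _ hd']; group
          _ = w * (x d * q) := by rw [← h1]; group
      have h3 := hc _ (mul_mem hd' hq) h2
      have h4 : x d * n * q = n * x d * q := by
        calc x d * n * q = x d * (n * q) := by group
          _ = (x d * q) * n := by rw [hnq]; group
          _ = n * (x d * q) := h3
          _ = _ := by group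
      exact (mul_right_cancel h4).symm
  rcases h.Q_comm ha hn hq with h1 | h1
  · rcases first n hn hc h1 with h2 | h2
    · left; exact h2
    · right; left; exact h2
  · have h2 : (w * n) * q = q * (w * n) := by
      calc (w * n) * q = w * (n * q) := by group
        _ = (w * x a) * q * n := by rw [h1]; group
        _ = x a * (w * q) * n := by rw [← hcen w hw]; group
        _ = (x a * x a) * (q * w) * n := by rw [hwq]; group
        _ = _ := by rw [hz]; group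
    have h3 : ∀ v ∈ Qs B Φ x a, v * w = w * v → v * (w * n) = (w * n) * v := by
      intro v hv hvw
      have h4 := hc v hv hvw
      calc v * (w * n) = (v * w) * n := by group
        _ = w * (v * n) := by rw [hvw]; group
        _ = _ := by rw [h4]; group
    have hn2 : w * (w * n) = n := by rw [← mul_assoc, hw2, one_mul]
    rcases first _ (mul_mem hw hn) h3 h2 with h4 | h4
    · right; right; left
      rw [h4, mul_one] at hn2; exact hn2.symm
    · right; right; right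
      rw [h4, ← hcen w hw] at hn2; exact hn2.symm

theorem orderOf_two {u : Y} (h1 : u ≠ 1) (h2 : u * u = 1) : orderOf u = 2 :=
  orderOf_eq_prime (by rw [pow_two]; exact h2) h1

section

variable [Finite Y] (h : RE B Φ x ht) (ha : RA B Φ x ht ρ Fl) {α β : MulAut Y} {D N : Subgroup Y}
  (hc : Conf α β D N)
include h ha hc

theorem ρ_notMem : x ρ ∉ N := by
  intro h0
  obtain ⟨S, hS⟩ := ha.syl
  obtain ⟨s, hs, hne⟩ := hc.noCenN _ h0 (orderOf_two (h.ne ρ ha.ρmem) (h.sq ρ ha.ρmem)) S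
  apply hne
  have hs' : s ∈ XS x (Pos Φ ht) := by rw [← hS]; exact hs
  exact (RA.U_central h ha hs').symm

theorem conj_ρ_ne {γ : MulAut Y} (hγ : γ = α ∨ γ = β ∨ γ = α * β) : γ ≠ MulAut.conj (x ρ) := by
  rintro h0
  obtain ⟨S, hS⟩ := ha.syl
  obtain ⟨s, hs, hne⟩ := hc.noCen γ hγ S
  apply hne
  have hs' : s ∈ XS x (Pos Φ ht) := by rw [← hS]; exact hs
  rw [h0, MulAut.conj_apply, RA.U_central h ha hs', mul_inv_cancel_right]

/-- elements of `D ∩ Q` and `N ∩ Q` commute -/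
theorem comm_DN {d n : Y} (hd : d ∈ D) (hdQ : d ∈ Qs B Φ x ρ) (hn : n ∈ N) (hnQ : n ∈ Qs B Φ x ρ) :
    d * n = n * d := by
  rcases h.Q_comm ha.ρmem hdQ hnQ with h1 | h1
  · exact h1
  · exfalso
    apply ρ_notMem h ha hc
    have h2 := N.mul_mem (hc.norm d hd n hn) (N.inv_mem hn)
    have e : d * n * d⁻¹ * n⁻¹ = x ρ := by rw [h1]; group
    rw [e] at h2
    exact h2

/-- the involution of `N ∩ Q` -/
theorem exists_w0 (hne : ∃ n ∈ N, n ∈ Qs B Φ x ρ ∧ n ≠ 1) :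
    ∃ w ∈ N, w ∈ Qs B Φ x ρ ∧ w ≠ 1 ∧ w ≠ x ρ ∧ w * w = 1 ∧ (∀ n ∈ N, n ∈ Qs B Φ x ρ → n = 1 ∨ n = w) ∧
      ∀ v ∈ Qs B Φ x ρ, v * w = w * v → v ∈ D := by
  have h2 : IsPGroup 2 ↥(N ⊓ Qs B Φ x ρ : Subgroup Y) := (RA.Q_two h ha ha.ρmem).to_le inf_le_right
  obtain ⟨w, hw, hw2⟩ := exists_invol_of_two h2 (by
    obtain ⟨n, hn, hnQ, hn1⟩ := hne
    intro h0
    have : n ∈ (N ⊓ Qs B Φ x ρ : Subgroup Y) := ⟨hn, hnQ⟩
    rw [h0, mem_bot] at this
    exact hn1 this)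
  have hw1 : w ≠ 1 := by
    rintro rfl
    rw [orderOf_one] at hw2
    omega
  have hww : w * w = 1 := by rw [← pow_two, ← hw2]; exact pow_orderOf_eq_one w
  have hwρ : w ≠ x ρ := by
    rintro rfl
    exact ρ_notMem h ha hc hw.1
  have hD : ∀ v ∈ Qs B Φ x ρ, v * w = w * v → v ∈ D := fun v _ hvw => hc.cenN w hw.1 hw2 v hvw
  refine ⟨w, hw.1, hw.2, hw1, hwρ, hww, fun n hn hnQ => ?_, hD⟩
  rcases h.nondeg ha.ρmem hw.2 hnQ hw1 hwρ hww (fun v hv hvw => comm_DN h ha hc (hD v hv hvw) hv hn hnQ) with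
    h3 | h3 | h3 | h3
  · left; exact h3
  · exfalso
    rw [h3] at hn
    exact ρ_notMem h ha hc hn
  · right; exact h3
  · exfalso
    rw [h3] at hn
    apply ρ_notMem h ha hc
    have h4 := N.mul_mem hn (N.inv_mem hw.1)
    rwa [mul_inv_cancel_right] at h4

/-- an inner `γ` is `w0` or `x ρ * w0` -/
theorem inner_eq {w : Y} (hwQ : w ∈ Qs B Φ x ρ) (hw1 : w ≠ 1) (hwρ : w ≠ x ρ) (hw2 : w * w = 1)
    (hN : ∀ n ∈ N, n ∈ Qs B Φ x ρ → n = 1 ∨ n = w) (hD : ∀ v ∈ Qs B Φ x ρ, v * w = w * v → v ∈ D)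
    {k : Y} (hγ : MulAut.conj k = α ∨ MulAut.conj k = β ∨ MulAut.conj k = α * β) (hγ1 : MulAut.conj k ≠ 1)
    (hγU : ∀ u ∈ XS x (Pos Φ ht), MulAut.conj k u ∈ XS x (Pos Φ ht)) : k = w ∨ k = x ρ * w := by
  have hkU : k ∈ XS x (Pos Φ ht) := ha.norm k hγU
  have hkρ : k * x ρ = x ρ * k := (RA.U_central h ha hkU).symm
  have hk : ∀ v ∈ Qs B Φ x ρ, v * w = w * v → k * v * k⁻¹ * v⁻¹ = 1 ∨ k * v * k⁻¹ * v⁻¹ = w := by
    intro v hv hvw
    apply hN
    · exact hc.comm _ hγ v (hD v hv hvw)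
    · exact mul_mem (h.Q_norm ha.ρmem hkρ hv) (inv_mem hv)
  have hkQ := noSiegel h ha hkU hwQ hw2 hk
  have hk' : ∀ v ∈ Qs B Φ x ρ, v * w = w * v → v * k = k * v := by
    intro v hv hvw
    rcases h.Q_comm ha.ρmem hkQ hv with h1 | h1
    · exact h1.symm
    · exfalso
      have e : k * v * k⁻¹ * v⁻¹ = x ρ := by rw [h1]; group
      rcases hk v hv hvw with h2 | h2
      · rw [e] at h2
        exact h.ne ρ ha.ρmem h2
      · rw [e] at h2
        exact hwρ h2.symm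
  rcases h.nondeg ha.ρmem hwQ hkQ hw1 hwρ hw2 hk' with h3 | h3 | h3 | h3
  · exfalso
    apply hγ1
    rw [h3, map_one]
  · exfalso
    exact conj_ρ_ne h ha hc hγ (by rw [h3])
  · left; exact h3
  · right; exact h3

/-- **Case (A), all inner.** -/
theorem caseA_inner (hne : ∃ n ∈ N, n ∈ Qs B Φ x ρ ∧ n ≠ 1) (hαU : ∀ u ∈ XS x (Pos Φ ht), α u ∈ XS x (Pos Φ ht))
    (hβU : ∀ u ∈ XS x (Pos Φ ht), β u ∈ XS x (Pos Φ ht)) {a b : Y} (hα : α = MulAut.conj a)
    (hβ : β = MulAut.conj b) : False := by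
  obtain ⟨w, hwN, hwQ, hw1, hwρ, hw2, hN, hD⟩ := exists_w0 h ha hc hne
  have hab1 : α * β ≠ 1 := by
    intro h0
    apply hc.ne
    have h1 := hc.aa
    have h2 : α * (α * β) = α := by rw [h0, mul_one]
    rw [← mul_assoc, h1, one_mul] at h2
    exact h2.symm
  have e1 := inner_eq h ha hc hwQ hw1 hwρ hw2 hN hD (k := a) (Or.inl hα.symm) (by rw [← hα]; exact hc.a1)
    (by rw [← hα]; exact hαU)
  have e2 := inner_eq h ha hc hwQ hw1 hwρ hw2 hN hD (k := b) (Or.inr (Or.inl hβ.symm)) (by rw [← hβ]; exact hc.b1)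
    (by rw [← hβ]; exact hβU)
  have e3 := inner_eq h ha hc hwQ hw1 hwρ hw2 hN hD (k := a * b)
    (Or.inr (Or.inr (by rw [map_mul, hα, hβ]))) (by rw [map_mul, ← hα, ← hβ]; exact hab1)
    (by rw [map_mul, ← hα, ← hβ]; exact fun u hu => hαU _ (hβU u hu))
  have hz := h.sq ρ ha.ρmem
  have hcw : x ρ * w = w * x ρ := h.Q_central ha.ρmem hwQ
  have f1 : w * (x ρ * w) = x ρ := by rw [hcw, ← mul_assoc, hw2, one_mul]
  have f2 : x ρ * w * w = x ρ := by rw [mul_assoc, hw2, mul_one]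
  have f3 : x ρ * w * (x ρ * w) = 1 := by
    calc x ρ * w * (x ρ * w) = x ρ * (w * (x ρ * w)) := by group
      _ = 1 := by rw [f1, hz]
  have key : ∀ t : Y, (t = 1 ∨ t = x ρ) → ¬ (t = w ∨ t = x ρ * w) := by
    rintro t (rfl | rfl) (h1 | h1)
    · exact hw1 h1.symm
    · apply hwρ
      have h2 : x ρ * (x ρ * w) = x ρ := by rw [← h1, mul_one]
      rw [← mul_assoc, hz, one_mul] at h2
      exact h2
    · exact hwρ h1.symm
    · apply hw1
      have h2 : x ρ * (x ρ * w) = x ρ * x ρ := by rw [← h1]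
      rw [← mul_assoc, hz, one_mul] at h2
      exact h2
  apply key (a * b) _ e3
  rcases e1 with rfl | rfl <;> rcases e2 with rfl | rfl
  · left; exact hw2
  · right; exact f1
  · right; exact f2
  · left; exact f3

end

end Cfsg.Agent.OddHalf.D4.En2

end

-- merged: Cfsg.Agent.OddHalf.D4.En2.Comb
section

/-!
# ODD, D4, `E_n(2)`: cones of orthogonal sets of roots (text: helper305 #11622 (D), (E))

`Cone F = {a : ⟨a, r⟩ ≥ 0 for all r ∈ F}`, `F` a set of pairwise orthogonal roots.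
* `conn` : `Cone F` is connected under `⟨a, a'⟩ = 1`;
* `cone_cone` : `⟨b, s⟩ ≥ 0` for all `s ∈ Cone F` implies `b ∈ F` or `2 b = r₁ + r₂ + r₃ + r₄`.
-/

set_option autoImplicit false
set_option linter.unusedSectionVars false

namespace Cfsg.Agent.OddHalf.D4.En2

open Subgroup Cfsg.Agent.OddHalf.SL.Defs

variable {L Y : Type*} [AddCommGroup L] [Group Y]
variable {B : L → L → ℤ} {Φ : Set L} {x : L → Y} {ht : L →+ ℤ}

/-- the cone of `F` -/
def Cone (B : L → L → ℤ) (Φ : Set L) (F : List L) : Set L := {c | c ∈ Φ ∧ ∀ r ∈ F, 0 ≤ B c r}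

/-- Adding to `c` the roots `r ∈ F` with `⟨c, r⟩ = -1`. -/
theorem exists_plus (rt : Roots B Φ) {F : List L} (hF : Ort B Φ F) {c : L} (hc : c ∈ Φ)
    (hne : ∀ r ∈ F, B c r ≠ -2) :
    ∃ c' ∈ Φ, (∀ r ∈ F, 0 ≤ B c' r) ∧ (∀ y, (∀ r ∈ F, 0 ≤ B r y) → B c y ≤ B c' y) ∧
      (∀ y, (∀ r ∈ F, B c r = -1 → B r y = 0) → B c' y = B c y) ∧
      (∀ f : L →+ ℤ, (∀ r ∈ F, 0 ≤ f r) → f c ≤ f c') ∧
      (∀ τ : L →+ L, (∀ r ∈ F, τ r = r) → τ c' - c' = τ c - c) := by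
  induction F with
  | nil =>
    exact ⟨c, hc, by simp, fun _ _ => le_rfl, fun _ _ => rfl, fun _ _ => le_rfl, fun _ _ => rfl⟩
  | cons r F ih =>
    obtain ⟨c1, hc1, h1, h2, h3, h4, h5⟩ := ih hF.tail fun s hs => hne s (List.mem_cons_of_mem _ hs)
    have hr := hF.head
    have e1 : B c1 r = B c r := h3 r fun s hs _ => by rw [rt.symm]; exact hF.orth s hs
    have hcr : -2 ≤ B c r := rt.ge hc hr
    have hcr' := hne r List.mem_cons_self
    by_cases h6 : B c r = -1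
    · refine ⟨c1 + r, rt.add c1 hc1 r hr (by rw [e1, h6]), ?_, ?_, ?_, ?_, ?_⟩
      · intro s hs
        rcases List.mem_cons.mp hs with rfl | hs
        · rw [rt.add_left, e1, h6, rt.two _ hr]; norm_num
        · rw [rt.add_left, hF.orth s hs, add_zero]
          exact h1 s hs
      · intro y hy
        have h7 := h2 y fun s hs => hy s (List.mem_cons_of_mem _ hs)
        have h8 := hy r List.mem_cons_self
        rw [rt.add_left]; omega
      · intro y hy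
        rw [rt.add_left, hy r List.mem_cons_self h6, add_zero]
        exact h3 y fun s hs => hy s (List.mem_cons_of_mem _ hs)
      · intro f hf
        have h7 := h4 f fun s hs => hf s (List.mem_cons_of_mem _ hs)
        have h8 := hf r List.mem_cons_self
        rw [map_add]; omega
      · intro τ hτ
        have h7 := h5 τ fun s hs => hτ s (List.mem_cons_of_mem _ hs)
        rw [map_add, hτ r List.mem_cons_self, ← h7]
        abel
    · refine ⟨c1, hc1, ?_, ?_, ?_, ?_, ?_⟩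
      · intro s hs
        rcases List.mem_cons.mp hs with rfl | hs
        · rw [e1]; omega
        · exact h1 s hs
      · intro y hy
        exact h2 y fun s hs => hy s (List.mem_cons_of_mem _ hs)
      · intro y hy
        exact h3 y fun s hs => hy s (List.mem_cons_of_mem _ hs)
      · intro f hf
        exact h4 f fun s hs => hf s (List.mem_cons_of_mem _ hs)
      · intro τ hτ
        exact h5 τ fun s hs => hτ s (List.mem_cons_of_mem _ hs)

namespace RE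

variable (h : RE B Φ x ht)
include h

theorem mem_cone {F : List L} (hF : Ort B Φ F) {r : L} (hr : r ∈ F) : r ∈ Cone B Φ F := by
  refine ⟨hF.mem r hr, fun s hs => ?_⟩
  by_cases hrs : r = s
  · subst hrs; rw [h.self (hF.mem r hr)]; norm_num
  · rw [hF.eq_zero h.rt hr hs hrs]

/-- **The cone of a set of orthogonal roots is connected.** -/
theorem conn {F : List L} (hF : Ort B Φ F) (hne : F ≠ []) {P : L → Prop}
    (hP : ∀ a ∈ Cone B Φ F, P a → ∀ c ∈ Cone B Φ F, B a c = 1 → P c) {a : L} (ha : a ∈ Cone B Φ F) (hPa : P a)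
    {c : L} (hc : c ∈ Cone B Φ F) : P c := by
  have rt := h.rt
  -- step `-1`
  have s1 : ∀ a ∈ Cone B Φ F, P a → ∀ c ∈ Cone B Φ F, B a c = -1 → P c := by
    intro a ha hPa c hc hac
    have hs : a + c ∈ Cone B Φ F := by
      refine ⟨rt.add a ha.1 c hc.1 hac, fun r hr => ?_⟩
      have := ha.2 r hr
      have := hc.2 r hr
      rw [rt.add_left]; omega
    have h1 : B a (a + c) = 1 := by rw [rt.add_right, h.self ha.1, hac]; norm_num
    have h2 : B (a + c) c = 1 := by rw [rt.add_left, h.self hc.1, hac]; norm_num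
    exact hP _ hs (hP a ha hPa _ hs h1) c hc h2
  rcases h.cases ha.1 hc.1 with h1 | h1 | h1 | h1 | h1
  · -- `c = -a`
    have hca : a = -c := rt.eq_neg ha.1 hc.1 h1
    obtain ⟨r, hr⟩ := List.exists_mem_of_ne_nil F hne
    have har : ∀ r ∈ F, B a r = 0 := by
      intro r hr
      have h2 := ha.2 r hr
      have h3 := hc.2 r hr
      rw [hca, rt.neg_left] at h2 ⊢
      omega
    obtain ⟨m, hm, hma, hmr⟩ := h.orth a ha.1 r (hF.mem r hr) (har r hr)
    obtain ⟨m', hm', g1, g2, g3, -, -⟩ := exists_plus rt hF hm (by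
      intro s hs hms
      have : m = -s := rt.eq_neg hm (hF.mem s hs) hms
      rw [this, rt.neg_left, rt.symm, har s hs] at hma
      omega)
    have e1 : B m' a = 1 := by
      rw [g3 a fun s hs _ => by rw [rt.symm]; exact har s hs, hma]
    have hm'c : m' ∈ Cone B Φ F := ⟨hm', g1⟩
    apply s1 m' hm'c (hP a ha hPa m' hm'c (by rw [rt.symm]; exact e1)) c hc
    have e2 : c = -a := by rw [hca, neg_neg]
    rw [e2, rt.neg_right, e1]
  · exact s1 a ha hPa c hc h1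
  · -- orthogonal
    obtain ⟨m, hm, hma, hmc⟩ := h.orth a ha.1 (-c) (rt.neg_mem c hc.1) (by rw [rt.neg_right, h1, neg_zero])
    rw [rt.neg_right] at hmc
    have hmc' : B m c = 1 := by omega
    obtain ⟨m', hm', g1, g2, g3, -, -⟩ := exists_plus rt hF hm (by
      intro s hs hms
      have : m = -s := rt.eq_neg hm (hF.mem s hs) hms
      have h2 := ha.2 s hs
      rw [this, rt.neg_left, rt.symm] at hma
      omega)
    have hm'c : m' ∈ Cone B Φ F := ⟨hm', g1⟩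
    have e1 := g2 a fun r hr => by rw [rt.symm]; exact ha.2 r hr
    have e2 := g2 c fun r hr => by rw [rt.symm]; exact hc.2 r hr
    have e3 := rt.le m' hm' a ha.1
    have e4 := rt.le m' hm' c hc.1
    have e5 : B m' a ≠ 2 := by
      intro h0
      have := rt.eq m' hm' a ha.1 h0
      rw [this] at e2
      omega
    have e6 : B m' c ≠ 2 := by
      intro h0
      have := rt.eq m' hm' c hc.1 h0
      rw [this, rt.symm c a] at e1
      omega
    exact hP m' hm'c (hP a ha hPa m' hm'c (by rw [rt.symm]; omega)) c hc (by omega)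
  · exact hP a ha hPa c hc h1
  · rw [← rt.eq a ha.1 c hc.1 h1]; exact hPa

/-- **The double cone.** -/
theorem cone_cone {F : List L} (hF : Ort B Φ F) {b : L} (hb : b ∈ Φ)
    (hbc : ∀ s ∈ Cone B Φ F, 0 ≤ B b s) :
    b ∈ F ∨ ∃ r1 r2 r3 r4 : L, ∃ F' : List L, F.Perm (r1 :: r2 :: r3 :: r4 :: F') ∧ b + b = r1 + r2 + r3 + r4 ∧
      B b r1 = 1 ∧ B b r2 = 1 ∧ B b r3 = 1 ∧ B b r4 = 1 := by
  have rt := h.rt
  by_cases hbF : b ∈ F
  · left; exact hbF
  right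
  have h0 : ∀ r ∈ F, B b r = 0 ∨ B b r = 1 := by
    intro r hr
    have h1 := hbc r (h.mem_cone hF hr)
    have h2 := rt.le b hb r (hF.mem r hr)
    have h3 : B b r ≠ 2 := fun h4 => hbF (by rw [rt.eq b hb r (hF.mem r hr) h4]; exact hr)
    omega
  have hp := (List.filter_append_perm (fun r => decide (B b r = 1)) F).symm
  set I := F.filter (fun r => decide (B b r = 1)) with hI
  set J := F.filter (fun r => !decide (B b r = 1)) with hJ
  have hJ0 : ∀ r ∈ J, B b r = 0 := by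
    intro r hr
    rw [hJ, List.mem_filter] at hr
    rcases h0 r hr.1 with h1 | h1
    · exact h1
    · simp [h1] at hr
  have hI1 : ∀ r ∈ I, B b r = 1 := by
    intro r hr
    rw [hI, List.mem_filter] at hr
    simpa using hr.2
  have hO : Ort B Φ (I ++ J) := hF.perm rt hp
  have hmemF : ∀ r, r ∈ F ↔ r ∈ I ∨ r ∈ J := fun r => by rw [hp.mem_iff, List.mem_append]
  clear_value I J
  have hbb := h.self hb
  rcases I with _ | ⟨r1, _ | ⟨r2, _ | ⟨r3, _ | ⟨r4, I⟩⟩⟩⟩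
  · -- `b ⊥ F`
    exfalso
    have h1 := hbc (-b) ⟨rt.neg_mem b hb, fun r hr => by
      rw [rt.neg_left]
      rcases (hmemF r).mp hr with h2 | h2
      · simp at h2
      · rw [hJ0 r h2]; norm_num⟩
    rw [rt.neg_right] at h1
    omega
  · -- one
    exfalso
    have hr1 : r1 ∈ Φ := hO.mem r1 (by simp)
    have b1 := hI1 r1 (by simp)
    have o1 : ∀ r ∈ J, B r1 r = 0 := fun r hr => hO.eq_zero rt (by simp) (by simp [hr]) (by
      rintro rfl
      have := hJ0 _ hr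
      omega)
    have hs : r1 - b ∈ Φ := rt.sub_mem hr1 hb (by rw [rt.symm]; exact b1)
    have h1 := hbc (r1 - b) ⟨hs, fun r hr => by
      rw [rt.sub_left]
      rcases (hmemF r).mp hr with h2 | h2
      · rw [List.mem_singleton] at h2
        rw [h2, h.self hr1, b1]; norm_num
      · rw [o1 r h2, hJ0 r h2]; norm_num⟩
    rw [rt.sub_right, b1] at h1
    omega
  · -- two
    exfalso
    have hr1 : r1 ∈ Φ := hO.mem r1 (by simp)
    have hr2 : r2 ∈ Φ := hO.mem r2 (by simp)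
    have b1 := hI1 r1 (by simp)
    have b2 := hI1 r2 (by simp)
    have o12 : B r1 r2 = 0 := by
      have h2 := hO.orth r2 (by simp)
      exact h2
    obtain ⟨g, hg, g1, g2, g3⟩ := h.quad r1 hr1 r2 hr2 b hb o12 b1 b2
    have hs : g - b ∈ Φ := rt.sub_mem hg hb g3
    have hval : ∀ r ∈ F, B (g - b) r = B g r ∧ B b r = 0 ∨ B (g - b) r = 0 := by
      intro r hr
      rcases (hmemF r).mp hr with h2 | h2
      · right
        rw [rt.sub_left]
        rcases List.mem_cons.mp h2 with h3 | h3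
        · rw [h3]; omega
        · rw [List.mem_singleton] at h3
          rw [h3]; omega
      · left
        rw [rt.sub_left, hJ0 r h2]
        exact ⟨by ring, rfl⟩
    obtain ⟨s, hs', k1, k2, k3, -, -⟩ := exists_plus rt hF hs (by
      intro r hr h2
      rcases hval r hr with ⟨h3, h4⟩ | h3
      · rw [h3] at h2
        have h5 : g = -r := rt.eq_neg hg (hF.mem r hr) h2
        rw [h5, rt.neg_left, rt.symm, h4] at g3
        omega
      · omega)
    have h1 := hbc s ⟨hs', k1⟩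
    have e1 : B s b = B (g - b) b := k3 b (by
      intro r hr h2
      rcases hval r hr with ⟨h3, h4⟩ | h3
      · rw [rt.symm]; exact h4
      · omega)
    rw [rt.symm, e1, rt.sub_left] at h1
    omega
  · -- three
    exfalso
    have hr1 : r1 ∈ Φ := hO.mem r1 (by simp)
    have hr2 : r2 ∈ Φ := hO.mem r2 (by simp)
    have hr3 : r3 ∈ Φ := hO.mem r3 (by simp)
    have b1 := hI1 r1 (by simp)
    have b2 := hI1 r2 (by simp)
    have b3 := hI1 r3 (by simp)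
    have o12 : B r1 r2 = 0 := hO.orth r2 (by simp)
    have o13 : B r1 r3 = 0 := hO.orth r3 (by simp)
    have o23 : B r2 r3 = 0 := hO.tail.orth r3 (by simp)
    have o21 : B r2 r1 = 0 := by rw [rt.symm]; exact o12
    have o31 : B r3 r1 = 0 := by rw [rt.symm]; exact o13
    have o32 : B r3 r2 = 0 := by rw [rt.symm]; exact o23
    have hoJ : ∀ r ∈ J, B r1 r = 0 ∧ B r2 r = 0 ∧ B r3 r = 0 := by
      intro r hr
      refine ⟨hO.orth r (by simp [hr]), hO.tail.orth r (by simp [hr]), hO.tail.tail.orth r (by simp [hr])⟩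
    have q1 : b - r1 ∈ Φ := rt.sub_mem hb hr1 b1
    have q2 : b - r1 - r2 ∈ Φ := rt.sub_mem q1 hr2 (by rw [rt.sub_left, b2, o12]; norm_num)
    have q3 : b - r1 - r2 - r3 ∈ Φ := rt.sub_mem q2 hr3 (by rw [rt.sub_left, rt.sub_left, b3, o13, o23]; norm_num)
    have q4 : B (b - r1 - r2 - r3) b = -1 := by
      rw [rt.sub_left, rt.sub_left, rt.sub_left, hbb, rt.symm r1, rt.symm r2, rt.symm r3, b1, b2, b3]; norm_num
    have q5 := rt.neg_mem _ (rt.add _ q3 b hb q4)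
    have h1 := hbc _ ⟨q5, fun r hr => by
      rw [rt.neg_left, rt.add_left, rt.sub_left, rt.sub_left, rt.sub_left]
      rcases (hmemF r).mp hr with h2 | h2
      · simp only [List.mem_cons, List.not_mem_nil, or_false] at h2
        rcases h2 with rfl | rfl | rfl
        · rw [b1, h.self hr1, o21, o31]; norm_num
        · rw [b2, h.self hr2, o12, o32]; norm_num
        · rw [b3, h.self hr3, o13, o23]; norm_num
      · obtain ⟨j1, j2, j3⟩ := hoJ r h2
        rw [hJ0 r h2, j1, j2, j3]; norm_num⟩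
    rw [rt.neg_right, rt.add_right, rt.sub_right, rt.sub_right, rt.sub_right] at h1
    omega
  · -- four
    have hr1 : r1 ∈ Φ := hO.mem r1 (by simp)
    have hr2 : r2 ∈ Φ := hO.mem r2 (by simp)
    have hr3 : r3 ∈ Φ := hO.mem r3 (by simp)
    have hr4 : r4 ∈ Φ := hO.mem r4 (by simp)
    have b1 := hI1 r1 (by simp)
    have b2 := hI1 r2 (by simp)
    have b3 := hI1 r3 (by simp)
    have b4 := hI1 r4 (by simp)
    have o12 : B r1 r2 = 0 := hO.orth r2 (by simp)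
    have o13 : B r1 r3 = 0 := hO.orth r3 (by simp)
    have o14 : B r1 r4 = 0 := hO.orth r4 (by simp)
    have o23 : B r2 r3 = 0 := hO.tail.orth r3 (by simp)
    have o24 : B r2 r4 = 0 := hO.tail.orth r4 (by simp)
    have o34 : B r3 r4 = 0 := hO.tail.tail.orth r4 (by simp)
    have q1 : b - r1 ∈ Φ := rt.sub_mem hb hr1 b1
    have q2 : b - r1 - r2 ∈ Φ := rt.sub_mem q1 hr2 (by rw [rt.sub_left, b2, o12]; norm_num)
    have q3 : b - r1 - r2 - r3 ∈ Φ := rt.sub_mem q2 hr3 (by rw [rt.sub_left, rt.sub_left, b3, o13, o23]; norm_num)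
    have q4 : b - r1 - r2 - r3 - r4 ∈ Φ := rt.sub_mem q3 hr4 (by
      rw [rt.sub_left, rt.sub_left, rt.sub_left, b4, o14, o24, o34]; norm_num)
    have q5 : B (b - r1 - r2 - r3 - r4) b = -2 := by
      rw [rt.sub_left, rt.sub_left, rt.sub_left, rt.sub_left, hbb, rt.symm r1, rt.symm r2, rt.symm r3, rt.symm r4,
        b1, b2, b3, b4]; norm_num
    have q6 := rt.eq_neg q4 hb q5
    refine ⟨r1, r2, r3, r4, I ++ J, hp, ?_, b1, b2, b3, b4⟩
    have q7 : b - r1 - r2 - r3 - r4 + b = 0 := by rw [q6]; abel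
    calc b + b = (b - r1 - r2 - r3 - r4 + b) + (r1 + r2 + r3 + r4) := by abel
      _ = r1 + r2 + r3 + r4 := by rw [q7, zero_add]

end RE

end Cfsg.Agent.OddHalf.D4.En2

end

-- merged: Cfsg.Agent.OddHalf.D4.En2.Quad
section

/-!
# ODD, D4, `E_n(2)`: a product of four root elements for a `D_4`-frame is conjugate to a product of three
-/

set_option autoImplicit false
set_option linter.unusedSectionVars false
set_option linter.unusedSimpArgs false
set_option linter.unusedVariables false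

namespace Cfsg.Agent.OddHalf.D4.En2

open Subgroup Cfsg.Agent.OddHalf.SL.Defs

/-- the word computation (`a i = x (r i)`, `b i = x (b - r i)`, `z = x b`) -/
theorem word {Y : Type*} [Group Y] {z a1 a2 a3 a4 b1 b2 b3 b4 c1 c2 c3 c4 : Y}
    (s_z : z * z = 1)
    (s_a1 : a1 * a1 = 1)
    (s_a2 : a2 * a2 = 1)
    (s_a3 : a3 * a3 = 1)
    (s_a4 : a4 * a4 = 1)
    (s_b1 : b1 * b1 = 1)
    (s_b2 : b2 * b2 = 1)
    (s_b3 : b3 * b3 = 1)
    (s_b4 : b4 * b4 = 1)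
    (k_za1 : a1 * z = z * a1)
    (k_za2 : a2 * z = z * a2)
    (k_za3 : a3 * z = z * a3)
    (k_za4 : a4 * z = z * a4)
    (k_zb1 : b1 * z = z * b1)
    (k_zb2 : b2 * z = z * b2)
    (k_zb3 : b3 * z = z * b3)
    (k_zb4 : b4 * z = z * b4)
    (k_a1a2 : a2 * a1 = a1 * a2)
    (k_a1a3 : a3 * a1 = a1 * a3)
    (k_a1a4 : a4 * a1 = a1 * a4)
    (k_a1b1 : b1 * a1 = z * (a1 * b1))
    (k_a1b2 : b2 * a1 = a1 * b2)
    (k_a1b3 : b3 * a1 = a1 * b3)
    (k_a1b4 : b4 * a1 = a1 * b4)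
    (k_a2a3 : a3 * a2 = a2 * a3)
    (k_a2a4 : a4 * a2 = a2 * a4)
    (k_a2b1 : b1 * a2 = a2 * b1)
    (k_a2b2 : b2 * a2 = z * (a2 * b2))
    (k_a2b3 : b3 * a2 = a2 * b3)
    (k_a2b4 : b4 * a2 = a2 * b4)
    (k_a3a4 : a4 * a3 = a3 * a4)
    (k_a3b1 : b1 * a3 = a3 * b1)
    (k_a3b2 : b2 * a3 = a3 * b2)
    (k_a3b3 : b3 * a3 = z * (a3 * b3))
    (k_a3b4 : b4 * a3 = a3 * b4)
    (k_a4b1 : b1 * a4 = a4 * b1)
    (k_a4b2 : b2 * a4 = a4 * b2)
    (k_a4b3 : b3 * a4 = a4 * b3)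
    (k_a4b4 : b4 * a4 = z * (a4 * b4))
    (k_b1b2 : b2 * b1 = b1 * b2)
    (k_b1b3 : b3 * b1 = b1 * b3)
    (k_b1b4 : b4 * b1 = b1 * b4)
    (k_b2b3 : b3 * b2 = b2 * b3)
    (k_b2b4 : b4 * b2 = b2 * b4)
    (k_b3b4 : b4 * b3 = b3 * b4)
    (c1_a1 : c1 * a1 * c1⁻¹ = a1)
    (c1_a2 : c1 * a2 * c1⁻¹ = a2)
    (c1_a3 : c1 * a3 * c1⁻¹ = a3 * b4)
    (c1_a4 : c1 * a4 * c1⁻¹ = a4 * b3)
    (c2_z : c2 * z * c2⁻¹ = z)
    (c2_a1 : c2 * a1 * c2⁻¹ = a1 * b3)
    (c2_a2 : c2 * a2 * c2⁻¹ = a2)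
    (c2_a3 : c2 * a3 * c2⁻¹ = a3 * b1)
    (c2_b4 : c2 * b4 * c2⁻¹ = b4 * a2)
    (c2_a4 : c2 * a4 * c2⁻¹ = a4)
    (c2_b3 : c2 * b3 * c2⁻¹ = b3)
    (c3_a1 : c3 * a1 * c3⁻¹ = a1)
    (c3_a3 : c3 * a3 * c3⁻¹ = a3 * b2)
    (c3_b1 : c3 * b1 * c3⁻¹ = b1 * a4)
    (c3_b4 : c3 * b4 * c3⁻¹ = b4 * a1)
    (c3_a4 : c3 * a4 * c3⁻¹ = a4)
    (c4_z : c4 * z * c4⁻¹ = z)
    (c4_a3 : c4 * a3 * c4⁻¹ = a3)
    (c4_b2 : c4 * b2 * c4⁻¹ = b2)
    (c4_b1 : c4 * b1 * c4⁻¹ = b1)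
    (c4_b4 : c4 * b4 * c4⁻¹ = b4 * a3)
    : (a4 * (c4 * (c3 * (c2 * c1)))) * (a1 * (a2 * (a3 * a4))) * (a4 * (c4 * (c3 * (c2 * c1))))⁻¹ = b1 * (b2 * b4) := by
  have s_z' : ∀ t, z * (z * t) = t := fun t => by rw [← mul_assoc, s_z, one_mul]
  have s_a1' : ∀ t, a1 * (a1 * t) = t := fun t => by rw [← mul_assoc, s_a1, one_mul]
  have s_a2' : ∀ t, a2 * (a2 * t) = t := fun t => by rw [← mul_assoc, s_a2, one_mul]
  have s_a3' : ∀ t, a3 * (a3 * t) = t := fun t => by rw [← mul_assoc, s_a3, one_mul]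
  have s_a4' : ∀ t, a4 * (a4 * t) = t := fun t => by rw [← mul_assoc, s_a4, one_mul]
  have s_b1' : ∀ t, b1 * (b1 * t) = t := fun t => by rw [← mul_assoc, s_b1, one_mul]
  have s_b2' : ∀ t, b2 * (b2 * t) = t := fun t => by rw [← mul_assoc, s_b2, one_mul]
  have s_b3' : ∀ t, b3 * (b3 * t) = t := fun t => by rw [← mul_assoc, s_b3, one_mul]
  have s_b4' : ∀ t, b4 * (b4 * t) = t := fun t => by rw [← mul_assoc, s_b4, one_mul]
  have k_za1' : ∀ t, a1 * (z * t) = z * (a1 * t) := fun t => by rw [← mul_assoc, k_za1, mul_assoc]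
  have k_za2' : ∀ t, a2 * (z * t) = z * (a2 * t) := fun t => by rw [← mul_assoc, k_za2, mul_assoc]
  have k_za3' : ∀ t, a3 * (z * t) = z * (a3 * t) := fun t => by rw [← mul_assoc, k_za3, mul_assoc]
  have k_za4' : ∀ t, a4 * (z * t) = z * (a4 * t) := fun t => by rw [← mul_assoc, k_za4, mul_assoc]
  have k_zb1' : ∀ t, b1 * (z * t) = z * (b1 * t) := fun t => by rw [← mul_assoc, k_zb1, mul_assoc]
  have k_zb2' : ∀ t, b2 * (z * t) = z * (b2 * t) := fun t => by rw [← mul_assoc, k_zb2, mul_assoc]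
  have k_zb3' : ∀ t, b3 * (z * t) = z * (b3 * t) := fun t => by rw [← mul_assoc, k_zb3, mul_assoc]
  have k_zb4' : ∀ t, b4 * (z * t) = z * (b4 * t) := fun t => by rw [← mul_assoc, k_zb4, mul_assoc]
  have k_a1a2' : ∀ t, a2 * (a1 * t) = a1 * (a2 * t) := fun t => by rw [← mul_assoc, k_a1a2, mul_assoc]
  have k_a1a3' : ∀ t, a3 * (a1 * t) = a1 * (a3 * t) := fun t => by rw [← mul_assoc, k_a1a3, mul_assoc]
  have k_a1a4' : ∀ t, a4 * (a1 * t) = a1 * (a4 * t) := fun t => by rw [← mul_assoc, k_a1a4, mul_assoc]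
  have k_a1b1' : ∀ t, b1 * (a1 * t) = z * (a1 * (b1 * t)) := fun t => by rw [← mul_assoc, k_a1b1]; simp only [mul_assoc]
  have k_a1b2' : ∀ t, b2 * (a1 * t) = a1 * (b2 * t) := fun t => by rw [← mul_assoc, k_a1b2, mul_assoc]
  have k_a1b3' : ∀ t, b3 * (a1 * t) = a1 * (b3 * t) := fun t => by rw [← mul_assoc, k_a1b3, mul_assoc]
  have k_a1b4' : ∀ t, b4 * (a1 * t) = a1 * (b4 * t) := fun t => by rw [← mul_assoc, k_a1b4, mul_assoc]
  have k_a2a3' : ∀ t, a3 * (a2 * t) = a2 * (a3 * t) := fun t => by rw [← mul_assoc, k_a2a3, mul_assoc]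
  have k_a2a4' : ∀ t, a4 * (a2 * t) = a2 * (a4 * t) := fun t => by rw [← mul_assoc, k_a2a4, mul_assoc]
  have k_a2b1' : ∀ t, b1 * (a2 * t) = a2 * (b1 * t) := fun t => by rw [← mul_assoc, k_a2b1, mul_assoc]
  have k_a2b2' : ∀ t, b2 * (a2 * t) = z * (a2 * (b2 * t)) := fun t => by rw [← mul_assoc, k_a2b2]; simp only [mul_assoc]
  have k_a2b3' : ∀ t, b3 * (a2 * t) = a2 * (b3 * t) := fun t => by rw [← mul_assoc, k_a2b3, mul_assoc]
  have k_a2b4' : ∀ t, b4 * (a2 * t) = a2 * (b4 * t) := fun t => by rw [← mul_assoc, k_a2b4, mul_assoc]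
  have k_a3a4' : ∀ t, a4 * (a3 * t) = a3 * (a4 * t) := fun t => by rw [← mul_assoc, k_a3a4, mul_assoc]
  have k_a3b1' : ∀ t, b1 * (a3 * t) = a3 * (b1 * t) := fun t => by rw [← mul_assoc, k_a3b1, mul_assoc]
  have k_a3b2' : ∀ t, b2 * (a3 * t) = a3 * (b2 * t) := fun t => by rw [← mul_assoc, k_a3b2, mul_assoc]
  have k_a3b3' : ∀ t, b3 * (a3 * t) = z * (a3 * (b3 * t)) := fun t => by rw [← mul_assoc, k_a3b3]; simp only [mul_assoc]
  have k_a3b4' : ∀ t, b4 * (a3 * t) = a3 * (b4 * t) := fun t => by rw [← mul_assoc, k_a3b4, mul_assoc]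
  have k_a4b1' : ∀ t, b1 * (a4 * t) = a4 * (b1 * t) := fun t => by rw [← mul_assoc, k_a4b1, mul_assoc]
  have k_a4b2' : ∀ t, b2 * (a4 * t) = a4 * (b2 * t) := fun t => by rw [← mul_assoc, k_a4b2, mul_assoc]
  have k_a4b3' : ∀ t, b3 * (a4 * t) = a4 * (b3 * t) := fun t => by rw [← mul_assoc, k_a4b3, mul_assoc]
  have k_a4b4' : ∀ t, b4 * (a4 * t) = z * (a4 * (b4 * t)) := fun t => by rw [← mul_assoc, k_a4b4]; simp only [mul_assoc]
  have k_b1b2' : ∀ t, b2 * (b1 * t) = b1 * (b2 * t) := fun t => by rw [← mul_assoc, k_b1b2, mul_assoc]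
  have k_b1b3' : ∀ t, b3 * (b1 * t) = b1 * (b3 * t) := fun t => by rw [← mul_assoc, k_b1b3, mul_assoc]
  have k_b1b4' : ∀ t, b4 * (b1 * t) = b1 * (b4 * t) := fun t => by rw [← mul_assoc, k_b1b4, mul_assoc]
  have k_b2b3' : ∀ t, b3 * (b2 * t) = b2 * (b3 * t) := fun t => by rw [← mul_assoc, k_b2b3, mul_assoc]
  have k_b2b4' : ∀ t, b4 * (b2 * t) = b2 * (b4 * t) := fun t => by rw [← mul_assoc, k_b2b4, mul_assoc]
  have k_b3b4' : ∀ t, b4 * (b3 * t) = b3 * (b4 * t) := fun t => by rw [← mul_assoc, k_b3b4, mul_assoc]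
  have c1_a1' : MulAut.conj c1 a1 = a1 := c1_a1
  have c1_a2' : MulAut.conj c1 a2 = a2 := c1_a2
  have c1_a3' : MulAut.conj c1 a3 = a3 * b4 := c1_a3
  have c1_a4' : MulAut.conj c1 a4 = a4 * b3 := c1_a4
  have c2_z' : MulAut.conj c2 z = z := c2_z
  have c2_a1' : MulAut.conj c2 a1 = a1 * b3 := c2_a1
  have c2_a2' : MulAut.conj c2 a2 = a2 := c2_a2
  have c2_a3' : MulAut.conj c2 a3 = a3 * b1 := c2_a3
  have c2_b4' : MulAut.conj c2 b4 = b4 * a2 := c2_b4
  have c2_a4' : MulAut.conj c2 a4 = a4 := c2_a4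
  have c2_b3' : MulAut.conj c2 b3 = b3 := c2_b3
  have c3_a1' : MulAut.conj c3 a1 = a1 := c3_a1
  have c3_a3' : MulAut.conj c3 a3 = a3 * b2 := c3_a3
  have c3_b1' : MulAut.conj c3 b1 = b1 * a4 := c3_b1
  have c3_b4' : MulAut.conj c3 b4 = b4 * a1 := c3_b4
  have c3_a4' : MulAut.conj c3 a4 = a4 := c3_a4
  have c4_z' : MulAut.conj c4 z = z := c4_z
  have c4_a3' : MulAut.conj c4 a3 = a3 := c4_a3
  have c4_b2' : MulAut.conj c4 b2 = b2 := c4_b2
  have c4_b1' : MulAut.conj c4 b1 = b1 := c4_b1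
  have c4_b4' : MulAut.conj c4 b4 = b4 * a3 := c4_b4
  have P1 : MulAut.conj c1 (a1 * (a2 * (a3 * a4))) = z * (a1 * (a2 * (a3 * (a4 * (b3 * b4))))) := by
    simp only [map_mul, c1_a1', c1_a2', c1_a3', c1_a4']
    simp only [mul_assoc, mul_one, s_z, s_a1, s_a2, s_a3, s_a4, s_b1, s_b2, s_b3, s_b4, s_z', s_a1', s_a2', s_a3', s_a4', s_b1', s_b2', s_b3',
      s_b4', k_za1, k_za2, k_za3, k_za4, k_zb1, k_zb2, k_zb3, k_zb4, k_a1a2, k_a1a3, k_a1a4, k_a1b1, k_a1b2,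
      k_a1b3, k_a1b4, k_a2a3, k_a2a4, k_a2b1, k_a2b2, k_a2b3, k_a2b4, k_a3a4, k_a3b1, k_a3b2, k_a3b3, k_a3b4,
      k_a4b1, k_a4b2, k_a4b3, k_a4b4, k_b1b2, k_b1b3, k_b1b4, k_b2b3, k_b2b4, k_b3b4, k_za1', k_za2', k_za3',
      k_za4', k_zb1', k_zb2', k_zb3', k_zb4', k_a1a2', k_a1a3', k_a1a4', k_a1b1', k_a1b2', k_a1b3', k_a1b4',
      k_a2a3', k_a2a4', k_a2b1', k_a2b2', k_a2b3', k_a2b4', k_a3a4', k_a3b1', k_a3b2', k_a3b3', k_a3b4',
      k_a4b1', k_a4b2', k_a4b3', k_a4b4', k_b1b2', k_b1b3', k_b1b4', k_b2b3', k_b2b4', k_b3b4']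
  have P2 : MulAut.conj c2 (z * (a1 * (a2 * (a3 * (a4 * (b3 * b4)))))) = a1 * (a3 * (a4 * (b1 * b4))) := by
    simp only [map_mul, c2_z', c2_a1', c2_a2', c2_a3', c2_b4', c2_a4', c2_b3']
    simp only [mul_assoc, mul_one, s_z, s_a1, s_a2, s_a3, s_a4, s_b1, s_b2, s_b3, s_b4, s_z', s_a1', s_a2', s_a3', s_a4', s_b1', s_b2', s_b3',
      s_b4', k_za1, k_za2, k_za3, k_za4, k_zb1, k_zb2, k_zb3, k_zb4, k_a1a2, k_a1a3, k_a1a4, k_a1b1, k_a1b2,
      k_a1b3, k_a1b4, k_a2a3, k_a2a4, k_a2b1, k_a2b2, k_a2b3, k_a2b4, k_a3a4, k_a3b1, k_a3b2, k_a3b3, k_a3b4,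
      k_a4b1, k_a4b2, k_a4b3, k_a4b4, k_b1b2, k_b1b3, k_b1b4, k_b2b3, k_b2b4, k_b3b4, k_za1', k_za2', k_za3',
      k_za4', k_zb1', k_zb2', k_zb3', k_zb4', k_a1a2', k_a1a3', k_a1a4', k_a1b1', k_a1b2', k_a1b3', k_a1b4',
      k_a2a3', k_a2a4', k_a2b1', k_a2b2', k_a2b3', k_a2b4', k_a3a4', k_a3b1', k_a3b2', k_a3b3', k_a3b4',
      k_a4b1', k_a4b2', k_a4b3', k_a4b4', k_b1b2', k_b1b3', k_b1b4', k_b2b3', k_b2b4', k_b3b4']
  have P3 : MulAut.conj c3 (a1 * (a3 * (a4 * (b1 * b4)))) = z * (a3 * (b1 * (b2 * b4))) := by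
    simp only [map_mul, c3_a1', c3_a3', c3_b1', c3_b4', c3_a4']
    simp only [mul_assoc, mul_one, s_z, s_a1, s_a2, s_a3, s_a4, s_b1, s_b2, s_b3, s_b4, s_z', s_a1', s_a2', s_a3', s_a4', s_b1', s_b2', s_b3',
      s_b4', k_za1, k_za2, k_za3, k_za4, k_zb1, k_zb2, k_zb3, k_zb4, k_a1a2, k_a1a3, k_a1a4, k_a1b1, k_a1b2,
      k_a1b3, k_a1b4, k_a2a3, k_a2a4, k_a2b1, k_a2b2, k_a2b3, k_a2b4, k_a3a4, k_a3b1, k_a3b2, k_a3b3, k_a3b4,
      k_a4b1, k_a4b2, k_a4b3, k_a4b4, k_b1b2, k_b1b3, k_b1b4, k_b2b3, k_b2b4, k_b3b4, k_za1', k_za2', k_za3',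
      k_za4', k_zb1', k_zb2', k_zb3', k_zb4', k_a1a2', k_a1a3', k_a1a4', k_a1b1', k_a1b2', k_a1b3', k_a1b4',
      k_a2a3', k_a2a4', k_a2b1', k_a2b2', k_a2b3', k_a2b4', k_a3a4', k_a3b1', k_a3b2', k_a3b3', k_a3b4',
      k_a4b1', k_a4b2', k_a4b3', k_a4b4', k_b1b2', k_b1b3', k_b1b4', k_b2b3', k_b2b4', k_b3b4']
  have P4 : MulAut.conj c4 (z * (a3 * (b1 * (b2 * b4)))) = z * (b1 * (b2 * b4)) := by
    simp only [map_mul, c4_z', c4_a3', c4_b2', c4_b1', c4_b4']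
    simp only [mul_assoc, mul_one, s_z, s_a1, s_a2, s_a3, s_a4, s_b1, s_b2, s_b3, s_b4, s_z', s_a1', s_a2', s_a3', s_a4', s_b1', s_b2', s_b3',
      s_b4', k_za1, k_za2, k_za3, k_za4, k_zb1, k_zb2, k_zb3, k_zb4, k_a1a2, k_a1a3, k_a1a4, k_a1b1, k_a1b2,
      k_a1b3, k_a1b4, k_a2a3, k_a2a4, k_a2b1, k_a2b2, k_a2b3, k_a2b4, k_a3a4, k_a3b1, k_a3b2, k_a3b3, k_a3b4,
      k_a4b1, k_a4b2, k_a4b3, k_a4b4, k_b1b2, k_b1b3, k_b1b4, k_b2b3, k_b2b4, k_b3b4, k_za1', k_za2', k_za3',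
      k_za4', k_zb1', k_zb2', k_zb3', k_zb4', k_a1a2', k_a1a3', k_a1a4', k_a1b1', k_a1b2', k_a1b3', k_a1b4',
      k_a2a3', k_a2a4', k_a2b1', k_a2b2', k_a2b3', k_a2b4', k_a3a4', k_a3b1', k_a3b2', k_a3b3', k_a3b4',
      k_a4b1', k_a4b2', k_a4b3', k_a4b4', k_b1b2', k_b1b3', k_b1b4', k_b2b3', k_b2b4', k_b3b4']
  have P5 : MulAut.conj a4 (z * (b1 * (b2 * b4))) = b1 * (b2 * b4) := by
    have e : a4⁻¹ = a4 := inv_eq_of_mul_eq_one_left s_a4
    rw [MulAut.conj_apply, e]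
    simp only [mul_assoc, mul_one, s_z, s_a1, s_a2, s_a3, s_a4, s_b1, s_b2, s_b3, s_b4, s_z', s_a1', s_a2', s_a3', s_a4', s_b1', s_b2', s_b3',
      s_b4', k_za1, k_za2, k_za3, k_za4, k_zb1, k_zb2, k_zb3, k_zb4, k_a1a2, k_a1a3, k_a1a4, k_a1b1, k_a1b2,
      k_a1b3, k_a1b4, k_a2a3, k_a2a4, k_a2b1, k_a2b2, k_a2b3, k_a2b4, k_a3a4, k_a3b1, k_a3b2, k_a3b3, k_a3b4,
      k_a4b1, k_a4b2, k_a4b3, k_a4b4, k_b1b2, k_b1b3, k_b1b4, k_b2b3, k_b2b4, k_b3b4, k_za1', k_za2', k_za3',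
      k_za4', k_zb1', k_zb2', k_zb3', k_zb4', k_a1a2', k_a1a3', k_a1a4', k_a1b1', k_a1b2', k_a1b3', k_a1b4',
      k_a2a3', k_a2a4', k_a2b1', k_a2b2', k_a2b3', k_a2b4', k_a3a4', k_a3b1', k_a3b2', k_a3b3', k_a3b4',
      k_a4b1', k_a4b2', k_a4b3', k_a4b4', k_b1b2', k_b1b3', k_b1b4', k_b2b3', k_b2b4', k_b3b4']
  have e1 : (a4 * (c4 * (c3 * (c2 * c1)))) * (a1 * (a2 * (a3 * a4))) * (a4 * (c4 * (c3 * (c2 * c1))))⁻¹ =
      MulAut.conj a4 (MulAut.conj c4 (MulAut.conj c3 (MulAut.conj c2 (MulAut.conj c1 (a1 * (a2 * (a3 * a4))))))) := by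
    simp only [MulAut.conj_apply]
    group
  rw [e1, P1, P2, P3, P4, P5]

variable {L Y : Type*} [AddCommGroup L] [Group Y]
variable {B : L → L → ℤ} {Φ : Set L} {x : L → Y} {ht : L →+ ℤ}

namespace RE

variable (h : RE B Φ x ht)
include h

theorem conj_neg' {a b c : L} (ha : a ∈ Φ) (hb : b ∈ Φ) (hab : B a b = -1) (hc : a + b = c) :
    x a * x b * (x a)⁻¹ = x b * x c := by rw [← hc]; exact h.conj_neg ha hb hab

theorem swap {r b : L} (hr : r ∈ Φ) (hb : b ∈ Φ) (hbr : B b r = 1) :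
    x (b - r) * x r = x b * (x r * x (b - r)) := by
  have hq := h.rt.sub_mem hb hr hbr
  have h1 : B r (b - r) = -1 := by rw [h.rt.sub_right, h.rt.symm, hbr, h.self hr]; norm_num
  have h2 := h.add r hr (b - r) hq h1
  have e : r + (b - r) = b := by abel
  rw [e] at h2
  have h3 : x (b - r) * x b = x b * x (b - r) :=
    h.comm _ hq b hb (by rw [h.rt.sub_left, h.self hb, h.rt.symm, hbr]; norm_num)
  have h4 := h.sq r hr
  calc x (b - r) * x r = (x (b - r) * x b) * (x b * x r) := by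
        rw [mul_assoc, h.cancel hb]
    _ = (x r * x (b - r) * x r) * (x b * x r) := by rw [h2]
    _ = x r * x (b - r) * x r * (x r * x b) := by rw [h.comm b hb r hr (by omega)]
    _ = x r * x (b - r) * x b := by
        calc x r * x (b - r) * x r * (x r * x b) = x r * x (b - r) * (x r * x r) * x b := by group
          _ = _ := by rw [h4, mul_one]
    _ = x r * (x (b - r) * x b) := by group
    _ = x r * (x b * x (b - r)) := by rw [h3]
    _ = (x r * x b) * x (b - r) := by group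
    _ = _ := by rw [← h.comm b hb r hr (by omega), mul_assoc]

/-- **A `D_4`-frame: four become three.** -/
theorem frame {r1 r2 r3 r4 b : L} (hO : Ort B Φ [r1, r2, r3, r4]) (hb : b ∈ Φ) (b1 : B b r1 = 1) (b2 : B b r2 = 1)
    (b3 : B b r3 = 1) (b4 : B b r4 = 1) (hs : b + b = r1 + r2 + r3 + r4) :
    ∃ g : Y, g * (x r1 * (x r2 * (x r3 * x r4))) * g⁻¹ = x (b - r1) * (x (b - r2) * x (b - r4)) ∧
      (∀ t ∈ Φ, B r1 t = 0 → B r2 t = 0 → B r3 t = 0 → B r4 t = 0 → g * x t = x t * g) ∧ g * x b = x b * g := by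
  have rt := h.rt
  have hr1 : r1 ∈ Φ := hO.mem r1 (by simp)
  have hr2 : r2 ∈ Φ := hO.mem r2 (by simp)
  have hr3 : r3 ∈ Φ := hO.mem r3 (by simp)
  have hr4 : r4 ∈ Φ := hO.mem r4 (by simp)
  have o12 : B r1 r2 = 0 := hO.orth r2 (by simp)
  have o13 : B r1 r3 = 0 := hO.orth r3 (by simp)
  have o14 : B r1 r4 = 0 := hO.orth r4 (by simp)
  have o23 : B r2 r3 = 0 := hO.tail.orth r3 (by simp)
  have o24 : B r2 r4 = 0 := hO.tail.orth r4 (by simp)
  have o34 : B r3 r4 = 0 := hO.tail.tail.orth r4 (by simp)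
  have o21 : B r2 r1 = 0 := by rw [rt.symm]; exact o12
  have o31 : B r3 r1 = 0 := by rw [rt.symm]; exact o13
  have o41 : B r4 r1 = 0 := by rw [rt.symm]; exact o14
  have o32 : B r3 r2 = 0 := by rw [rt.symm]; exact o23
  have o42 : B r4 r2 = 0 := by rw [rt.symm]; exact o24
  have o43 : B r4 r3 = 0 := by rw [rt.symm]; exact o34
  have b1' : B r1 b = 1 := by rw [rt.symm]; exact b1
  have b2' : B r2 b = 1 := by rw [rt.symm]; exact b2
  have b3' : B r3 b = 1 := by rw [rt.symm]; exact b3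
  have b4' : B r4 b = 1 := by rw [rt.symm]; exact b4
  have s1 := h.self hr1
  have s2 := h.self hr2
  have s3 := h.self hr3
  have s4 := h.self hr4
  have sb := h.self hb
  have q1 : b - r1 ∈ Φ := rt.sub_mem hb hr1 b1
  have q2 : b - r2 ∈ Φ := rt.sub_mem hb hr2 b2
  have q3 : b - r3 ∈ Φ := rt.sub_mem hb hr3 b3
  have q4 : b - r4 ∈ Φ := rt.sub_mem hb hr4 b4
  have t4 : b - r1 - r2 ∈ Φ := rt.sub_mem q1 hr2 (by rw [rt.sub_left]; omega)
  have t1 : r1 + r2 - b ∈ Φ := by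
    have := rt.neg_mem _ t4
    have e : -(b - r1 - r2) = r1 + r2 - b := by abel
    rwa [e] at this
  have t2 : r2 + r4 - b ∈ Φ := by
    have := rt.neg_mem _ (rt.sub_mem q2 hr4 (by rw [rt.sub_left]; omega))
    have e : -(b - r2 - r4) = r2 + r4 - b := by abel
    rwa [e] at this
  have t3 : r1 + r4 - b ∈ Φ := by
    have := rt.neg_mem _ (rt.sub_mem q1 hr4 (by rw [rt.sub_left]; omega))
    have e : -(b - r1 - r4) = r1 + r4 - b := by abel
    rwa [e] at this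
  have hs' : r1 + r2 + r3 + r4 = b + b := hs.symm
  -- sums
  have m13 : r1 + r2 - b + r3 = b - r4 := by
    have : r1 + r2 - b + r3 = (r1 + r2 + r3 + r4) - b - r4 := by abel
    rw [this, hs']; abel
  have m14 : r1 + r2 - b + r4 = b - r3 := by
    have : r1 + r2 - b + r4 = (r1 + r2 + r3 + r4) - b - r3 := by abel
    rw [this, hs']; abel
  have m21 : r2 + r4 - b + r1 = b - r3 := by
    have : r2 + r4 - b + r1 = (r1 + r2 + r3 + r4) - b - r3 := by abel
    rw [this, hs']; abel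
  have m23 : r2 + r4 - b + r3 = b - r1 := by
    have : r2 + r4 - b + r3 = (r1 + r2 + r3 + r4) - b - r1 := by abel
    rw [this, hs']; abel
  have m24 : r2 + r4 - b + (b - r4) = r2 := by abel
  have m33 : r1 + r4 - b + r3 = b - r2 := by
    have : r1 + r4 - b + r3 = (r1 + r2 + r3 + r4) - b - r2 := by abel
    rw [this, hs']; abel
  have m31 : r1 + r4 - b + (b - r1) = r4 := by abel
  have m34 : r1 + r4 - b + (b - r4) = r1 := by abel
  have m44 : b - r1 - r2 + (b - r4) = r3 := by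
    have : b - r1 - r2 + (b - r4) = (b + b) - r1 - r2 - r4 := by abel
    rw [this, ← hs']; abel
  refine ⟨x r4 * (x (b - r1 - r2) * (x (r1 + r4 - b) * (x (r2 + r4 - b) * x (r1 + r2 - b)))), ?_, ?_, ?_⟩
  · apply word (z := x b) (b3 := x (b - r3))
    · exact h.sq _ hb
    · exact h.sq _ hr1
    · exact h.sq _ hr2
    · exact h.sq _ hr3
    · exact h.sq _ hr4
    · exact h.sq _ q1
    · exact h.sq _ q2
    · exact h.sq _ q3
    · exact h.sq _ q4
    · exact h.comm _ hr1 _ hb (by (try simp only [rt.sub_left, rt.sub_right]); omega)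
    · exact h.comm _ hr2 _ hb (by (try simp only [rt.sub_left, rt.sub_right]); omega)
    · exact h.comm _ hr3 _ hb (by (try simp only [rt.sub_left, rt.sub_right]); omega)
    · exact h.comm _ hr4 _ hb (by (try simp only [rt.sub_left, rt.sub_right]); omega)
    · exact h.comm _ q1 _ hb (by (try simp only [rt.sub_left, rt.sub_right]); omega)
    · exact h.comm _ q2 _ hb (by (try simp only [rt.sub_left, rt.sub_right]); omega)
    · exact h.comm _ q3 _ hb (by (try simp only [rt.sub_left, rt.sub_right]); omega)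
    · exact h.comm _ q4 _ hb (by (try simp only [rt.sub_left, rt.sub_right]); omega)
    · exact h.comm _ hr2 _ hr1 (by (try simp only [rt.sub_left, rt.sub_right]); omega)
    · exact h.comm _ hr3 _ hr1 (by (try simp only [rt.sub_left, rt.sub_right]); omega)
    · exact h.comm _ hr4 _ hr1 (by (try simp only [rt.sub_left, rt.sub_right]); omega)
    · exact h.swap hr1 hb b1
    · exact h.comm _ q2 _ hr1 (by (try simp only [rt.sub_left, rt.sub_right]); omega)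
    · exact h.comm _ q3 _ hr1 (by (try simp only [rt.sub_left, rt.sub_right]); omega)
    · exact h.comm _ q4 _ hr1 (by (try simp only [rt.sub_left, rt.sub_right]); omega)
    · exact h.comm _ hr3 _ hr2 (by (try simp only [rt.sub_left, rt.sub_right]); omega)
    · exact h.comm _ hr4 _ hr2 (by (try simp only [rt.sub_left, rt.sub_right]); omega)
    · exact h.comm _ q1 _ hr2 (by (try simp only [rt.sub_left, rt.sub_right]); omega)
    · exact h.swap hr2 hb b2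
    · exact h.comm _ q3 _ hr2 (by (try simp only [rt.sub_left, rt.sub_right]); omega)
    · exact h.comm _ q4 _ hr2 (by (try simp only [rt.sub_left, rt.sub_right]); omega)
    · exact h.comm _ hr4 _ hr3 (by (try simp only [rt.sub_left, rt.sub_right]); omega)
    · exact h.comm _ q1 _ hr3 (by (try simp only [rt.sub_left, rt.sub_right]); omega)
    · exact h.comm _ q2 _ hr3 (by (try simp only [rt.sub_left, rt.sub_right]); omega)
    · exact h.swap hr3 hb b3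
    · exact h.comm _ q4 _ hr3 (by (try simp only [rt.sub_left, rt.sub_right]); omega)
    · exact h.comm _ q1 _ hr4 (by (try simp only [rt.sub_left, rt.sub_right]); omega)
    · exact h.comm _ q2 _ hr4 (by (try simp only [rt.sub_left, rt.sub_right]); omega)
    · exact h.comm _ q3 _ hr4 (by (try simp only [rt.sub_left, rt.sub_right]); omega)
    · exact h.swap hr4 hb b4
    · exact h.comm _ q2 _ q1 (by (try simp only [rt.sub_left, rt.sub_right]); omega)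
    · exact h.comm _ q3 _ q1 (by (try simp only [rt.sub_left, rt.sub_right]); omega)
    · exact h.comm _ q4 _ q1 (by (try simp only [rt.sub_left, rt.sub_right]); omega)
    · exact h.comm _ q3 _ q2 (by (try simp only [rt.sub_left, rt.sub_right]); omega)
    · exact h.comm _ q4 _ q2 (by (try simp only [rt.sub_left, rt.sub_right]); omega)
    · exact h.comm _ q4 _ q3 (by (try simp only [rt.sub_left, rt.sub_right]); omega)
    · exact h.conj_pos t1 hr1 (by (try simp only [rt.sub_left, rt.sub_right, rt.add_left]); omega)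
    · exact h.conj_pos t1 hr2 (by (try simp only [rt.sub_left, rt.sub_right, rt.add_left]); omega)
    · exact h.conj_neg' t1 hr3 (by (try simp only [rt.sub_left, rt.sub_right, rt.add_left]); omega) m13
    · exact h.conj_neg' t1 hr4 (by (try simp only [rt.sub_left, rt.sub_right, rt.add_left]); omega) m14
    · exact h.conj_pos t2 hb (by (try simp only [rt.sub_left, rt.sub_right, rt.add_left]); omega)
    · exact h.conj_neg' t2 hr1 (by (try simp only [rt.sub_left, rt.sub_right, rt.add_left]); omega) m21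
    · exact h.conj_pos t2 hr2 (by (try simp only [rt.sub_left, rt.sub_right, rt.add_left]); omega)
    · exact h.conj_neg' t2 hr3 (by (try simp only [rt.sub_left, rt.sub_right, rt.add_left]); omega) m23
    · exact h.conj_neg' t2 q4 (by (try simp only [rt.sub_left, rt.sub_right, rt.add_left]); omega) m24
    · exact h.conj_pos t2 hr4 (by (try simp only [rt.sub_left, rt.sub_right, rt.add_left]); omega)
    · exact h.conj_pos t2 q3 (by (try simp only [rt.sub_left, rt.sub_right, rt.add_left]); omega)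
    · exact h.conj_pos t3 hr1 (by (try simp only [rt.sub_left, rt.sub_right, rt.add_left]); omega)
    · exact h.conj_neg' t3 hr3 (by (try simp only [rt.sub_left, rt.sub_right, rt.add_left]); omega) m33
    · exact h.conj_neg' t3 q1 (by (try simp only [rt.sub_left, rt.sub_right, rt.add_left]); omega) m31
    · exact h.conj_neg' t3 q4 (by (try simp only [rt.sub_left, rt.sub_right, rt.add_left]); omega) m34
    · exact h.conj_pos t3 hr4 (by (try simp only [rt.sub_left, rt.sub_right, rt.add_left]); omega)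
    · exact h.conj_pos t4 hb (by (try simp only [rt.sub_left, rt.sub_right, rt.add_left]); omega)
    · exact h.conj_pos t4 hr3 (by (try simp only [rt.sub_left, rt.sub_right, rt.add_left]); omega)
    · exact h.conj_pos t4 q2 (by (try simp only [rt.sub_left, rt.sub_right, rt.add_left]); omega)
    · exact h.conj_pos t4 q1 (by (try simp only [rt.sub_left, rt.sub_right, rt.add_left]); omega)
    · exact h.conj_neg' t4 q4 (by (try simp only [rt.sub_left, rt.sub_right, rt.add_left]); omega) m44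
  · intro t ht' e1 e2 e3 e4
    have e5 : B b t = 0 := by
      have h1 : B (b + b) t = B (r1 + r2 + r3 + r4) t := by rw [hs]
      simp only [rt.add_left] at h1
      omega
    have g1 : Commute (x (r1 + r2 - b)) (x t) := h.comm _ t1 t ht' (by simp only [rt.sub_left, rt.add_left]; omega)
    have g2 : Commute (x (r2 + r4 - b)) (x t) := h.comm _ t2 t ht' (by simp only [rt.sub_left, rt.add_left]; omega)
    have g3 : Commute (x (r1 + r4 - b)) (x t) := h.comm _ t3 t ht' (by simp only [rt.sub_left, rt.add_left]; omega)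
    have g4 : Commute (x (b - r1 - r2)) (x t) := h.comm _ t4 t ht' (by simp only [rt.sub_left]; omega)
    have g5 : Commute (x r4) (x t) := h.comm _ hr4 t ht' (by omega)
    exact g5.mul_left (g4.mul_left (g3.mul_left (g2.mul_left g1)))
  · have g1 : Commute (x (r1 + r2 - b)) (x b) := h.comm _ t1 b hb (by simp only [rt.sub_left, rt.add_left]; omega)
    have g2 : Commute (x (r2 + r4 - b)) (x b) := h.comm _ t2 b hb (by simp only [rt.sub_left, rt.add_left]; omega)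
    have g3 : Commute (x (r1 + r4 - b)) (x b) := h.comm _ t3 b hb (by simp only [rt.sub_left, rt.add_left]; omega)
    have g4 : Commute (x (b - r1 - r2)) (x b) := h.comm _ t4 b hb (by simp only [rt.sub_left]; omega)
    have g5 : Commute (x r4) (x b) := h.comm _ hr4 b hb (by omega)
    exact g5.mul_left (g4.mul_left (g3.mul_left (g2.mul_left g1)))

end RE

end Cfsg.Agent.OddHalf.D4.En2

end

-- merged: Cfsg.Agent.OddHalf.D4.En2.CaseB
section

/-!
# ODD, D4, `E_n(2)`: case (B): `N ∩ O_2(C(e)) = 1` for all root elements `e` centralised by `α`, `β`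
(text: helper305 #11622 (B), (D), (E); the frames `r₁ + r₂ + r₃ + r₄ = 2 b` are excluded by minimality)
-/

set_option autoImplicit false
set_option linter.unusedSectionVars false

namespace Cfsg.Agent.OddHalf.D4.En2

open Subgroup Cfsg.Agent.OddHalf.SL.Defs Cfsg.Agent.OddHalf.D4.Basic

variable {L Y : Type*} [AddCommGroup L] [Group Y]
variable {B : L → L → ℤ} {Φ : Set L} {x : L → Y} {ht : L →+ ℤ} {ρ : L} {Fl : (L →+ L) → Prop}

/-- a configuration with the two automorphisms exchanged -/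
theorem conf_symm {α β : MulAut Y} {D N : Subgroup Y} (hc : Conf α β D N) : Conf β α D N := by
  have hs : ∀ γ : MulAut Y, (γ = β ∨ γ = α ∨ γ = β * α) → (γ = α ∨ γ = β ∨ γ = α * β) := by
    rintro γ (h | h | h)
    · right; left; exact h
    · left; exact h
    · right; right; rw [h, hc.ab]
  exact ⟨hc.bb, hc.aa, hc.ab.symm, hc.b1, hc.a1, hc.ne.symm, hc.le, hc.norm, fun γ hγ => hc.cen γ (hs γ hγ),
    fun γ hγ => hc.comm γ (hs γ hγ), hc.cenN, fun γ hγ => hc.noCen γ (hs γ hγ), hc.noCenN⟩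

/-- a configuration with `α` replaced by `α * β` -/
theorem conf_mul {α β : MulAut Y} {D N : Subgroup Y} (hc : Conf α β D N) : Conf (α * β) β D N := by
  have aa := hc.aa
  have bb := hc.bb
  have ab := hc.ab
  have e3 : α * β * α = β := by rw [ab, mul_assoc, aa, mul_one]
  have e4 : α * β * β = α := by rw [mul_assoc, bb, mul_one]
  have hs : ∀ γ : MulAut Y, (γ = α * β ∨ γ = β ∨ γ = α * β * β) → (γ = α ∨ γ = β ∨ γ = α * β) := by
    rintro γ (h | h | h)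
    · right; right; exact h
    · right; left; exact h
    · left; rw [h, e4]
  refine ⟨?_, hc.bb, ?_, ?_, hc.b1, ?_, hc.le, hc.norm, fun γ hγ => hc.cen γ (hs γ hγ),
    fun γ hγ => hc.comm γ (hs γ hγ), hc.cenN, fun γ hγ => hc.noCen γ (hs γ hγ), hc.noCenN⟩
  · rw [← mul_assoc, e3, bb]
  · rw [e4, ab, ← mul_assoc, bb, one_mul]
  · intro h0
    apply hc.ne
    have h1 : α * (α * β) = α := by rw [h0, mul_one]
    rw [← mul_assoc, aa, one_mul] at h1
    exact h1.symm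
  · intro h0
    apply hc.a1
    have h1 : α * β * β = β * β := by rw [h0]
    rw [e4, bb] at h1
    exact h1

/-- `N ∩ O_2(C(e)) = 1` for all root elements `e` centralised by `α`, `β` -/
def NoN (x : L → Y) (ρ : L) (α β : MulAut Y) (N : Subgroup Y) : Prop :=
  ∀ g : Y, α (g * x ρ * g⁻¹) = g * x ρ * g⁻¹ → β (g * x ρ * g⁻¹) = g * x ρ * g⁻¹ → ∀ n ∈ N,
    n ∈ OO (g * x ρ * g⁻¹) → n = 1

theorem NoN.symm {α β : MulAut Y} {N : Subgroup Y} (hB : NoN x ρ α β N) : NoN x ρ β α N :=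
  fun g h1 h2 => hB g h2 h1

theorem NoN.mv {α β : MulAut Y} {N : Subgroup Y} (hB : NoN x ρ α β N) (g0 : Y) :
    NoN (mv (MulAut.conj g0) x) ρ α β N := by
  intro g
  have e : g * En2.mv (MulAut.conj g0) x ρ * g⁻¹ = (g * g0) * x ρ * (g * g0)⁻¹ := by
    rw [mv_apply, MulAut.conj_apply]; group
  rw [e]
  exact hB (g * g0)

/-- elements of `XS x F`, `F` orthogonal -/
theorem RE.exists_sublist (h : RE B Φ x ht) {F : List L} (hF : Ort B Φ F) {u : Y} (hu : u ∈ XS x {c | c ∈ F}) :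
    ∃ I : List L, I.Sublist F ∧ u = pr x I := by
  induction F generalizing u with
  | nil =>
    refine ⟨[], List.Sublist.refl _, ?_⟩
    have e : {c : L | c ∈ ([] : List L)} = ∅ := by ext c; simp
    rw [e] at hu
    unfold XS at hu
    rw [Set.image_empty, Subgroup.closure_empty, mem_bot] at hu
    rw [hu]; simp
  | cons a F ih =>
    have e : {c : L | c ∈ a :: F} ⊆ insert a {c | c ∈ F} := by
      intro c hc
      rcases List.mem_cons.mp hc with h1 | h1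
      · left; exact h1
      · right; exact h1
    rcases h.mem_insert (T := {c | c ∈ F}) hF.head (fun v hv => by
      have : x a * v = v * x a := comm_XS (fun c hc => h.comm a hF.head c (hF.tail.mem c hc) (by
        rw [hF.orth c hc])) hv
      rw [this, mul_inv_cancel_right]; exact hv) (XS_mono e hu) with h1 | h1
    · obtain ⟨I, hI, rfl⟩ := ih hF.tail h1
      exact ⟨I, hI.cons a, rfl⟩
    · obtain ⟨I, hI, h2⟩ := ih hF.tail h1
      refine ⟨a :: I, hI.cons_cons a, ?_⟩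
      rw [pr_cons, ← h2, h.cancel hF.head]

section

variable [Finite Y]

theorem NoN.root (h : RE B Φ x ht) (ha : RA B Φ x ht ρ Fl) {α β : MulAut Y} {N : Subgroup Y} (hB : NoN x ρ α β N)
    {a : L} (haΦ : a ∈ Φ) (h1 : α (x a) = x a) (h2 : β (x a) = x a) {n : Y} (hn : n ∈ N) (hnQ : n ∈ Qs B Φ x a) :
    n = 1 := by
  obtain ⟨g, hg⟩ := h.exists_conj_root ha.ρmem haΦ
  apply hB g (by rw [hg]; exact h1) (by rw [hg]; exact h2) n hn
  rw [hg, RA.OO_eq h ha haΦ]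
  exact hnQ

/-- the step -/
theorem B_step (h : RE B Φ x ht) (ha : RA B Φ x ht ρ Fl) {α β : MulAut Y} {D N : Subgroup Y} (hc : Conf α β D N)
    (hB : NoN x ρ α β N) {a c : L} (haΦ : a ∈ Φ) (hcΦ : c ∈ Φ) (hac : B a c = 1) (h1 : α (x a) = x a)
    (h2 : β (x a) = x a) (h3 : α (x c) = x c) : β (x c) = x c := by
  have hcQ : x c ∈ Qs B Φ x a := mem_XS ⟨hcΦ, by rw [h.rt.symm]; omega⟩
  have hD : x c ∈ D := hc.cen α (Or.inl rfl) _ h3
  have hN := hc.comm β (Or.inr (Or.inl rfl)) _ hD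
  have hQ : β (x c) ∈ Qs B Φ x a := by
    rw [← RA.OO_eq h ha haΦ] at hcQ ⊢
    have := OO_map β (x a) hcQ
    rwa [h2] at this
  have := hB.root h ha haΦ h1 h2 hN (mul_mem hQ (inv_mem hcQ))
  exact mul_inv_eq_one.mp this

/-- `α = conj (∏ F)`: `β` centralises `x c` for all `c ∈ Cone F` -/
theorem B_cone (h : RE B Φ x ht) (ha : RA B Φ x ht ρ Fl) {α β : MulAut Y} {D N : Subgroup Y} (hc : Conf α β D N)
    (hB : NoN x ρ α β N) {F : List L} (hF : Ort B Φ F) (hα : α = MulAut.conj (pr x F)) {a0 : L}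
    (ha0 : a0 ∈ Cone B Φ F) (h0 : β (x a0) = x a0) {c : L} (hcF : c ∈ Cone B Φ F) : β (x c) = x c := by
  have hαc : ∀ c ∈ Cone B Φ F, α (x c) = x c := by
    intro c hc
    rw [hα, MulAut.conj_apply, ← h.comm_pr' hc.1 hF hc.2, mul_inv_cancel_right]
  have hne : F ≠ [] := by
    rintro rfl
    apply hc.a1
    rw [hα]; simp
  exact h.conn hF hne (P := fun a => β (x a) = x a) (fun a haF hPa c hcF hac =>
    B_step h ha hc hB haF.1 hcF.1 hac (hαc a haF) hPa (hαc c hcF)) ha0 h0 hcF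

/-- **Case (B), both inner.** -/
theorem caseB_ind {D N : Subgroup Y} : ∀ (n : ℕ) (x : L → Y) (_ : RE B Φ x ht) (_ : RA B Φ x ht ρ Fl) (α β : MulAut Y)
    (_ : Conf α β D N) (_ : NoN x ρ α β N) (F : List L) (_ : Ort B Φ F) (_ : F.length ≤ n)
    (_ : α = MulAut.conj (pr x F)) (b : Y) (_ : β = MulAut.conj b) (a0 : L) (_ : a0 ∈ Cone B Φ F)
    (_ : β (x a0) = x a0), False := by
  intro n
  induction n with
  | zero =>
    intro x h ha α β hc hB F hF hn hα b hβ a0 ha0 h0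
    have : F = [] := List.length_eq_zero_iff.mp (by omega)
    apply hc.a1
    rw [hα, this]; simp
  | succ n ih =>
    intro x h ha α β hc hB F hF hn hα b hβ a0 ha0 h0
    have rt := h.rt
    have hcone : ∀ c ∈ Cone B Φ F, β (x c) = x c := fun c hcF => B_cone h ha hc hB hF hα ha0 h0 hcF
    have hcone' : ∀ c ∈ Cone B Φ F, b * x c = x c * b := by
      intro c hcF
      have h1 := hcone c hcF
      rw [hβ, MulAut.conj_apply] at h1
      exact mul_inv_eq_iff_eq_mul.mp h1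
    by_cases hsub : ∀ d ∈ Φ, (∀ c ∈ Cone B Φ F, 0 ≤ B d c) → d ∈ F
    · -- `b` is a subproduct
      have hfin : (Cone B Φ F).Finite := rt.fin.subset fun c hc => hc.1
      let Fs : List (L →+ ℤ) := hfin.toFinset.toList.map (fB rt)
      have hb : b ∈ XS x {c | c ∈ F} := by
        apply h.inter_mem (F := Fs)
        · intro f hf
          simp only [Fs, List.mem_map, Finset.mem_toList, Set.Finite.mem_toFinset] at hf
          obtain ⟨c, hcF, rfl⟩ := hf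
          exact h.cent c hcF.1 b (hcone' c hcF)
        · intro d hd hdF
          apply hsub d hd
          intro c hcF
          have := hdF (fB rt c) (by
            simp only [Fs, List.mem_map, Finset.mem_toList, Set.Finite.mem_toFinset]
            exact ⟨c, hcF, rfl⟩)
          rwa [fB_apply] at this
      obtain ⟨I, hI, hbI⟩ := h.exists_sublist hF hb
      have hlt : I.length < F.length := by
        rcases Nat.lt_or_ge I.length F.length with h1 | h1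
        · exact h1
        · exfalso
          have := hI.eq_of_length_le h1
          apply hc.ne
          rw [hα, hβ, hbI, this]
      refine ih x h ha β α (conf_symm hc) hB.symm I (hF.sublist hI) (by omega) (by rw [hβ, hbI]) (pr x F) hα a0
        ⟨ha0.1, fun r hr => ha0.2 r (hI.subset hr)⟩ ?_
      rw [hα, MulAut.conj_apply, ← h.comm_pr' ha0.1 hF ha0.2, mul_inv_cancel_right]
    · push Not at hsub
      obtain ⟨d, hd, hdc, hdF⟩ := hsub
      rcases h.cone_cone hF hd hdc with h1 | ⟨r1, r2, r3, r4, F', hp, hs, b1, b2, b3, b4⟩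
      · exact hdF h1
      have hO := hF.perm rt hp
      have hO4 : Ort B Φ [r1, r2, r3, r4] := hO.sublist (by
        have : [r1, r2, r3, r4].Sublist ([r1, r2, r3, r4] ++ F') := List.sublist_append_left _ _
        exact this)
      obtain ⟨g, hg, hgF, hgd⟩ := h.frame hO4 hd b1 b2 b3 b4 hs
      have hr1 : r1 ∈ Φ := hO.mem r1 (by simp)
      have hr2 : r2 ∈ Φ := hO.mem r2 (by simp)
      have hr3 : r3 ∈ Φ := hO.mem r3 (by simp)
      have hr4 : r4 ∈ Φ := hO.mem r4 (by simp)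
      have o : ∀ t ∈ F', B r1 t = 0 ∧ B r2 t = 0 ∧ B r3 t = 0 ∧ B r4 t = 0 := fun t ht' =>
        ⟨hO.orth t (by simp [ht']), hO.tail.orth t (by simp [ht']), hO.tail.tail.orth t (by simp [ht']),
          hO.tail.tail.tail.orth t (by simp [ht'])⟩
      have hF' : Ort B Φ F' := hO.tail.tail.tail.tail
      have hdt : ∀ t ∈ F', B d t = 0 := by
        intro t ht'
        obtain ⟨o1, o2, o3, o4⟩ := o t ht'
        have h1 : B (d + d) t = B (r1 + r2 + r3 + r4) t := by rw [hs]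
        simp only [rt.add_left] at h1
        omega
      -- the new list
      have o12 : B r1 r2 = 0 := hO.orth r2 (by simp)
      have o14 : B r1 r4 = 0 := hO.orth r4 (by simp)
      have o24 : B r2 r4 = 0 := hO.tail.orth r4 (by simp)
      have c1 : B r1 d = 1 := by rw [rt.symm]; exact b1
      have c2 : B r2 d = 1 := by rw [rt.symm]; exact b2
      have c4 : B r4 d = 1 := by rw [rt.symm]; exact b4
      have sd := h.self hd
      have q1 : d - r1 ∈ Φ := rt.sub_mem hd hr1 b1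
      have q2 : d - r2 ∈ Φ := rt.sub_mem hd hr2 b2
      have q4 : d - r4 ∈ Φ := rt.sub_mem hd hr4 b4
      have hF1 : Ort B Φ ((d - r1) :: (d - r2) :: (d - r4) :: F') := by
        refine Ort.cons q1 (Ort.cons q2 (Ort.cons q4 hF' ?_) ?_) ?_
        · intro t ht'
          rw [rt.sub_left, hdt t ht', (o t ht').2.2.2]; norm_num
        · intro t ht'
          rcases List.mem_cons.mp ht' with rfl | ht'
          · rw [rt.sub_left, rt.sub_right, rt.sub_right]; omega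
          · rw [rt.sub_left, hdt t ht', (o t ht').2.1]; norm_num
        · intro t ht'
          rcases List.mem_cons.mp ht' with rfl | ht'
          · rw [rt.sub_left, rt.sub_right, rt.sub_right]; omega
          · rcases List.mem_cons.mp ht' with rfl | ht'
            · rw [rt.sub_left, rt.sub_right, rt.sub_right]; omega
            · rw [rt.sub_left, hdt t ht', (o t ht').1]; norm_num
      have hgF' : g * pr x F' = pr x F' * g := RE.comm_pr fun t ht' => hgF t (hF'.mem t ht') (o t ht').1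
        (o t ht').2.1 (o t ht').2.2.1 (o t ht').2.2.2
      have hpr : g * pr x F * g⁻¹ = pr x ((d - r1) :: (d - r2) :: (d - r4) :: F') := by
        rw [h.pr_perm hF hp]
        simp only [pr_cons]
        calc g * (x r1 * (x r2 * (x r3 * (x r4 * pr x F')))) * g⁻¹
            = (g * (x r1 * (x r2 * (x r3 * x r4))) * g⁻¹) * (g * pr x F') * g⁻¹ := by group
          _ = (x (d - r1) * (x (d - r2) * x (d - r4))) * (pr x F' * g) * g⁻¹ := by rw [hg, hgF']
          _ = _ := by group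
      have hx' : pr (mv (MulAut.conj g⁻¹) x) ((d - r1) :: (d - r2) :: (d - r4) :: F') = pr x F := by
        rw [pr_mv, ← hpr, MulAut.conj_apply]; group
      have hd' : d ∈ Cone B Φ F := ⟨hd, fun r hr => hdc r (h.mem_cone hF hr)⟩
      have hxd : mv (MulAut.conj g⁻¹) x d = x d := by
        rw [mv_apply, MulAut.conj_apply, inv_inv, mul_assoc, ← hgd]; group
      refine ih (mv (MulAut.conj g⁻¹) x) (h.map _) (ha.map _) α β hc (hB.mv g⁻¹) _ hF1 ?_ (by rw [hx']; exact hα) b hβ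
        d ⟨hd, ?_⟩ (by rw [hxd]; exact hcone d hd')
      · have := hp.length_eq
        simp only [List.length_cons] at this ⊢
        omega
      · intro r hr
        simp only [List.mem_cons] at hr
        rcases hr with rfl | rfl | rfl | hr
        · rw [rt.sub_right]; omega
        · rw [rt.sub_right]; omega
        · rw [rt.sub_right]; omega
        · rw [hdt r hr]

end

end Cfsg.Agent.OddHalf.D4.En2

end

-- merged: Cfsg.Agent.OddHalf.D4.En2.Fr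
section

/-!
# ODD, D4, `E_n(2)`: a four-group of automorphisms normalises a Sylow 2-subgroup containing a given fixed root element
in its centre
-/

set_option autoImplicit false
set_option linter.unusedSectionVars false

namespace Cfsg.Agent.OddHalf.D4.En2

open Subgroup Cfsg.Agent.OddHalf.SL.Defs Cfsg.Agent.OddHalf.D4.Basic

variable {L Y : Type*} [AddCommGroup L] [Group Y]
variable {B : L → L → ℤ} {Φ : Set L} {x : L → Y} {ht : L →+ ℤ} {ρ : L} {Fl : (L →+ L) → Prop}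

/-- the subgroup generated by two commuting involutions -/
theorem two_pair {M : Type*} [Group M] {α β : M} (aa : α * α = 1) (bb : β * β = 1) (ab : α * β = β * α) :
    IsPGroup 2 ↥(_root_.Subgroup.closure ({α, β} : Set M)) := by
  have h1 : ∀ g ∈ _root_.Subgroup.closure ({α, β} : Set M), g = 1 ∨ g = α ∨ g = β ∨ g = α * β := by
    intro g hg
    induction hg using closure_induction with
    | mem y hy =>
      rcases hy with rfl | hy
      · right; left; rfl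
      · rw [Set.mem_singleton_iff] at hy
        rw [hy]; right; right; left; rfl
    | one => left; rfl
    | mul y z _ _ hy hz =>
      have e1 : α * (α * β) = β := by rw [← mul_assoc, aa, one_mul]
      have e2 : β * (α * β) = α := by rw [ab, ← mul_assoc, bb, one_mul]
      have e3 : α * β * α = β := by rw [ab, mul_assoc, aa, mul_one]
      have e4 : α * β * β = α := by rw [mul_assoc, bb, mul_one]
      have e5 : α * β * (α * β) = 1 := by rw [← mul_assoc, e3, bb]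
      rcases hy with rfl | rfl | rfl | rfl <;> rcases hz with rfl | rfl | rfl | rfl <;>
        simp only [e1, e2, e3, e4, e5, aa, bb, ← ab, _root_.mul_one, _root_.true_or, _root_.one_mul, _root_.left_eq_mul, _root_.or_true, _root_.right_eq_mul, _root_.mul_eq_left, _root_.mul_eq_right]
    | inv y _ hy =>
      have e1 : α⁻¹ = α := inv_eq_of_mul_eq_one_left aa
      have e2 : β⁻¹ = β := inv_eq_of_mul_eq_one_left bb
      rcases hy with rfl | rfl | rfl | rfl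
      · left; exact inv_one
      · right; left; exact e1
      · right; right; left; exact e2
      · right; right; right; rw [mul_inv_rev, e1, e2, ab]
  rintro ⟨g, hg⟩
  refine ⟨1, ?_⟩
  apply Subtype.ext
  show g ^ 2 ^ 1 = 1
  rw [pow_one, pow_two]
  rcases h1 g hg with rfl | rfl | rfl | rfl
  · exact one_mul 1
  · exact aa
  · exact bb
  · calc α * β * (α * β) = α * (β * α) * β := by group
      _ = (α * α) * (β * β) := by rw [← ab]; group
      _ = 1 := by rw [aa, bb, one_mul]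

/-- **Frames**, general form. -/
theorem exists_frame_gen [Finite Y] (h : RE B Φ x ht) (ha : RA B Φ x ht ρ Fl) {α β : MulAut Y} (aa : α * α = 1)
    (bb : β * β = 1) (ab : α * β = β * α) (H : Subgroup (MulAut Y)) (C : Subgroup Y)
    (hHC : ∀ γ ∈ H, ∀ c ∈ C, γ c ∈ C) (hCH : ∀ c ∈ C, MulAut.conj c ∈ H) (hαH : α ∈ H) (hβH : β ∈ H) {g0 : Y}
    (hg0 : ∀ u ∈ XS x (Pos Φ ht), g0 * u * g0⁻¹ ∈ C) :
    ∃ c ∈ C, (∀ u ∈ XS (mv (MulAut.conj (c * g0)) x) (Pos Φ ht), α u ∈ XS (mv (MulAut.conj (c * g0)) x) (Pos Φ ht)) ∧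
      ∀ u ∈ XS (mv (MulAut.conj (c * g0)) x) (Pos Φ ht), β u ∈ XS (mv (MulAut.conj (c * g0)) x) (Pos Φ ht) := by
  classical
  have : Finite (MulAut Y) := Finite.of_injective (fun γ : MulAut Y => (γ : Y → Y)) (fun γ δ h0 => MulEquiv.ext (congrFun h0))
  let I : Subgroup (MulAut Y) := C.map MulAut.conj
  have hIm : ∀ γ : MulAut Y, γ ∈ I ↔ ∃ c ∈ C, MulAut.conj c = γ := fun γ => Iff.rfl
  have hIH : I ≤ H := by
    rintro _ ⟨c, hc, rfl⟩
    exact hCH c hc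
  have hconj : ∀ (γ : MulAut Y) (c : Y), γ * MulAut.conj c * γ⁻¹ = MulAut.conj (γ c) := by
    intro γ c
    ext y
    show γ (c * γ⁻¹ y * c⁻¹) = γ c * y * (γ c)⁻¹
    rw [map_mul, map_mul, map_inv]
    have : γ (γ⁻¹ y) = y := γ.apply_symm_apply y
    rw [this]
  have hHI : H ≤ normalizer (I : Set (MulAut Y)) := by
    have key : ∀ γ ∈ H, ∀ δ ∈ I, γ * δ * γ⁻¹ ∈ I := by
      intro γ hγ δ hδ
      obtain ⟨c, hc, rfl⟩ := (hIm δ).mp hδ
      rw [hconj, hIm]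
      exact ⟨γ c, hHC γ hγ c hc, rfl⟩
    intro γ hγ
    rw [mem_normalizer_iff]
    intro δ
    refine ⟨key γ hγ δ, fun h1 => ?_⟩
    have h2 := key γ⁻¹ (H.inv_mem hγ) _ h1
    have e2 : γ⁻¹ * (γ * δ * γ⁻¹) * γ⁻¹⁻¹ = δ := by group
    rwa [e2] at h2
  have hA : _root_.Subgroup.closure ({α, β} : Set (MulAut Y)) ≤ H := by
    rw [closure_le]
    rintro γ (rfl | hγ)
    · exact hαH
    · rw [Set.mem_singleton_iff] at hγ
      rw [hγ]; exact hβH
  obtain ⟨T, hT, hAT⟩ := exists_isSyl (two_pair aa bb ab) hA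
  have hTI : IsSyl (T ⊓ I) I := hT.inf hIH (hT.le.trans hHI)
  -- the Sylow subgroup `g0 U g0⁻¹`
  have hU2 := RA.two_U h ha
  let P : Subgroup (MulAut Y) := ((XS x (Pos Φ ht)).map (MulAut.conj g0).toMonoidHom).map MulAut.conj
  have hP2 : IsPGroup 2 ↥P := (hU2.map _).map _
  have hPI : P ≤ I := by
    rintro _ ⟨_, ⟨u, hu, rfl⟩, rfl⟩
    exact ⟨_, hg0 u hu, rfl⟩
  obtain ⟨m, hm, hmP⟩ := hTI.conj_into hP2 hPI
  obtain ⟨c, hc, rfl⟩ := (hIm m).mp hm
  -- the new element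
  refine ⟨c, hc, ?_⟩
  set g := c * g0 with hg
  have hmem : ∀ u ∈ XS x (Pos Φ ht), MulAut.conj (g * u * g⁻¹) ∈ T ⊓ I := by
    intro u hu
    have h1 := hmP (MulAut.conj (g0 * u * g0⁻¹)) ⟨_, ⟨u, hu, rfl⟩, rfl⟩
    have e1 : MulAut.conj c * MulAut.conj (g0 * u * g0⁻¹) * (MulAut.conj c)⁻¹ = MulAut.conj (g * u * g⁻¹) := by
      rw [← map_mul, ← map_inv, ← map_mul]
      congr 1
      rw [hg]; group
    rwa [e1] at h1
  -- conversely
  have hback : ∀ s : Y, MulAut.conj s ∈ T ⊓ I → g⁻¹ * s * g ∈ XS x (Pos Φ ht) := by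
    obtain ⟨S, hS⟩ := ha.syl
    let R : Subgroup Y := ((T ⊓ I).comap MulAut.conj).map (MulAut.conj g⁻¹).toMonoidHom
    have hR2 : IsPGroup 2 ↥R := by
      apply IsPGroup.map
      exact hTI.two.comap_of_injective _ fun s t hst => h.conj_inj hst
    have hSR : (S : Subgroup Y) ≤ R := by
      intro u hu
      have hu' : u ∈ XS x (Pos Φ ht) := by rw [← hS]; exact hu
      refine ⟨g * u * g⁻¹, hmem u hu', ?_⟩
      show g⁻¹ * (g * u * g⁻¹) * g⁻¹⁻¹ = u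
      group
    have h3 := S.3 hR2 hSR
    intro s hs
    rw [← hS, ← h3]
    refine ⟨s, hs, ?_⟩
    show g⁻¹ * s * g⁻¹⁻¹ = g⁻¹ * s * g
    rw [inv_inv]
  have hinv : ∀ γ ∈ T, ∀ u ∈ XS (mv (MulAut.conj g) x) (Pos Φ ht), γ u ∈ XS (mv (MulAut.conj g) x) (Pos Φ ht) := by
    intro γ hγ u hu
    rw [mem_XS_mv] at hu ⊢
    have e1 : ∀ y, (MulAut.conj g).symm y = g⁻¹ * y * g := fun y => rfl
    rw [e1] at hu ⊢
    apply hback
    have h1 := hmem _ hu
    have e2 : g * (g⁻¹ * u * g) * g⁻¹ = u := by group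
    rw [e2] at h1
    rw [← hconj]
    exact ⟨T.mul_mem (T.mul_mem hγ h1.1) (T.inv_mem hγ), (mem_normalizer_iff.mp (hHI (hT.le hγ)) _).mp h1.2⟩
  exact ⟨hinv α (hAT (_root_.Subgroup.subset_closure (Set.mem_insert _ _))), hinv β (hAT (_root_.Subgroup.subset_closure (Set.mem_insert_of_mem _ rfl)))⟩

/-- **Frames**: with a fixed root element in the centre. -/
theorem exists_frame [Finite Y] (h : RE B Φ x ht) (ha : RA B Φ x ht ρ Fl) {α β : MulAut Y} (aa : α * α = 1)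
    (bb : β * β = 1) (ab : α * β = β * α) {e g0 : Y} (he : g0 * x ρ * g0⁻¹ = e) (hα : α e = e) (hβ : β e = e) :
    ∃ g : Y, g * x ρ * g⁻¹ = e ∧ (∀ u ∈ XS (mv (MulAut.conj g) x) (Pos Φ ht), α u ∈ XS (mv (MulAut.conj g) x) (Pos Φ ht)) ∧
      ∀ u ∈ XS (mv (MulAut.conj g) x) (Pos Φ ht), β u ∈ XS (mv (MulAut.conj g) x) (Pos Φ ht) := by
  obtain ⟨c, hc, h1, h2⟩ := exists_frame_gen h ha aa bb ab (MulAction.stabilizer (MulAut Y) e)
    (centralizer ({e} : Set Y)) (by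
      intro γ hγ c hc
      rw [mem_centralizer_singleton_iff] at hc ⊢
      have hγ' : γ e = e := hγ
      calc γ c * e = γ c * γ e := by rw [hγ']
        _ = γ (c * e) := (map_mul _ _ _).symm
        _ = γ (e * c) := by rw [hc]
        _ = e * γ c := by rw [map_mul, hγ']) (by
      intro c hc
      rw [mem_centralizer_singleton_iff] at hc
      show c * e * c⁻¹ = e
      rw [hc, mul_inv_cancel_right]) hα hβ (g0 := g0) (by
      intro u hu
      rw [mem_centralizer_singleton_iff, ← he]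
      have := RA.U_central h ha hu
      calc g0 * u * g0⁻¹ * (g0 * x ρ * g0⁻¹) = g0 * (u * x ρ) * g0⁻¹ := by group
        _ = g0 * (x ρ * u) * g0⁻¹ := by rw [this]
        _ = _ := by group)
  refine ⟨c * g0, ?_, h1, h2⟩
  rw [mem_centralizer_singleton_iff] at hc
  calc c * g0 * x ρ * (c * g0)⁻¹ = c * (g0 * x ρ * g0⁻¹) * c⁻¹ := by group
    _ = c * e * c⁻¹ := by rw [he]
    _ = e := by rw [hc, mul_inv_cancel_right]

/-- **Frames**: an invariant Sylow 2-subgroup. -/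
theorem exists_frame' [Finite Y] (h : RE B Φ x ht) (ha : RA B Φ x ht ρ Fl) {α β : MulAut Y} (aa : α * α = 1)
    (bb : β * β = 1) (ab : α * β = β * α) :
    ∃ g : Y, (∀ u ∈ XS (mv (MulAut.conj g) x) (Pos Φ ht), α u ∈ XS (mv (MulAut.conj g) x) (Pos Φ ht)) ∧
      ∀ u ∈ XS (mv (MulAut.conj g) x) (Pos Φ ht), β u ∈ XS (mv (MulAut.conj g) x) (Pos Φ ht) := by
  obtain ⟨c, -, h1, h2⟩ := exists_frame_gen h ha aa bb ab ⊤ ⊤ (fun _ _ _ _ => mem_top _) (fun _ _ => mem_top _)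
    (mem_top _) (mem_top _) (g0 := 1) (fun _ _ => mem_top _)
  exact ⟨c * 1, h1, h2⟩

end Cfsg.Agent.OddHalf.D4.En2

end

-- merged: Cfsg.Agent.OddHalf.D4.En2.Kill
section

/-!
# ODD, D4, `E_n(2)`: no configuration

`false_of_conf` : `RE`, `RA` and `FlOK Fl` exclude `Conf α β D N`.
-/

set_option autoImplicit false
set_option linter.unusedSectionVars false

namespace Cfsg.Agent.OddHalf.D4.En2

open Subgroup Cfsg.Agent.OddHalf.SL.Defs Cfsg.Agent.OddHalf.D4.Basic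

variable {L Y : Type*} [AddCommGroup L] [Group Y]
variable {B : L → L → ℤ} {Φ : Set L} {x : L → Y} {ht : L →+ ℤ} {ρ : L} {Fl : (L →+ L) → Prop}

/-- The conditions on the diagram automorphisms: they permute the positive roots, at most one is nontrivial and it moves
more than 8 of the roots `t` with `⟨t, ρ⟩ = 1`. -/
structure FlOK (B : L → L → ℤ) (Φ : Set L) (ht : L →+ ℤ) (ρ : L) (Fl : (L →+ L) → Prop) : Prop where
  pos : ∀ τ, Fl τ → ∀ c ∈ Pos Φ ht, τ c ∈ Pos Φ ht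
  inj : ∀ τ, Fl τ → Function.Injective τ
  alt : ∀ τ, Fl τ → (∀ c ∈ Φ, τ c = c) ∨ 8 < {t | t ∈ Φ ∧ B t ρ = 1 ∧ τ t ≠ t}.ncard
  comp : ∀ τ τ', Fl τ → Fl τ' → (¬ ∀ c ∈ Φ, τ c = c) → (¬ ∀ c ∈ Φ, τ' c = c) → ∀ c ∈ Φ, τ (τ' c) = c

/-- the positive unipotent group of the root elements conjugated by one of its elements -/
theorem XS_conj_self (_ : RE B Φ x ht) {g : Y} (hg : g ∈ XS x (Pos Φ ht)) {u : Y} :
    u ∈ XS (mv (MulAut.conj g) x) (Pos Φ ht) ↔ u ∈ XS x (Pos Φ ht) := by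
  rw [mem_XS_mv]
  have e1 : (MulAut.conj g).symm u = g⁻¹ * u * g := rfl
  rw [e1]
  constructor
  · intro h1
    have := mul_mem (mul_mem hg h1) (inv_mem hg)
    have e : g * (g⁻¹ * u * g) * g⁻¹ = u := by group
    rwa [e] at this
  · intro h1
    exact mul_mem (mul_mem (inv_mem hg) h1) hg

/-- leading terms -/
theorem lead_conj (h : RE B Φ x ht) {s : Y} (hs : s ∈ XS x (Pos Φ ht)) {d : L} (hd : d ∈ Pos Φ ht) :
    (x d)⁻¹ * (s * x d * s⁻¹) ∈ XS x {e | e ∈ Pos Φ ht ∧ ht d < ht e} := by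
  have hT : ∀ c ∈ Pos Φ ht, ∀ u ∈ XS x {e | e ∈ Pos Φ ht ∧ ht d < ht e},
      x c * u * (x c)⁻¹ ∈ XS x {e | e ∈ Pos Φ ht ∧ ht d < ht e} := by
    intro c hc u hu
    apply h.conj_XS hc.1 (fun e he => he.1.1) _ _ hu
    · rintro ⟨⟨-, h3⟩, -⟩
      have := hc.2
      rw [map_neg] at h3
      omega
    · rintro e ⟨he, he'⟩ hce
      refine ⟨h.closed_pos c hc e he hce, ?_⟩
      have := hc.2
      rw [map_add]; omega
  have hN : XS x (Pos Φ ht) ≤ normalizer (XS x {e | e ∈ Pos Φ ht ∧ ht d < ht e} : Set Y) := by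
    apply XS_le
    intro c hc
    rw [mem_normalizer_iff]
    intro u
    refine ⟨fun hu => hT c hc u hu, fun h3 => ?_⟩
    have h4 := hT c hc _ h3
    rw [h.inv hc.1] at h4
    have e : x c * (x c * u * x c) * x c = (x c * x c) * u * (x c * x c) := by group
    rw [e, h.sq c hc.1, one_mul, mul_one] at h4
    exact h4
  have hN' : ∀ g ∈ XS x (Pos Φ ht), ∀ u ∈ XS x {e | e ∈ Pos Φ ht ∧ ht d < ht e},
      g * u * g⁻¹ ∈ XS x {e | e ∈ Pos Φ ht ∧ ht d < ht e} := fun g hg u hu =>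
    (mem_normalizer_iff.mp (hN hg) u).mp hu
  have hdU : x d ∈ XS x (Pos Φ ht) := mem_XS hd
  unfold XS at hs
  induction hs using closure_induction with
  | mem z hz =>
    obtain ⟨c, hc, rfl⟩ := hz
    rcases h.cases hc.1 hd.1 with h1 | h1 | h1
    · exfalso
      have := h.rt.eq_neg hc.1 hd.1 h1
      have h2 := hc.2
      have h3 := hd.2
      rw [this, map_neg] at h2
      omega
    · rw [h.conj_neg hc.1 hd.1 h1, inv_mul_cancel_left]
      apply mem_XS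
      refine ⟨h.closed_pos c hc d hd h1, ?_⟩
      have := hc.2
      rw [map_add]; omega
    · rw [h.conj_pos hc.1 hd.1 (by omega), inv_mul_cancel]
      exact one_mem _
  | one => rw [one_mul, inv_one, mul_one, inv_mul_cancel]; exact one_mem _
  | mul y1 y2 hy1 hy2 ih1 ih2 =>
    have e1 : (x d)⁻¹ * (y1 * y2 * x d * (y1 * y2)⁻¹) =
        ((x d)⁻¹ * (y1 * x d * y1⁻¹)) * (y1 * ((x d)⁻¹ * (y2 * x d * y2⁻¹)) * y1⁻¹) := by group
    rw [e1]
    exact mul_mem ih1 (hN' y1 hy1 _ ih2)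
  | inv y1 hy1 ih1 =>
    have h3 : (x d)⁻¹ * (y1⁻¹ * x d * y1⁻¹⁻¹) =
        ((x d)⁻¹ * y1⁻¹ * x d) * (((x d)⁻¹ * (y1 * x d * y1⁻¹))⁻¹) * ((x d)⁻¹ * y1⁻¹ * x d)⁻¹ := by group
    rw [h3]
    exact hN' _ (mul_mem (mul_mem (inv_mem hdU) (inv_mem hy1)) hdU) _ (inv_mem ih1)

/-- `x d ∉ XS x S` up to higher terms -/
theorem lead_notMem (h : RE B Φ x ht) {s : Y} (hs : s ∈ XS x (Pos Φ ht)) {d : L} (hd : d ∈ Pos Φ ht) {S : Set L}
    (hS : S ⊆ Pos Φ ht) (hSc : Closed B (S ∪ {e | e ∈ Pos Φ ht ∧ ht d < ht e})) (hdS : d ∉ S)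
    (h1 : s * x d * s⁻¹ ∈ XS x S) : False := by
  have h2 := lead_conj h hs hd
  have h3 : x d ∈ XS x (S ∪ {e | e ∈ Pos Φ ht ∧ ht d < ht e}) := by
    have e : x d = (s * x d * s⁻¹) * ((x d)⁻¹ * (s * x d * s⁻¹))⁻¹ := by group
    rw [e]
    exact mul_mem (XS_mono Set.subset_union_left h1) (inv_mem (XS_mono Set.subset_union_right h2))
  refine h.notMem_of_notMem ?_ hSc hd ?_ h3
  · rintro e (he | he)
    · exact hS he
    · exact he.1
  · rintro (h4 | h4)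
    · exact hdS h4
    · exact lt_irrefl _ h4.2

theorem lead_eq (h : RE B Φ x ht) {s : Y} (hs : s ∈ XS x (Pos Φ ht)) {d c : L} (hd : d ∈ Pos Φ ht)
    (hc : c ∈ Pos Φ ht) (h1 : s * x d * s⁻¹ = x c) : d = c := by
  by_contra hdc
  refine lead_notMem h hs hd (S := {c}) ?_ ?_ hdc (by rw [h1]; exact mem_XS rfl)
  · rintro e he
    rw [Set.mem_singleton_iff] at he
    rw [he]; exact hc
  · rintro a (ha | ha) b (hb | hb) hab
    · exfalso
      rw [Set.mem_singleton_iff] at ha hb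
      rw [ha, hb, h.self hc.1] at hab
      omega
    · right
      rw [Set.mem_singleton_iff] at ha
      rw [ha] at hab ⊢
      refine ⟨h.closed_pos c hc b hb.1 hab, ?_⟩
      have := hc.2
      have := hb.2
      rw [map_add]; omega
    · right
      rw [Set.mem_singleton_iff] at hb
      rw [hb] at hab ⊢
      refine ⟨h.closed_pos a ha.1 c hc hab, ?_⟩
      have := hc.2
      have := ha.2
      rw [map_add]; omega
    · right
      refine ⟨h.closed_pos a ha.1 b hb.1 hab, ?_⟩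
      have := hb.1.2
      have := ha.2
      rw [map_add]; omega

/-- an automorphism with trivial diagram part is inner -/
theorem inner_of_id (h : RE B Φ x ht) {β : MulAut Y} {s : Y} {τ : L →+ L}
    (hβ : ∀ c ∈ Φ, β (x c) = s * x (τ c) * s⁻¹) (hτ : ∀ c ∈ Φ, τ c = c) : β = MulAut.conj s :=
  h.aut_ext fun c hc => by rw [hβ c hc, hτ c hc, MulAut.conj_apply]

section

variable [Finite Y] (h : RE B Φ x ht) (ha : RA B Φ x ht ρ Fl) (hFl : FlOK B Φ ht ρ Fl) {α β : MulAut Y}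
  {D N : Subgroup Y} (hc : Conf α β D N)
include h ha

omit [Finite Y] ha in
/-- every involution of `U` is a product of orthogonal root elements for conjugate root elements -/
theorem exists_list {w : Y} (hw : w ∈ XS x (Pos Φ ht)) (hw2 : w * w = 1) :
    ∃ g ∈ XS x (Pos Φ ht), ∃ F : List L, Ort B Φ F ∧ (∀ r ∈ F, r ∈ Pos Φ ht) ∧
      w = pr (mv (MulAut.conj g) x) F := by
  obtain ⟨g, hg, F, hF, hFp, hgF⟩ := h.exists_conj hw hw2
  refine ⟨g⁻¹, inv_mem hg, F, hF, hFp, ?_⟩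
  rw [pr_mv, MulAut.conj_apply, ← hgF]; group

include hc

/-- **Case (B).** -/
theorem caseB (hFl : FlOK B Φ ht ρ Fl) (hB : NoN x ρ α β N) (hαU : ∀ u ∈ XS x (Pos Φ ht), α u ∈ XS x (Pos Φ ht))
    (hβU : ∀ u ∈ XS x (Pos Φ ht), β u ∈ XS x (Pos Φ ht)) {a : Y} (hα : α = MulAut.conj a) : False := by
  have haU : a ∈ XS x (Pos Φ ht) := ha.norm a (by rw [hα] at hαU; exact hαU)
  have ha2 : a * a = 1 := by
    apply h.conj_inj
    rw [map_mul, ← hα, hc.aa, map_one]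
  obtain ⟨g, hg, F, hF, hFp, haF⟩ := exists_list h haU ha2
  -- the new root elements
  have h' := h.map (MulAut.conj g)
  have ha' := ha.map (MulAut.conj g)
  have hB' := hB.mv g
  have hβU' : ∀ u ∈ XS (mv (MulAut.conj g) x) (Pos Φ ht), β u ∈ XS (mv (MulAut.conj g) x) (Pos Φ ht) := by
    intro u hu
    rw [XS_conj_self h hg] at hu ⊢
    exact hβU u hu
  have hρF : ρ ∈ Cone B Φ F := ⟨ha.ρmem, fun r hr => by
    rw [h.rt.symm]; exact ha.high r (hFp r hr).1 (hFp r hr).2⟩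
  have hfix := RA.aut_fix h' ha' hβU'
  have hα' : α = MulAut.conj (pr (mv (MulAut.conj g) x) F) := by rw [← haF]; exact hα
  obtain ⟨s, hs, τ, hτ, hβτ⟩ := ha'.auto β hβU'
  by_cases hid : ∀ c ∈ Φ, τ c = c
  · have hβs := inner_of_id h' hβτ hid
    exact caseB_ind F.length _ h' ha' α β hc hB' F hF le_rfl hα' s hβs ρ hρF hfix
  · -- outer
    have hcone : ∀ c ∈ Cone B Φ F, c ∈ Pos Φ ht → τ c = c := by
      intro c hcF hcp
      have h1 := B_cone h' ha' hc hB' hF hα' hρF hfix hcF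
      rw [hβτ c hcF.1] at h1
      exact lead_eq h' hs (hFl.pos τ hτ c hcp) hcp h1
    -- a moved positive root
    obtain ⟨b, hb, hbτ⟩ : ∃ b ∈ Pos Φ ht, τ b ≠ b := by
      by_contra hcon
      push Not at hcon
      apply hid
      intro c hcΦ
      by_cases h0 : 0 < ht c
      · exact hcon c ⟨hcΦ, h0⟩
      · have h1 := h.ht0 c hcΦ
        have h2 := hcon (-c) ⟨h.rt.neg_mem c hcΦ, by rw [map_neg]; omega⟩
        rw [map_neg] at h2
        exact neg_injective h2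
    have hFτ : ∀ r ∈ F, τ r = r := fun r hr => hcone r (h.mem_cone hF hr) (hFp r hr)
    obtain ⟨b', hb', g1, -, -, g4, g5⟩ := exists_plus h.rt hF hb.1 (by
      intro r hr hbr
      have e := h.rt.eq_neg hb.1 (hF.mem r hr) hbr
      have h1 := hb.2
      have h2 := (hFp r hr).2
      rw [e, map_neg] at h1
      omega)
    have h1 := g4 ht fun r hr => (hFp r hr).2.le
    have h2 := hcone b' ⟨hb', g1⟩ ⟨hb', by have := hb.2; omega⟩
    have h3 := g5 τ hFτ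
    rw [h2, sub_self] at h3
    exact hbτ (sub_eq_zero.mp h3.symm)

/-- **Case (A), `β` outer.** -/
theorem caseA_outer (hFl : FlOK B Φ ht ρ Fl) (hne : ∃ n ∈ N, n ∈ Qs B Φ x ρ ∧ n ≠ 1)
    (hβU : ∀ u ∈ XS x (Pos Φ ht), β u ∈ XS x (Pos Φ ht)) (hβo : ¬ ∃ b, β = MulAut.conj b) : False := by
  have rt := h.rt
  obtain ⟨w, hwN, hwQ, hw1, hwρ, hw2, hN, hD⟩ := exists_w0 h ha hc hne
  obtain ⟨g, hg, F, hF, hFp, hwF⟩ := exists_list h (RA.Qρ_le h ha hwQ) hw2
  have h' := h.map (MulAut.conj g)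
  have ha' := ha.map (MulAut.conj g)
  have hβU' : ∀ u ∈ XS (mv (MulAut.conj g) x) (Pos Φ ht), β u ∈ XS (mv (MulAut.conj g) x) (Pos Φ ht) := by
    intro u hu
    rw [XS_conj_self h hg] at hu ⊢
    exact hβU u hu
  have hxρ : mv (MulAut.conj g) x ρ = x ρ := by
    rw [mv_apply, MulAut.conj_apply, ← RA.U_central h ha hg, mul_inv_cancel_right]
  have hQ' : Qs B Φ (mv (MulAut.conj g) x) ρ = Qs B Φ x ρ := by
    rw [← RA.OO_eq h' ha' ha.ρmem, ← RA.OO_eq h ha ha.ρmem, hxρ]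
  set x' := mv (MulAut.conj g) x with hx'
  have hρ := ha.ρmem
  -- `F` lies in `Φ_1(ρ)`
  have hFcl : ∀ S : Set L, (∀ c ∈ S, c ∈ F) → Closed B S := by
    intro S hS a ha b hb hab
    exfalso
    by_cases e : a = b
    · rw [e, h.self (hF.mem b (hS b hb))] at hab
      omega
    · rw [hF.eq_zero rt (hS a ha) (hS b hb) e] at hab
      omega
  have hQpos : {c | c ∈ Φ ∧ 0 < B c ρ} ⊆ Pos Φ ht := fun c hc => RA.pos_of h ha hc.1 hc.2
  have hQcl : Closed B {c | c ∈ Φ ∧ 0 < B c ρ} := by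
    rintro a ⟨ha1, ha2⟩ b ⟨hb1, hb2⟩ hab
    exact ⟨rt.add a ha1 b hb1 hab, by rw [rt.add_left]; omega⟩
  have hwF' : w ∈ XS x' ({c | c ∈ F} ∩ {c | c ∈ Φ ∧ 0 < B c ρ}) := by
    apply h'.inf _ _ (fun c hc => hFp c hc) hQpos (hFcl _ fun c hc => hc) hQcl
    refine ⟨?_, ?_⟩
    · rw [hwF]; exact RE.pr_mem fun a ha => ha
    · have : w ∈ Qs B Φ x' ρ := by rw [hQ']; exact hwQ
      exact this
  have hperm : ∀ r ∈ F, ∃ F', F.Perm (r :: F') := by
    classical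
    exact fun r hr => ⟨F.erase r, List.perm_cons_erase hr⟩
  have hF0 : ∀ r ∈ F, 0 < B r ρ := by
    intro r hr
    by_contra hcon
    obtain ⟨F', hp⟩ := hperm r hr
    have hO := hF.perm rt hp
    have hrF' : r ∉ F' := by
      intro h1
      have := hO.orth r h1
      rw [h.self (hF.mem r hr)] at this
      omega
    have h1 : w ∈ XS x' {c | c ∈ F'} := by
      refine XS_mono ?_ hwF'
      rintro c ⟨hcF, hcQ⟩
      have h2 : c ∈ r :: F' := hp.mem_iff.mp hcF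
      rcases List.mem_cons.mp h2 with rfl | h2
      · exact absurd hcQ.2 hcon
      · exact h2
    have h2 : pr x' F' ∈ XS x' {c | c ∈ F'} := RE.pr_mem fun a ha => ha
    have h3 : x' r ∈ XS x' {c | c ∈ F'} := by
      have e : x' r = w * (pr x' F')⁻¹ := by
        rw [hwF, h'.pr_perm hF hp, pr_cons, mul_inv_cancel_right]
      rw [e]; exact mul_mem h1 (inv_mem h2)
    refine h'.notMem_of_notMem ?_ ?_ (hFp r hr) hrF' h3
    · intro c hc'
      exact hFp c (hp.mem_iff.mpr (List.mem_cons_of_mem _ hc'))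
    · exact hFcl _ fun c hc' => hp.mem_iff.mpr (List.mem_cons_of_mem _ hc')
  have hF1 : ∀ r ∈ F, B r ρ = 1 := by
    intro r hr
    have h1 := hF0 r hr
    have h2 := rt.le r (hF.mem r hr) ρ hρ
    have h3 : B r ρ ≠ 2 := by
      intro h4
      have hrρ : r = ρ := rt.eq r (hF.mem r hr) ρ hρ h4
      obtain ⟨F', hp⟩ := hperm r hr
      have hO := hF.perm rt hp
      have hF'0 : F' = [] := by
        rw [List.eq_nil_iff_forall_not_mem]
        intro c hc'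
        have h5 := hO.orth c hc'
        have h6 := hF0 c (hp.mem_iff.mpr (List.mem_cons_of_mem _ hc'))
        rw [rt.symm, ← hrρ] at h6
        omega
      apply hwρ
      rw [hwF, h'.pr_perm hF hp, hF'0, pr_cons, pr_nil, mul_one, hrρ, hxρ]
    omega
  have hF4 : F.length ≤ 4 := by
    by_contra hcon
    push Not at hcon
    rcases F with _ | ⟨r1, _ | ⟨r2, _ | ⟨r3, _ | ⟨r4, _ | ⟨r5, F'⟩⟩⟩⟩⟩
    all_goals first
      | (simp only [List.length_cons, List.length_nil] at hcon; omega)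
      | skip
    have hr1 : r1 ∈ Φ := hF.mem r1 (by simp)
    have hr2 : r2 ∈ Φ := hF.mem r2 (by simp)
    have hr3 : r3 ∈ Φ := hF.mem r3 (by simp)
    have hr4 : r4 ∈ Φ := hF.mem r4 (by simp)
    have o12 : B r1 r2 = 0 := hF.orth r2 (by simp)
    have o13 : B r1 r3 = 0 := hF.orth r3 (by simp)
    have o14 : B r1 r4 = 0 := hF.orth r4 (by simp)
    have o15 : B r1 r5 = 0 := hF.orth r5 (by simp)
    have o23 : B r2 r3 = 0 := hF.tail.orth r3 (by simp)
    have o24 : B r2 r4 = 0 := hF.tail.orth r4 (by simp)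
    have o25 : B r2 r5 = 0 := hF.tail.orth r5 (by simp)
    have o34 : B r3 r4 = 0 := hF.tail.tail.orth r4 (by simp)
    have o35 : B r3 r5 = 0 := hF.tail.tail.orth r5 (by simp)
    have o45 : B r4 r5 = 0 := hF.tail.tail.tail.orth r5 (by simp)
    have b1 := hF1 r1 (by simp)
    have b2 := hF1 r2 (by simp)
    have b3 := hF1 r3 (by simp)
    have b4 := hF1 r4 (by simp)
    have b5 := hF1 r5 (by simp)
    have c1 : B ρ r1 = 1 := by rw [rt.symm]; exact b1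
    have c2 : B ρ r2 = 1 := by rw [rt.symm]; exact b2
    have c3 : B ρ r3 = 1 := by rw [rt.symm]; exact b3
    have c4 : B ρ r4 = 1 := by rw [rt.symm]; exact b4
    have c5 : B ρ r5 = 1 := by rw [rt.symm]; exact b5
    have q1 : ρ - r1 ∈ Φ := rt.sub_mem hρ hr1 c1
    have q2 : ρ - r1 - r2 ∈ Φ := rt.sub_mem q1 hr2 (by rw [rt.sub_left]; omega)
    have q3 : ρ - r1 - r2 - r3 ∈ Φ := rt.sub_mem q2 hr3 (by rw [rt.sub_left, rt.sub_left]; omega)
    have q4 : ρ - r1 - r2 - r3 - r4 ∈ Φ := rt.sub_mem q3 hr4 (by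
      rw [rt.sub_left, rt.sub_left, rt.sub_left]; omega)
    have q5 : B (ρ - r1 - r2 - r3 - r4) ρ = -2 := by
      rw [rt.sub_left, rt.sub_left, rt.sub_left, rt.sub_left, h.self hρ]; omega
    have q6 := rt.eq_neg q4 hρ q5
    have q7 : B (ρ - r1 - r2 - r3 - r4) r5 = B (-ρ) r5 := by rw [q6]
    rw [rt.sub_left, rt.sub_left, rt.sub_left, rt.sub_left, rt.neg_left] at q7
    omega
  obtain ⟨s, hs, τ, hτ, hβτ⟩ := ha'.auto β hβU'
  have hid : ¬ ∀ c ∈ Φ, τ c = c := fun hid => hβo ⟨s, inner_of_id h' hβτ hid⟩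
  have hβρ : β (x' ρ) = x' ρ := RA.aut_fix h' ha' hβU'
  -- moved roots
  have key : ∀ t ∈ Φ, B t ρ = 1 → τ t ≠ t → ρ - t ∉ F → τ t ∈ F := by
    intro t htΦ htρ htτ htF
    by_contra hτF
    have htp : t ∈ Pos Φ ht := RA.pos_of h ha htΦ (by omega)
    have htQ : x' t ∈ Qs B Φ x' ρ := mem_XS ⟨htΦ, by omega⟩
    have hcw : x' t * w = w * x' t := by
      rw [hwF]
      apply h'.comm_pr' htΦ hF
      intro r hr
      rcases h.cases htΦ (hF.mem r hr) with h1 | h1 | h1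
      · exfalso
        have e := rt.eq_neg htΦ (hF.mem r hr) h1
        have h2 := hF1 r hr
        rw [e, rt.neg_left] at htρ
        omega
      · exfalso
        have h2 := rt.add t htΦ r (hF.mem r hr) h1
        have h3 : t + r = ρ := rt.eq _ h2 ρ hρ (by rw [rt.add_left, htρ, hF1 r hr]; norm_num)
        apply htF
        rw [← h3]
        have : t + r - t = r := by abel
        rw [this]; exact hr
      · omega
    have hQQ : x' t ∈ Qs B Φ x ρ := by rw [← hQ']; exact htQ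
    have hDt := hD _ hQQ hcw
    have hNt := hc.comm β (Or.inr (Or.inl rfl)) _ hDt
    have hβQ : β (x' t) ∈ Qs B Φ x ρ := by
      have h3 := htQ
      rw [← RA.OO_eq h' ha' hρ] at h3
      have h4 := OO_map β (x' ρ) h3
      rw [hβρ, RA.OO_eq h' ha' hρ, hQ'] at h4
      exact h4
    have hτp := hFl.pos τ hτ t htp
    rcases hN _ hNt (mul_mem hβQ (inv_mem hQQ)) with h1 | h1
    · apply htτ
      have h2 : β (x' t) = x' t := mul_inv_eq_one.mp h1
      rw [hβτ t htΦ] at h2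
      exact lead_eq h' hs hτp htp h2
    · have h2 : β (x' t) = w * x' t := mul_inv_eq_iff_eq_mul.mp h1
      rw [hβτ t htΦ] at h2
      refine lead_notMem h' hs hτp (S := {c | c = t ∨ c ∈ F}) ?_ ?_ ?_ ?_
      · rintro c (rfl | hc')
        · exact htp
        · exact hFp c hc'
      · have hge : ∀ a b, (a = t ∨ a ∈ F) → (b = t ∨ b ∈ F) → B a b ≠ -1 := by
          have htr : ∀ r ∈ F, B t r ≠ -1 := by
            intro r hr h4
            have h5 := rt.add t htΦ r (hF.mem r hr) h4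
            have h6 : t + r = ρ := rt.eq _ h5 ρ hρ (by rw [rt.add_left, htρ, hF1 r hr]; norm_num)
            apply htF
            rw [← h6]
            have : t + r - t = r := by abel
            rw [this]; exact hr
          rintro a b (rfl | ha1) (rfl | hb1)
          · rw [h.self htΦ]; norm_num
          · exact htr b hb1
          · rw [rt.symm]; exact htr a ha1
          · by_cases e : a = b
            · rw [e, h.self (hF.mem b hb1)]; norm_num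
            · rw [hF.eq_zero rt ha1 hb1 e]; norm_num
        have hpos : ∀ a, (a = t ∨ a ∈ F) → a ∈ Pos Φ ht := by
          rintro a (rfl | ha1)
          · exact htp
          · exact hFp a ha1
        rintro a (ha1 | ha1) b (hb1 | hb1) hab
        · exact absurd hab (hge a b ha1 hb1)
        · right
          refine ⟨h.closed_pos a (hpos a ha1) b hb1.1 hab, ?_⟩
          have := (hpos a ha1).2
          have := hb1.2
          rw [map_add]; omega
        · right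
          refine ⟨h.closed_pos a ha1.1 b (hpos b hb1) hab, ?_⟩
          have := (hpos b hb1).2
          have := ha1.2
          rw [map_add]; omega
        · right
          refine ⟨h.closed_pos a ha1.1 b hb1.1 hab, ?_⟩
          have := ha1.1.2
          have := hb1.2
          rw [map_add]; omega
      · rintro (h3 | h3)
        · exact htτ h3
        · exact hτF h3
      · rw [h2, hwF]
        exact mul_mem (RE.pr_mem fun a ha => Or.inr ha) (mem_XS (Or.inl rfl))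
  -- counting
  have hcard := (hFl.alt τ hτ).resolve_left hid
  have hsub : {t | t ∈ Φ ∧ B t ρ = 1 ∧ τ t ≠ t} ⊆ ((fun r => ρ - r) '' {c | c ∈ F}) ∪ (τ ⁻¹' {c | c ∈ F}) := by
    rintro t ⟨ht1, ht2, ht3⟩
    by_cases h1 : ρ - t ∈ F
    · left
      exact ⟨ρ - t, h1, by show ρ - (ρ - t) = t; abel⟩
    · right
      exact key t ht1 ht2 ht3 h1
  have hFfin : {c : L | c ∈ F}.Finite := List.finite_toSet F
  have hFcard : {c : L | c ∈ F}.ncard ≤ 4 := by
    classical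
    have e : {c : L | c ∈ F} = ((F.toFinset : Finset L) : Set L) := by ext c; simp
    rw [e, Set.ncard_coe_finset]
    exact (List.toFinset_card_le F).trans hF4
  have hpre : (τ ⁻¹' {c | c ∈ F}).Finite := hFfin.preimage (hFl.inj τ hτ).injOn
  have h1 : (((fun r => ρ - r) '' {c | c ∈ F}) ∪ (τ ⁻¹' {c | c ∈ F})).ncard ≤ 8 := by
    have h2 := Set.ncard_union_le ((fun r => ρ - r) '' {c | c ∈ F}) (τ ⁻¹' {c | c ∈ F})
    have h3 : ((fun r => ρ - r) '' {c | c ∈ F}).ncard ≤ {c | c ∈ F}.ncard := Set.ncard_image_le hFfin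
    have h4 : (τ ⁻¹' {c | c ∈ F}).ncard ≤ {c | c ∈ F}.ncard := by
      rw [← Set.ncard_image_of_injective _ (hFl.inj τ hτ)]
      exact Set.ncard_le_ncard (Set.image_preimage_subset _ _) hFfin
    omega
  have h2 := Set.ncard_le_ncard hsub ((hFfin.image _).union hpre)
  omega

/-- with one inner automorphism -/
theorem false_of_inner (hFl : FlOK B Φ ht ρ Fl) {a : Y} (hα : α = MulAut.conj a) : False := by
  by_cases hB : NoN x ρ α β N
  · obtain ⟨g, h1, h2⟩ := exists_frame' h ha hc.aa hc.bb hc.ab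
    exact caseB (h.map (MulAut.conj g)) (ha.map (MulAut.conj g)) hc hFl (hB.mv g) h1 h2 hα
  · unfold NoN at hB
    push Not at hB
    obtain ⟨g0, e1, e2, n, hn, hnO, hn1⟩ := hB
    obtain ⟨g, hg, h1, h2⟩ := exists_frame h ha hc.aa hc.bb hc.ab rfl e1 e2
    have h' := h.map (MulAut.conj g)
    have ha' := ha.map (MulAut.conj g)
    have hne : ∃ n ∈ N, n ∈ Qs B Φ (mv (MulAut.conj g) x) ρ ∧ n ≠ 1 := by
      refine ⟨n, hn, ?_, hn1⟩
      rw [← RA.OO_eq h' ha' ha.ρmem]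
      have e : mv (MulAut.conj g) x ρ = g0 * x ρ * g0⁻¹ := hg
      rw [e]; exact hnO
    by_cases hβo : ∃ b, β = MulAut.conj b
    · obtain ⟨b, hb⟩ := hβo
      exact caseA_inner h' ha' hc hne h1 h2 hα hb
    · exact caseA_outer h' ha' hc hFl hne h2 hβo

/-- **No configuration.** -/
theorem false_of_conf (hFl : FlOK B Φ ht ρ Fl) : False := by
  by_cases hα : ∃ a, α = MulAut.conj a
  · obtain ⟨a, hα⟩ := hα
    exact false_of_inner h ha hc hFl hα
  by_cases hβ : ∃ b, β = MulAut.conj b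
  · obtain ⟨b, hβ⟩ := hβ
    exact false_of_inner h ha (conf_symm hc) hFl hβ
  -- both outer: the product is inner
  obtain ⟨g, h1, h2⟩ := exists_frame' h ha hc.aa hc.bb hc.ab
  have h' := h.map (MulAut.conj g)
  have ha' := ha.map (MulAut.conj g)
  obtain ⟨s, hs, τ, hτ, hατ⟩ := ha'.auto α h1
  obtain ⟨s', hs', τ', hτ', hβτ⟩ := ha'.auto β h2
  have hid : ¬ ∀ c ∈ Φ, τ c = c := fun hid => hα ⟨s, inner_of_id h' hατ hid⟩
  have hid' : ¬ ∀ c ∈ Φ, τ' c = c := fun hid => hβ ⟨s', inner_of_id h' hβτ hid⟩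
  have hττ : ∀ c ∈ Φ, τ (τ' c) = c := hFl.comp τ τ' hτ hτ' hid hid'
  have hτΦ : ∀ c ∈ Φ, τ' c ∈ Φ := by
    intro c hcΦ
    by_cases h0 : 0 < ht c
    · exact (hFl.pos τ' hτ' c ⟨hcΦ, h0⟩).1
    · have h3 := h.ht0 c hcΦ
      have h4 := (hFl.pos τ' hτ' (-c) ⟨h.rt.neg_mem c hcΦ, by rw [map_neg]; omega⟩).1
      rw [map_neg] at h4
      have := h.rt.neg_mem _ h4
      rwa [neg_neg] at this
  have hin : α * β = MulAut.conj (α s' * s) := by
    apply h'.aut_ext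
    intro c hcΦ
    show α (β _) = _
    rw [hβτ c hcΦ, map_mul, map_mul, map_inv, hατ _ (hτΦ c hcΦ), hττ c hcΦ, MulAut.conj_apply]
    group
  exact false_of_inner h ha (conf_mul hc) hFl hin

end

end Cfsg.Agent.OddHalf.D4.En2

end
end

-- part: OddHalf/D4/TwF/Types
section
-- merged: Cfsg.Agent.OddHalf.D4.TwF.Field
section

/-!
# Weights for `²F₄(q)`

`F` a field of characteristic two with an endomorphism `σ`, `σ σ = Frobenius`. Additive maps `F → F` which are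
homogeneous with respect to different powers are zero.
-/

set_option autoImplicit false
set_option linter.unusedSectionVars false

namespace Cfsg.Agent.OddHalf.D4.TwF.Field

variable {F : Type*} [Field F] [CharP F 2] {σ : F →+* F}

theorem add_self (x : F) : x + x = 0 := CharTwo.add_self_eq_zero x

theorem eq_of_add {x y : F} (h : x + y = 0) : x = y := by
  have h1 : x = x + y + y := by rw [add_assoc, add_self, add_zero]
  rw [h1, h, zero_add]

/-- the fixed points of `σ` -/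
theorem fix (hσ : ∀ x, σ (σ x) = x ^ 2) {x : F} (h : σ x = x) : x = 0 ∨ x = 1 := by
  have h1 := hσ x
  rw [h, h] at h1
  have h2 : x * (x - 1) = 0 := by ring_nf; rw [← h1]; ring
  rcases mul_eq_zero.mp h2 with h3 | h3
  · exact Or.inl h3
  · exact Or.inr (sub_eq_zero.mp h3)

/-- `σ` has an inverse `τ` -/
structure Inv (σ : F →+* F) (τ : F →+* F) : Prop where
  sq : ∀ x, σ (σ x) = x ^ 2
  l : ∀ x, τ (σ x) = x
  r : ∀ x, σ (τ x) = x
  big : ∃ x : F, x ≠ 0 ∧ x ≠ 1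

variable {τ : F →+* F}

/-- `τ (x²) = σ x` -/
theorem Inv.τ_sq (I : Inv σ τ) (x : F) : τ (x * x) = σ x := by
  rw [← pow_two, ← I.sq, I.l]

/-- an additive map with `ψ (c x) = ψ x` for all `c ≠ 0` -/
theorem zero_of_inv (I : Inv σ τ) {ψ : F → F} (hadd : ∀ x y, ψ (x + y) = ψ x + ψ y)
    (h : ∀ x y, x ≠ 0 → y ≠ 0 → ψ x = ψ y) (x : F) : ψ x = 0 := by
  have h0 : ψ 0 = 0 := by
    have := hadd 0 0
    rw [add_zero] at this
    exact left_eq_add.mp this
  by_cases hx : x = 0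
  · rw [hx, h0]
  obtain ⟨y, hy0, hy1⟩ := I.big
  have h1 : (1 : F) + y ≠ 0 := fun h => hy1 (eq_of_add h).symm
  have h2 := hadd 1 y
  rw [h _ _ h1 hx, h _ _ one_ne_zero hx, h _ _ hy0 hx, add_self] at h2
  exact h2

/-- the equation of the end -/
theorem end_eq (I : Inv σ τ) {e0 b : F} (hb : b ≠ 0) {p' : F}
    (h : ∀ p, e0 * τ (b * (1 + e0) * p) = p * σ p' + p' * σ p) : e0 = 0 ∨ e0 = 1 := by
  -- apply `σ`
  have h1 : ∀ p, σ e0 * (b * (1 + e0) * p) = σ p * (p' * p') + σ p' * (p * p) := by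
    intro p
    have := congrArg σ (h p)
    rw [map_mul, I.r, map_add, map_mul, map_mul, I.sq, I.sq, pow_two, pow_two] at this
    rw [this]
  have h2 := h1 1
  rw [map_one, mul_one, one_mul, mul_one, mul_one] at h2
  have h3 : ∀ p, p' * p' * (p + σ p) = σ p' * (p + p * p) := by
    intro p
    have e1 := h1 p
    have e2 : σ e0 * (b * (1 + e0) * p) = (p' * p' + σ p') * p := by rw [← h2]; ring
    rw [e2] at e1
    have e3 : (p' * p' + σ p') * p + (σ p * (p' * p') + σ p' * (p * p)) = 0 := by rw [← e1, add_self]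
    have e4 : p' * p' * (p + σ p) + σ p' * (p + p * p) = 0 := by rw [← e3]; ring
    exact eq_of_add e4
  by_cases hp : p' = 0
  · have h4 : e0 * τ (b * (1 + e0)) = 0 := by
      have := h 1
      rwa [hp, map_zero, zero_mul, mul_zero, add_zero, mul_one] at this
    rcases mul_eq_zero.mp h4 with h5 | h5
    · exact Or.inl h5
    · have h6 : b * (1 + e0) = 0 := by
        have := congrArg σ h5
        rwa [I.r, map_zero] at this
      exact Or.inr (eq_of_add ((mul_eq_zero.mp h6).resolve_left hb)).symm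
  · exfalso
    obtain ⟨κ, hκ⟩ : ∃ κ, κ = σ p' / (p' * p') := ⟨_, rfl⟩
    have hpp : p' * p' ≠ 0 := mul_ne_zero hp hp
    have h4 : ∀ p, σ p = (1 + κ) * p + κ * (p * p) := by
      intro p
      have e1 := h3 p
      have e2 : p + σ p = κ * (p + p * p) := by
        rw [hκ, div_mul_eq_mul_div, eq_div_iff hpp, ← e1]; ring
      have e3 : σ p = (p + σ p) + p := by
        have := add_self p
        calc σ p = σ p + (p + p) := by rw [this, add_zero]
          _ = (p + σ p) + p := by ring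
      rw [e3, e2]; ring
    obtain ⟨x, hx0, hx1⟩ := I.big
    have two : (2 : F) = 0 := CharTwo.two_eq_zero
    have h5 : (κ + κ * κ) * (x * x * ((1 + x) * (1 + x))) = 0 := by
      have e1 := map_mul σ x x
      rw [h4 (x * x), h4 x] at e1
      linear_combination (-1) * e1 + (κ * x ^ 4) * two
    have hx2 : (1 : F) + x ≠ 0 := fun h => hx1 (eq_of_add h).symm
    have h6 : κ * (1 + κ) = 0 := by
      have := (mul_eq_zero.mp h5).resolve_right
        (mul_ne_zero (mul_ne_zero hx0 hx0) (mul_ne_zero hx2 hx2))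
      rw [← this]; ring
    rcases mul_eq_zero.mp h6 with h7 | h7
    · have h8 := h4 x
      rw [h7, add_zero, one_mul, zero_mul, add_zero] at h8
      rcases fix I.sq h8 with h9 | h9
      · exact hx0 h9
      · exact hx1 h9
    · have h8 : ∀ y, σ y = y * y := by
        intro y
        have := h4 y
        have hk : κ = 1 := (eq_of_add h7).symm
        rw [this, hk, add_self, zero_mul, zero_add, one_mul]
      have h9 := I.sq x
      rw [h8, h8] at h9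
      have h10 : x * x * (x * x - 1) = 0 := by
        have : x * x * (x * x) - x ^ 2 = 0 := sub_eq_zero.mpr h9
        rw [← this]; ring
      have h11 := (mul_eq_zero.mp h10).resolve_left (mul_ne_zero hx0 hx0)
      have h12 : (1 + x) * (1 + x) = 0 := by
        linear_combination h11 + (1 + x) * two
      exact (mul_ne_zero hx2 hx2) h12

/-- the conclusion of the end -/
theorem end_mu (I : Inv σ τ) {e0 μ : F} (he : e0 = 0 ∨ e0 = 1) (h : σ μ + e0 * τ μ + μ * (1 + e0) = 0) :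
    μ = 0 ∨ μ = 1 := by
  have two : (2 : F) = 0 := CharTwo.two_eq_zero
  rcases he with rfl | rfl
  · rw [zero_mul, add_zero, add_zero, mul_one] at h
    exact fix I.sq (eq_of_add h)
  · rw [one_mul, add_self, mul_zero, add_zero] at h
    have h1 : σ μ = τ μ := eq_of_add h
    have h2 := congrArg σ h1
    rw [I.sq, I.r] at h2
    have h3 : μ * (μ - 1) = 0 := by
      have := sub_eq_zero.mpr h2
      rw [← this]; ring
    rcases mul_eq_zero.mp h3 with h4 | h4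
    · exact Or.inl h4
    · exact Or.inr (sub_eq_zero.mp h4)

end Cfsg.Agent.OddHalf.D4.TwF.Field

end

-- merged: Cfsg.Agent.OddHalf.D4.TwF.End
section

/-!
# ODD D4, `K = ²F₄(q)`, `q ≥ 8`: the end

`Fam`: elements `n a w` centralising `Q₂(a)` and acting on `A` by `r ↦ r z_a(μ r w)`. They lead to a contradiction if
`|A| ≥ 4`.
-/

set_option autoImplicit false
set_option linter.unusedSectionVars false

namespace Cfsg.Agent.OddHalf.D4.TwF.End

open Cfsg.Agent.KFacts.TwF4 Cfsg.Agent.OddHalf.D4.TwF.Field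

variable {F : Type*} [Field F] [CharP F 2] {σ τ : F →+* F} {G : Type*} [Group G]

/-! ### commutation in `Sys` -/

section sys

variable (S : Sys σ G)

theorem o_zero (a : ZMod 8) : S.o a 0 = 1 := by
  have := S.o_add a 0 0
  rw [add_zero] at this
  exact mul_eq_left.mp this

theorem e_zero (a : ZMod 8) : S.e a 0 0 = 1 := by
  have := S.e_mul a 0 0 0 0
  rw [zero_mul, add_zero, add_zero] at this
  exact mul_eq_left.mp this

theorem z_mul (a : ZMod 8) (u v : F) : S.e a 0 u * S.e a 0 v = S.e a 0 (u + v) := by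
  have := S.e_mul a 0 u 0 v
  rwa [zero_mul, add_zero, add_zero] at this

theorem z_sq (a : ZMod 8) (u : F) : S.e a 0 u * S.e a 0 u = 1 := by
  rw [z_mul, add_self, e_zero]

theorem z_inv (a : ZMod 8) (u : F) : (S.e a 0 u)⁻¹ = S.e a 0 u := inv_eq_of_mul_eq_one_left (z_sq S a u)

theorem o_sq (a : ZMod 8) (u : F) : S.o a u * S.o a u = 1 := by
  rw [S.o_add, add_self, o_zero]

theorem o_inv (a : ZMod 8) (u : F) : (S.o a u)⁻¹ = S.o a u := inv_eq_of_mul_eq_one_left (o_sq S a u)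

theorem z_ee (a : ZMod 8) (u q v : F) : Commute (S.e a 0 u) (S.e a q v) := by
  show S.e a 0 u * S.e a q v = S.e a q v * S.e a 0 u
  rw [S.e_mul, S.e_mul, zero_mul, map_zero, mul_zero]
  congr 1
  · ring
  · ring

/-- `Z_a` and `E_(a+1)` -/
theorem z_e1 (a : ZMod 8) (u q v : F) : Commute (S.e a 0 u) (S.e (a + 1) q v) := by
  have := S.e_e1 a 0 u q v
  rwa [zero_mul, o_zero, mul_one] at this

theorem e_z1 (a : ZMod 8) (p u v : F) : Commute (S.e a p u) (S.e (a + 1) 0 v) := by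
  have := S.e_e1 a p u 0 v
  rwa [mul_zero, o_zero, mul_one] at this

theorem e_e2' (a : ZMod 8) (p u q v : F) : Commute (S.e a p u) (S.e (a + 2) q v) := S.e_e2 a p u q v

theorem e_o0' (a : ZMod 8) (p u s : F) : Commute (S.e a p u) (S.o a s) := S.e_o0 a p u s

theorem o_e1' (a : ZMod 8) (t q v : F) : Commute (S.o a t) (S.e (a + 1) q v) := S.o_e1 a t q v

theorem o_o1' (a : ZMod 8) (t s : F) : Commute (S.o a t) (S.o (a + 1) s) := S.o_o1 a t s

theorem o_o2' (a : ZMod 8) (t s : F) : Commute (S.o a t) (S.o (a + 2) s) := S.o_o2 a t s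

theorem z_o1 (a : ZMod 8) (u s : F) : Commute (S.e a 0 u) (S.o (a + 1) s) := by
  have := S.e_o1 a 0 u s
  rwa [zero_mul, e_zero, mul_one] at this

theorem o_z2 (a : ZMod 8) (t v : F) : Commute (S.o a t) (S.e (a + 2) 0 v) := by
  have := S.o_e2 a t 0 v
  rwa [mul_zero, e_zero, mul_one] at this

/-- `z_a(u)` and `z_(a+3)(v)` -/
theorem z_z3 (a : ZMod 8) (u v : F) : S.e a 0 u * S.e (a + 3) 0 v =
    S.e (a + 3) 0 v * S.e a 0 u * (S.e (a + 1) 0 (σ u * v) * S.o (a + 1) (u * v) * S.e (a + 2) 0 (u * σ v)) := by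
  have := S.e_e3 a 0 u 0 v
  simp only [map_zero, zero_mul, mul_zero, add_zero, zero_add, o_zero, mul_one] at this
  rw [this]
  simp only [mul_assoc]

/-- `o_a(t)` and `z_(a+3)(v)` -/
theorem o_z3 (a : ZMod 8) (t v : F) : S.o a t * S.e (a + 3) 0 v =
    S.e (a + 3) 0 v * S.o a t * S.e (a + 2) 0 (t * v) := by
  have := S.o_e3 a t 0 v
  simpa only [map_zero, zero_mul, mul_zero, add_zero, zero_add, o_zero, e_zero, mul_one] using this

end sys

/-- The family `n a w`. -/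
structure Fam (S : Sys σ G) (A : Subgroup G) (μ : G → F) (τ : F →+* F) (e0 : F) (n : ZMod 8 → F → G) : Prop where
  A_o : ∀ r ∈ A, ∀ a t, Commute r (S.o a t)
  A_e : ∀ r ∈ A, ∀ a p u, Commute r (S.e a p u)
  act : ∀ a w, ∀ r ∈ A, r⁻¹ * n a w * r = n a w * S.e a 0 (μ r * w)
  c_z : ∀ a w u, Commute (n a w) (S.e a 0 u)
  c_o : ∀ a w t, Commute (n a w) (S.o a t)
  c_om : ∀ a w t, Commute (n (a + 1) w) (S.o a t)
  c_op : ∀ a w t, Commute (n a w) (S.o (a + 1) t)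
  c_omm : ∀ a w t, Commute (n (a + 2) w) (S.o a t)
  c_ep : ∀ a w p u, Commute (n a w) (S.e (a + 1) p u)
  c_em : ∀ a w p u, Commute (n (a + 1) w) (S.e a p u)
  zp : ∀ a w v, n a w * S.e (a + 2) 0 v * (n a w)⁻¹ = S.e (a + 2) 0 v * S.e (a + 1) 0 (e0 * τ (w * v))
  zm : ∀ a w v, n (a + 2) w * S.e a 0 v * (n (a + 2) w)⁻¹ = S.e a 0 v * S.e (a + 1) 0 (e0 * τ (w * v))
  ee : ∀ a w p u, n a w * S.e a p u * (n a w)⁻¹ = S.e a p u * S.e a 0 (e0 * τ (w * p))

namespace Fam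

variable {S : Sys σ G} {A : Subgroup G} {μ : G → F} {e0 : F} {n : ZMod 8 → F → G}

/-- conjugating `n` by an element which it moves by a commuting factor -/
theorem conj_of {G : Type*} [Group G] {n x k : G} (h : n * x * n⁻¹ = x * k) : x⁻¹ * n * x = k * n := by
  have h1 : n * x = x * k * n := by rw [← h]; group
  calc x⁻¹ * n * x = x⁻¹ * (n * x) := by group
    _ = k * n := by rw [h1]; group

theorem conj_mul' {G : Type*} [Group G] {a b x : G} : x⁻¹ * (a * b) * x = (x⁻¹ * a * x) * (x⁻¹ * b * x) := by group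

/-- the element `f = n⁻¹ nˢ`, `n = n₇(u)`, `s = z₂(v)` -/
def f (S : Sys σ G) (n : ZMod 8 → F → G) (u v : F) : G :=
  (n 7 u)⁻¹ * ((S.e 2 0 v)⁻¹ * n 7 u * S.e 2 0 v)

/-- `c = z₀ o₀ z₁` -/
def c (S : Sys σ G) (u v : F) : G := S.e 0 0 (σ u * v) * S.o 0 (u * v) * S.e 1 0 (u * σ v)

theorem s_conj (u v : F) : (S.e 2 0 v)⁻¹ * S.e 7 0 u * S.e 2 0 v = S.e 7 0 u * c S u v := by
  have h : S.e 7 0 u * S.e 2 0 v = S.e 2 0 v * S.e 7 0 u * c S u v := z_z3 S 7 u v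
  calc (S.e 2 0 v)⁻¹ * S.e 7 0 u * S.e 2 0 v = (S.e 2 0 v)⁻¹ * (S.e 7 0 u * S.e 2 0 v) := by group
    _ = _ := by rw [h]; group

theorem s_conj' (u v : F) : S.e 2 0 v * S.e 7 0 u * (S.e 2 0 v)⁻¹ = S.e 7 0 u * c S u v := by
  have h := s_conj (S := S) u v
  have h1 : (S.e 2 0 v)⁻¹ = S.e 2 0 v := z_inv S 2 v
  rwa [h1] at h ⊢

section

variable (D : Fam S A μ τ e0 n) (I : _root_.Cfsg.Agent.OddHalf.D4.TwF.Field.Inv σ τ)

include D

theorem cz0 (u x : F) : Commute (n 7 u) (S.e 0 0 x) := D.c_ep 7 u 0 x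
theorem co0 (u x : F) : Commute (n 7 u) (S.o 0 x) := D.c_op 7 u x

theorem n7z1 (u b : F) : n 7 u * S.e 1 0 b * (n 7 u)⁻¹ = S.e 1 0 b * S.e 0 0 (e0 * τ (u * b)) := D.zp 7 u b

/-- `c⁻¹ n c = n z₀` -/
theorem c_conj (u u' v : F) : (c S u' v)⁻¹ * n 7 u * c S u' v =
    n 7 u * S.e 0 0 (e0 * τ (u * (u' * σ v))) := by
  have h1 := conj_of (D.n7z1 u (u' * σ v))
  have h2 := D.cz0 u (σ u' * v)
  have h3 := D.co0 u (u' * v)
  have e1 : (c S u' v)⁻¹ * n 7 u * c S u' v = (S.e 1 0 (u' * σ v))⁻¹ * ((S.o 0 (u' * v))⁻¹ *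
      ((S.e 0 0 (σ u' * v))⁻¹ * n 7 u * S.e 0 0 (σ u' * v)) * S.o 0 (u' * v)) * S.e 1 0 (u' * σ v) := by
    unfold c; group
  have e2 : (S.e 0 0 (σ u' * v))⁻¹ * n 7 u * S.e 0 0 (σ u' * v) = n 7 u := by
    rw [mul_assoc, h2.eq]; group
  have e3 : (S.o 0 (u' * v))⁻¹ * n 7 u * S.o 0 (u' * v) = n 7 u := by
    rw [mul_assoc, h3.eq]; group
  rw [e1, e2, e3, h1, (D.cz0 u _).eq]

/-- `f^{z₇(b)}` -/
theorem f_z7 (u v b : F) : (S.e 7 0 b)⁻¹ * f S n u v * S.e 7 0 b =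
    f S n u v * S.e 0 0 (e0 * τ (u * (b * σ v))) := by
  have hc := D.c_conj u b v
  have h7 : (S.e 7 0 b)⁻¹ * n 7 u * S.e 7 0 b = n 7 u := by
    rw [mul_assoc, (D.c_z 7 u b).eq]; group
  have h7' : (S.e 7 0 b)⁻¹ * (n 7 u)⁻¹ * S.e 7 0 b = (n 7 u)⁻¹ := by
    have := congrArg (·⁻¹) h7
    simp only [mul_inv_rev, inv_inv] at this
    rw [← mul_assoc] at this
    exact this
  have hs : S.e 2 0 v * S.e 7 0 b = S.e 7 0 b * c S b v * S.e 2 0 v := by
    rw [← s_conj']; group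
  have e1 : (S.e 7 0 b)⁻¹ * f S n u v * S.e 7 0 b = ((S.e 7 0 b)⁻¹ * (n 7 u)⁻¹ * S.e 7 0 b) *
      ((S.e 2 0 v * S.e 7 0 b)⁻¹ * n 7 u * (S.e 2 0 v * S.e 7 0 b)) := by unfold f; group
  rw [e1, h7', hs]
  have e2 : (S.e 7 0 b * c S b v * S.e 2 0 v)⁻¹ * n 7 u * (S.e 7 0 b * c S b v * S.e 2 0 v) =
      (S.e 2 0 v)⁻¹ * ((c S b v)⁻¹ * ((S.e 7 0 b)⁻¹ * n 7 u * S.e 7 0 b) * c S b v) * S.e 2 0 v := by group
  rw [e2, h7, hc]
  have h02 : Commute (S.e 0 0 (e0 * τ (u * (b * σ v)))) (S.e 2 0 v) := e_e2' S 0 _ _ _ _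
  unfold f
  calc (n 7 u)⁻¹ * ((S.e 2 0 v)⁻¹ * (n 7 u * S.e 0 0 (e0 * τ (u * (b * σ v)))) * S.e 2 0 v)
      = (n 7 u)⁻¹ * ((S.e 2 0 v)⁻¹ * n 7 u * (S.e 0 0 (e0 * τ (u * (b * σ v))) * S.e 2 0 v)) := by group
    _ = _ := by rw [h02.eq]; group

/-- `f` commutes with `z₀`, `o₀`, `z₁`, `E₀` -/
theorem f_e0 (u v p x : F) : Commute (f S n u v) (S.e 0 p x) := by
  have h1 : Commute (n 7 u) (S.e 0 p x) := D.c_ep 7 u p x
  have h2 : Commute (S.e 2 0 v) (S.e 0 p x) := (e_e2' S 0 p x 0 v).symm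
  unfold f
  exact h1.inv_left.mul_left ((h2.inv_left.mul_left h1).mul_left h2)

theorem f_o0 (u v x : F) : Commute (f S n u v) (S.o 0 x) := by
  have h1 : Commute (n 7 u) (S.o 0 x) := D.c_op 7 u x
  have h2 : Commute (S.e 2 0 v) (S.o 0 x) := (o_z2 S 0 x v).symm
  unfold f
  exact h1.inv_left.mul_left ((h2.inv_left.mul_left h1).mul_left h2)

theorem f_z1 (u v b : F) : Commute (f S n u v) (S.e 1 0 b) := by
  have h0 := D.n7z1 u b
  have h1 := conj_of h0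
  have h2 : Commute (S.e 2 0 v) (S.e 1 0 b) := (e_z1 S 1 0 b v).symm
  have h3 : Commute (S.e 2 0 v) (S.e 0 0 (e0 * τ (u * b))) := (e_e2' S 0 0 _ 0 v).symm
  have h4 := D.cz0 u (e0 * τ (u * b))
  have e1 : (S.e 1 0 b)⁻¹ * f S n u v * S.e 1 0 b = f S n u v := by
    have g1 : (S.e 1 0 b)⁻¹ * S.e 2 0 v * S.e 1 0 b = S.e 2 0 v := by rw [mul_assoc, h2.eq]; group
    have g2 : (S.e 1 0 b)⁻¹ * (S.e 2 0 v)⁻¹ * S.e 1 0 b = (S.e 2 0 v)⁻¹ := by
      rw [mul_assoc, h2.inv_left.eq]; group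
    have g3 : (S.e 1 0 b)⁻¹ * (n 7 u)⁻¹ * S.e 1 0 b = (n 7 u)⁻¹ * (S.e 0 0 (e0 * τ (u * b)))⁻¹ := by
      have := congrArg (·⁻¹) h1
      simp only [mul_inv_rev, inv_inv] at this
      rw [← mul_assoc] at this
      exact this
    have e2 : (S.e 1 0 b)⁻¹ * f S n u v * S.e 1 0 b = ((S.e 1 0 b)⁻¹ * (n 7 u)⁻¹ * S.e 1 0 b) *
        (((S.e 1 0 b)⁻¹ * (S.e 2 0 v)⁻¹ * S.e 1 0 b) * ((S.e 1 0 b)⁻¹ * n 7 u * S.e 1 0 b) *
        ((S.e 1 0 b)⁻¹ * S.e 2 0 v * S.e 1 0 b)) := by unfold f; group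
    rw [e2, g1, g2, g3, h1]
    unfold f
    have h5 := h3.inv_left
    calc (n 7 u)⁻¹ * (S.e 0 0 (e0 * τ (u * b)))⁻¹ * ((S.e 2 0 v)⁻¹ * (S.e 0 0 (e0 * τ (u * b)) * n 7 u) * S.e 2 0 v)
        = (n 7 u)⁻¹ * (S.e 0 0 (e0 * τ (u * b)))⁻¹ * (((S.e 2 0 v)⁻¹ * S.e 0 0 (e0 * τ (u * b))) * n 7 u * S.e 2 0 v) := by
          group
      _ = _ := by rw [h5.eq]; group
  show f S n u v * S.e 1 0 b = S.e 1 0 b * f S n u v
  calc f S n u v * S.e 1 0 b = S.e 1 0 b * ((S.e 1 0 b)⁻¹ * f S n u v * S.e 1 0 b) := by group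
    _ = _ := by rw [e1]

/-- `f^{o₇(x)}` -/
theorem f_o7 (u v x : F) : (S.o 7 x)⁻¹ * f S n u v * S.o 7 x =
    f S n u v * S.e 0 0 (e0 * τ (u * (x * v))) := by
  have h7 : (S.o 7 x)⁻¹ * n 7 u * S.o 7 x = n 7 u := by
    rw [mul_assoc, (D.c_o 7 u x).eq]; group
  have h7' : (S.o 7 x)⁻¹ * (n 7 u)⁻¹ * S.o 7 x = (n 7 u)⁻¹ := by
    rw [mul_assoc, (D.c_o 7 u x).inv_left.eq]; group
  have ho : S.o 7 x * S.e 2 0 v = S.e 2 0 v * S.o 7 x * S.e 1 0 (x * v) := o_z3 S 7 x v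
  have hs : S.e 2 0 v * S.o 7 x = S.o 7 x * S.e 1 0 (x * v) * S.e 2 0 v := by
    have h21 : Commute (S.e 1 0 (x * v)) (S.e 2 0 v) := e_z1 S 1 0 _ v
    calc S.e 2 0 v * S.o 7 x = (S.e 2 0 v * S.o 7 x * S.e 1 0 (x * v)) * (S.e 1 0 (x * v))⁻¹ := by group
      _ = S.o 7 x * (S.e 2 0 v * (S.e 1 0 (x * v))⁻¹) := by rw [← ho]; group
      _ = S.o 7 x * ((S.e 1 0 (x * v))⁻¹ * S.e 2 0 v) := by rw [h21.inv_left.eq]
      _ = _ := by rw [z_inv]; group
  have h1 := conj_of (D.n7z1 u (x * v))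
  have e1 : (S.o 7 x)⁻¹ * f S n u v * S.o 7 x = ((S.o 7 x)⁻¹ * (n 7 u)⁻¹ * S.o 7 x) *
      ((S.e 2 0 v * S.o 7 x)⁻¹ * n 7 u * (S.e 2 0 v * S.o 7 x)) := by unfold f; group
  rw [e1, h7', hs]
  have e2 : (S.o 7 x * S.e 1 0 (x * v) * S.e 2 0 v)⁻¹ * n 7 u * (S.o 7 x * S.e 1 0 (x * v) * S.e 2 0 v) =
      (S.e 2 0 v)⁻¹ * ((S.e 1 0 (x * v))⁻¹ * ((S.o 7 x)⁻¹ * n 7 u * S.o 7 x) * S.e 1 0 (x * v)) * S.e 2 0 v := by
    group
  rw [e2, h7, h1, ← (D.cz0 u _).eq]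
  have h02 : Commute (S.e 0 0 (e0 * τ (u * (x * v)))) (S.e 2 0 v) := e_e2' S 0 _ _ _ _
  unfold f
  calc (n 7 u)⁻¹ * ((S.e 2 0 v)⁻¹ * (n 7 u * S.e 0 0 (e0 * τ (u * (x * v)))) * S.e 2 0 v)
      = (n 7 u)⁻¹ * ((S.e 2 0 v)⁻¹ * n 7 u * (S.e 0 0 (e0 * τ (u * (x * v))) * S.e 2 0 v)) := by group
    _ = _ := by rw [h02.eq]; group

/-- `A` on `f` -/
theorem f_act (u v : F) {r : G} (hr : r ∈ A) : r⁻¹ * f S n u v * r =
    f S n u v * S.e 0 0 (e0 * τ (u * (μ r * u * σ v))) * c S (μ r * u) v := by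
  have hs : r⁻¹ * S.e 2 0 v * r = S.e 2 0 v := by rw [mul_assoc, ← (D.A_e r hr 2 0 v).eq]; group
  have hs' : r⁻¹ * (S.e 2 0 v)⁻¹ * r = (S.e 2 0 v)⁻¹ := by
    rw [mul_assoc, ← (D.A_e r hr 2 0 v).inv_right.eq]; group
  have h1 := D.act 7 u r hr
  have h2 : r⁻¹ * (n 7 u)⁻¹ * r = (S.e 7 0 (μ r * u))⁻¹ * (n 7 u)⁻¹ := by
    have := congrArg (·⁻¹) h1
    simp only [mul_inv_rev, inv_inv] at this
    rw [← mul_assoc] at this
    exact this
  have e1 : r⁻¹ * f S n u v * r = (r⁻¹ * (n 7 u)⁻¹ * r) * ((r⁻¹ * (S.e 2 0 v)⁻¹ * r) * (r⁻¹ * n 7 u * r) *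
      (r⁻¹ * S.e 2 0 v * r)) := by unfold f; group
  have h3 := D.f_z7 u v (μ r * u)
  have h4 := s_conj (S := S) (μ r * u) v
  rw [e1, h1, h2, hs, hs']
  calc (S.e 7 0 (μ r * u))⁻¹ * (n 7 u)⁻¹ * ((S.e 2 0 v)⁻¹ * (n 7 u * S.e 7 0 (μ r * u)) * S.e 2 0 v)
      = (S.e 7 0 (μ r * u))⁻¹ * f S n u v * ((S.e 2 0 v)⁻¹ * S.e 7 0 (μ r * u) * S.e 2 0 v) := by unfold f; group
    _ = ((S.e 7 0 (μ r * u))⁻¹ * f S n u v * S.e 7 0 (μ r * u)) * c S (μ r * u) v := by rw [h4]; group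
    _ = _ := by rw [h3]

/-! ### `f g` -/

/-- `f g` with `g = n₁(u σ v)` -/
def fg (S : Sys σ G) (n : ZMod 8 → F → G) (u v : F) : G := f S n u v * n 1 (u * σ v)

theorem fg_e0 (u v p x : F) : Commute (fg S n u v) (S.e 0 p x) :=
  (D.f_e0 u v p x).mul_left (D.c_em 0 (u * σ v) p x)

theorem fg_o0 (u v x : F) : Commute (fg S n u v) (S.o 0 x) :=
  (D.f_o0 u v x).mul_left (D.c_om 0 (u * σ v) x)

theorem fg_z1 (u v x : F) : Commute (fg S n u v) (S.e 1 0 x) :=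
  (D.f_z1 u v x).mul_left (D.c_z 1 (u * σ v) x)

theorem fg_o7 (u v x : F) : (S.o 7 x)⁻¹ * fg S n u v * S.o 7 x =
    fg S n u v * S.e 0 0 (e0 * τ (u * (x * v))) := by
  have h1 : Commute (n 1 (u * σ v)) (S.o 7 x) := D.c_omm 7 (u * σ v) x
  have h2 : (S.o 7 x)⁻¹ * n 1 (u * σ v) * S.o 7 x = n 1 (u * σ v) := by rw [mul_assoc, h1.eq]; group
  have h3 : Commute (n 1 (u * σ v)) (S.e 0 0 (e0 * τ (u * (x * v)))) := D.c_em 0 _ _ _
  unfold fg
  rw [conj_mul', D.f_o7, h2, mul_assoc, ← h3.eq, mul_assoc]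

theorem fg_z7 (I : _root_.Cfsg.Agent.OddHalf.D4.TwF.Field.Inv σ τ) (u v b : F) : Commute (fg S n u v) (S.e 7 0 b) := by
  have h1 := conj_of (D.zm 7 (u * σ v) b)
  have h2 : (S.e 7 0 b)⁻¹ * n 1 (u * σ v) * S.e 7 0 b = S.e 0 0 (e0 * τ (u * σ v * b)) * n 1 (u * σ v) := h1
  have h3 : (S.e 7 0 b)⁻¹ * fg S n u v * S.e 7 0 b = fg S n u v := by
    unfold fg
    rw [conj_mul', D.f_z7, h2]
    have e1 : u * σ v * b = u * (b * σ v) := by ring
    rw [e1]
    calc f S n u v * S.e 0 0 (e0 * τ (u * (b * σ v))) * (S.e 0 0 (e0 * τ (u * (b * σ v))) * n 1 (u * σ v))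
        = f S n u v * (S.e 0 0 (e0 * τ (u * (b * σ v))) * S.e 0 0 (e0 * τ (u * (b * σ v)))) * n 1 (u * σ v) := by group
      _ = _ := by rw [z_sq, mul_one]
  show fg S n u v * S.e 7 0 b = S.e 7 0 b * fg S n u v
  calc fg S n u v * S.e 7 0 b = S.e 7 0 b * ((S.e 7 0 b)⁻¹ * fg S n u v * S.e 7 0 b) := by group
    _ = _ := by rw [h3]

/-- `A` on `f g` -/
theorem fg_act (I : _root_.Cfsg.Agent.OddHalf.D4.TwF.Field.Inv σ τ) (u v : F) {r : G} (hr : r ∈ A) : r⁻¹ * fg S n u v * r =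
    fg S n u v * S.e 0 0 (σ u * v * (σ (μ r) + e0 * τ (μ r))) * S.o 0 (μ r * (u * v)) := by
  have h1 := D.act 1 (u * σ v) r hr
  unfold fg
  rw [conj_mul', D.f_act u v hr, h1]
  have e1 : e0 * τ (u * (μ r * u * σ v)) = e0 * τ (μ r) * (σ u * v) := by
    have : u * (μ r * u * σ v) = μ r * (u * u) * σ v := by ring
    rw [this, map_mul, map_mul, I.τ_sq, I.l]; ring
  have e2 : μ r * (u * σ v) = μ r * u * σ v := by ring
  have e3 : σ (μ r * u) * v = σ (μ r) * (σ u * v) := by rw [map_mul]; ring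
  have e4 : μ r * u * v = μ r * (u * v) := by ring
  rw [e1, e2]
  unfold c
  rw [e3, e4]
  set x := S.e 0 0 (e0 * τ (μ r) * (σ u * v))
  set y := S.e 0 0 (σ (μ r) * (σ u * v)) with hy
  set o := S.o 0 (μ r * (u * v)) with ho
  set z := S.e 1 0 (μ r * u * σ v) with hz
  set g := n 1 (u * σ v) with hg
  have c1 : Commute g z := D.c_z 1 _ _
  have c2 : Commute g o := D.c_om 0 _ _
  have c3 : Commute g (x * y) := by
    exact (D.c_em 0 _ _ _).mul_right (D.c_em 0 _ _ _)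
  have e5 : S.e 0 0 (σ u * v * (σ (μ r) + e0 * τ (μ r))) = x * y := by
    show _ = S.e 0 0 (e0 * τ (μ r) * (σ u * v)) * S.e 0 0 (σ (μ r) * (σ u * v))
    rw [z_mul]; congr 1; ring
  rw [e5]
  have e6 : z * z = 1 := z_sq S 1 _
  calc f S n u v * x * (y * o * z) * (g * z) = f S n u v * (x * y) * o * (z * (g * z)) := by group
    _ = f S n u v * (x * y) * o * g := by rw [c1.eq, ← mul_assoc z z g, e6, one_mul]
    _ = f S n u v * (x * y) * (g * o) := by rw [mul_assoc, ← c2.eq]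
    _ = f S n u v * ((x * y) * g) * o := by group
    _ = f S n u v * g * (x * y) * o := by rw [← c3.eq]; group

/-! ### the element `y` -/

/-- two of these -/
def ff (S : Sys σ G) (n : ZMod 8 → F → G) (u v u' v' : F) : G := fg S n u v * fg S n u' v'

/-- the scalar -/
def bb (σ : F →+* F) (u v u' v' : F) : F := σ u * v + σ u' * v'

theorem ff_act (I : _root_.Cfsg.Agent.OddHalf.D4.TwF.Field.Inv σ τ) {u v u' v' : F} (huv : u * v = u' * v') {r : G} (hr : r ∈ A) :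
    r⁻¹ * ff S n u v u' v' * r = ff S n u v u' v' * S.e 0 0 (bb σ u v u' v' * (σ (μ r) + e0 * τ (μ r))) := by
  unfold ff
  rw [conj_mul', D.fg_act I u v hr, D.fg_act I u' v' hr, ← huv]
  set x := S.e 0 0 (σ u * v * (σ (μ r) + e0 * τ (μ r))) with hx
  set x' := S.e 0 0 (σ u' * v' * (σ (μ r) + e0 * τ (μ r))) with hx'
  set o := S.o 0 (μ r * (u * v)) with ho
  have c1 : Commute (fg S n u' v') x := D.fg_e0 _ _ _ _
  have c2 : Commute (fg S n u' v') o := D.fg_o0 _ _ _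
  have c3 : Commute x' o := e_o0' S 0 _ _ _
  have e1 : S.e 0 0 (bb σ u v u' v' * (σ (μ r) + e0 * τ (μ r))) = x * x' := by
    rw [hx, hx', z_mul]; congr 1; unfold bb; ring
  rw [e1]
  have e2 : o * o = 1 := o_sq S 0 _
  calc fg S n u v * x * o * (fg S n u' v' * x' * o) = fg S n u v * x * ((o * fg S n u' v') * (x' * o)) := by group
    _ = fg S n u v * x * ((fg S n u' v' * o) * (o * x')) := by rw [← c2.eq, c3.eq]
    _ = fg S n u v * (x * fg S n u' v') * ((o * o) * x') := by group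
    _ = fg S n u v * (fg S n u' v' * x) * x' := by rw [← c1.eq, e2, one_mul]
    _ = _ := by group

theorem ff_o7 {u v u' v' : F} (huv : u * v = u' * v') (x : F) : Commute (ff S n u v u' v') (S.o 7 x) := by
  have h3 : (S.o 7 x)⁻¹ * ff S n u v u' v' * S.o 7 x = ff S n u v u' v' := by
    unfold ff
    rw [conj_mul', D.fg_o7, D.fg_o7]
    have e1 : u' * (x * v') = u * (x * v) := by
      calc u' * (x * v') = x * (u' * v') := by ring
        _ = _ := by rw [← huv]; ring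
    rw [e1]
    have c1 : Commute (fg S n u' v') (S.e 0 0 (e0 * τ (u * (x * v)))) := D.fg_e0 _ _ _ _
    calc fg S n u v * S.e 0 0 (e0 * τ (u * (x * v))) * (fg S n u' v' * S.e 0 0 (e0 * τ (u * (x * v))))
        = fg S n u v * (S.e 0 0 (e0 * τ (u * (x * v))) * fg S n u' v') * S.e 0 0 (e0 * τ (u * (x * v))) := by group
      _ = fg S n u v * fg S n u' v' * (S.e 0 0 (e0 * τ (u * (x * v))) * S.e 0 0 (e0 * τ (u * (x * v)))) := by
          rw [← c1.eq]; group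
      _ = _ := by rw [z_sq, mul_one]
  show ff S n u v u' v' * S.o 7 x = S.o 7 x * ff S n u v u' v'
  calc ff S n u v u' v' * S.o 7 x = S.o 7 x * ((S.o 7 x)⁻¹ * ff S n u v u' v' * S.o 7 x) := by group
    _ = _ := by rw [h3]

/-- **the element `y`** -/
theorem exists_y (I : _root_.Cfsg.Agent.OddHalf.D4.TwF.Field.Inv σ τ) : ∃ (y : G) (b : F), b ≠ 0 ∧
    (∀ r ∈ A, r⁻¹ * y * r = y * S.e 0 0 (b * (σ (μ r) + e0 * τ (μ r) + μ r * (1 + e0)))) ∧
    (∀ x, Commute y (S.e 7 0 x)) ∧ (∀ x, Commute y (S.o 7 x)) ∧ (∀ x, Commute y (S.e 0 0 x)) ∧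
    (∀ x, Commute y (S.o 0 x)) ∧ (∀ x, Commute y (S.e 1 0 x)) ∧
    ∀ p x, y * S.e 0 p x * y⁻¹ = S.e 0 p x * S.e 0 0 (e0 * τ (b * (1 + e0) * p)) := by
  obtain ⟨l, hl0, hl1⟩ := I.big
  set b := bb σ 1 1 l l⁻¹ with hb
  have huv : (1 : F) * 1 = l * l⁻¹ := by rw [mul_inv_cancel₀ hl0, one_mul]
  have hb0 : b ≠ 0 := by
    intro h
    have h1 : (1 : F) + σ l * l⁻¹ = 0 := by
      rw [hb] at h; unfold bb at h; rwa [map_one, one_mul] at h
    have h2 := eq_of_add h1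
    have h3 : σ l = l := by
      calc σ l = (σ l * l⁻¹) * l := by rw [mul_assoc, inv_mul_cancel₀ hl0, mul_one]
        _ = l := by rw [← h2, one_mul]
    rcases fix I.sq h3 with h4 | h4
    · exact hl0 h4
    · exact hl1 h4
  set w := b * (1 + e0) with hw
  have ce : ∀ p x, Commute (ff S n 1 1 l l⁻¹) (S.e 0 p x) := fun p x =>
    (D.fg_e0 _ _ p x).mul_left (D.fg_e0 _ _ p x)
  have co : ∀ x, Commute (ff S n 1 1 l l⁻¹) (S.o 0 x) := fun x =>
    (D.fg_o0 _ _ x).mul_left (D.fg_o0 _ _ x)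
  have cz1 : ∀ x, Commute (ff S n 1 1 l l⁻¹) (S.e 1 0 x) := fun x =>
    (D.fg_z1 _ _ x).mul_left (D.fg_z1 _ _ x)
  have cz7 : ∀ x, Commute (ff S n 1 1 l l⁻¹) (S.e 7 0 x) := fun x =>
    (D.fg_z7 I _ _ x).mul_left (D.fg_z7 I _ _ x)
  refine ⟨ff S n 1 1 l l⁻¹ * (n 0 w)⁻¹, b, hb0, ?_, fun x => ?_, fun x => ?_, fun x => ?_, fun x => ?_, fun x => ?_,
    fun p x => ?_⟩
  · intro r hr
    have h1 := D.act 0 w r hr
    have h2 : r⁻¹ * (n 0 w)⁻¹ * r = (S.e 0 0 (μ r * w))⁻¹ * (n 0 w)⁻¹ := by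
      have := congrArg (·⁻¹) h1
      simp only [mul_inv_rev, inv_inv] at this
      rw [← mul_assoc] at this
      exact this
    rw [conj_mul', D.ff_act I huv hr, h2, z_inv]
    have c1 : Commute (n 0 w)⁻¹ (S.e 0 0 (b * (σ (μ r) + e0 * τ (μ r) + μ r * (1 + e0)))) := (D.c_z 0 w _).inv_left
    have e1 : S.e 0 0 (b * (σ (μ r) + e0 * τ (μ r) + μ r * (1 + e0))) =
        S.e 0 0 (b * (σ (μ r) + e0 * τ (μ r))) * S.e 0 0 (μ r * w) := by
      rw [z_mul]; congr 1; rw [hw]; ring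
    calc ff S n 1 1 l l⁻¹ * S.e 0 0 (b * (σ (μ r) + e0 * τ (μ r))) * (S.e 0 0 (μ r * w) * (n 0 w)⁻¹)
        = ff S n 1 1 l l⁻¹ * ((S.e 0 0 (b * (σ (μ r) + e0 * τ (μ r))) * S.e 0 0 (μ r * w)) * (n 0 w)⁻¹) := by group
      _ = _ := by rw [← e1, ← c1.eq]; group
  · exact (cz7 x).mul_left (D.c_em 7 w 0 x).inv_left
  · exact (D.ff_o7 huv x).mul_left (D.c_om 7 w x).inv_left
  · exact (ce 0 x).mul_left (D.c_z 0 w x).inv_left
  · exact (co x).mul_left (D.c_o 0 w x).inv_left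
  · exact (cz1 x).mul_left (D.c_ep 0 w 0 x).inv_left
  · have h1 := D.ee 0 w p x
    have h2 : (n 0 w)⁻¹ * S.e 0 p x * n 0 w = S.e 0 p x * S.e 0 0 (e0 * τ (w * p)) := by
      have h3 := D.c_z 0 w (e0 * τ (w * p))
      have h4 : S.e 0 p x * S.e 0 0 (e0 * τ (w * p)) * S.e 0 0 (e0 * τ (w * p)) = S.e 0 p x := by
        rw [mul_assoc, z_sq, mul_one]
      calc (n 0 w)⁻¹ * S.e 0 p x * n 0 w
          = (n 0 w)⁻¹ * (S.e 0 p x * S.e 0 0 (e0 * τ (w * p)) * S.e 0 0 (e0 * τ (w * p))) * n 0 w := by rw [h4]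
        _ = (n 0 w)⁻¹ * ((n 0 w * S.e 0 p x * (n 0 w)⁻¹) * S.e 0 0 (e0 * τ (w * p))) * n 0 w := by rw [h1]
        _ = S.e 0 p x * (n 0 w)⁻¹ * (S.e 0 0 (e0 * τ (w * p)) * n 0 w) := by group
        _ = _ := by rw [← h3.eq]; group
    have h5 : Commute (ff S n 1 1 l l⁻¹) (S.e 0 p x * S.e 0 0 (e0 * τ (w * p))) := (ce p x).mul_right (ce 0 _)
    calc ff S n 1 1 l l⁻¹ * (n 0 w)⁻¹ * S.e 0 p x * (ff S n 1 1 l l⁻¹ * (n 0 w)⁻¹)⁻¹
        = ff S n 1 1 l l⁻¹ * ((n 0 w)⁻¹ * S.e 0 p x * n 0 w) * (ff S n 1 1 l l⁻¹)⁻¹ := by group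
      _ = _ := by rw [h2, h5.eq, mul_assoc, mul_inv_cancel, mul_one]

end

/-- **THE END.** -/
theorem mu_eq {K : Subgroup G} (D : Fam S A μ τ e0 n) (I : _root_.Cfsg.Agent.OddHalf.D4.TwF.Field.Inv σ τ) (B : DblR.Amb K A) (hK : ∀ a p u, S.e a p u ∈ K)
    {t : G} (ht : t ∈ A) (ht1 : t ≠ 1) (hμ : μ t = 1)
    (hin : ∀ y : G, (∀ r ∈ A, Commute y r) → (∀ x, Commute y (S.e 7 0 x)) → (∀ x, Commute y (S.o 7 x)) →
      (∀ x, Commute y (S.e 0 0 x)) → (∀ x, Commute y (S.o 0 x)) → (∀ x, Commute y (S.e 1 0 x)) →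
      ∀ ψ : F → F, (∀ p x, y * S.e 0 p x * y⁻¹ = S.e 0 p x * S.e 0 0 (ψ p)) → ∃ p', ∀ p, ψ p = p * σ p' + p' * σ p) :
    ∀ r ∈ A, μ r = 0 ∨ μ r = 1 := by
  obtain ⟨y, b, hb, hact, h1, h2, h3, h4, h5, h6⟩ := D.exists_y I
  have hAinv : ∀ r ∈ A, r⁻¹ = r := fun r hr => B.inv_eq hr
  have hz : ∀ r ∈ A, σ (μ r) + e0 * τ (μ r) + μ r * (1 + e0) = 0 → Commute y r := by
    intro r hr h
    have := hact r hr
    rw [h, mul_zero, e_zero, mul_one] at this
    show y * r = r * y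
    calc y * r = r * (r⁻¹ * y * r) := by group
      _ = r * y := by rw [this]
  have hyt : Commute y t := by
    apply hz t ht
    rw [hμ, map_one, map_one, mul_one, one_mul]
    exact add_self _
  have hyA : ∀ r ∈ A, Commute y r := by
    intro r hr
    have key := B.tight ht ht1 hyt.eq (fun a ha => ?_) r hr
    · exact key
    · unfold DblR.br
      have e1 : a * y * a⁻¹ = a⁻¹ * y * a := by rw [hAinv a ha]
      rw [e1, hact a ha, inv_mul_cancel_left]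
      exact hK 0 0 _
  obtain ⟨p', hp'⟩ := hin y hyA h1 h2 h3 h4 h5 _ h6
  have he := end_eq I hb hp'
  intro r hr
  apply end_mu I he
  have h7 := hact r hr
  have h8 : r⁻¹ * y * r = y := by rw [mul_assoc, (hyA r hr).eq]; group
  rw [h8] at h7
  have h9 : S.e 0 0 (b * (σ (μ r) + e0 * τ (μ r) + μ r * (1 + e0))) = 1 := (mul_eq_left.mp h7.symm)
  rw [← e_zero S 0] at h9
  have h10 := (S.injE 0 _ _ _ _ h9).2
  exact (mul_eq_zero.mp h10).resolve_left hb

/-- `A` has at most two elements -/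
theorem eq_one_or_eq {K : Subgroup G} (D : Fam S A μ τ e0 n) (I : _root_.Cfsg.Agent.OddHalf.D4.TwF.Field.Inv σ τ) (B : DblR.Amb K A)
    (hK : ∀ a p u, S.e a p u ∈ K) {t : G} (ht : t ∈ A) (ht1 : t ≠ 1) (hμ : μ t = 1)
    (hinj : ∀ r ∈ A, ∀ s ∈ A, μ r = μ s → r = s) (h0 : μ 1 = 0)
    (hin : ∀ y : G, (∀ r ∈ A, Commute y r) → (∀ x, Commute y (S.e 7 0 x)) → (∀ x, Commute y (S.o 7 x)) →
      (∀ x, Commute y (S.e 0 0 x)) → (∀ x, Commute y (S.o 0 x)) → (∀ x, Commute y (S.e 1 0 x)) →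
      ∀ ψ : F → F, (∀ p x, y * S.e 0 p x * y⁻¹ = S.e 0 p x * S.e 0 0 (ψ p)) → ∃ p', ∀ p, ψ p = p * σ p' + p' * σ p) :
    ∀ r ∈ A, r = 1 ∨ r = t := by
  intro r hr
  rcases D.mu_eq I B hK ht ht1 hμ hin r hr with h | h
  · exact Or.inl (hinj r hr 1 (one_mem A) (by rw [h, h0]))
  · exact Or.inr (hinj r hr t ht (by rw [h, hμ]))

end Fam

end Cfsg.Agent.OddHalf.D4.TwF.End

end

-- merged: Cfsg.Agent.OddHalf.D4.TwF.QTwo
section

/-!
# ODD D4, `K = ²F₄(q)`: the group `Q₂ = z₋₁ o₋₁ z₀ o₀ z₁`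
-/

set_option autoImplicit false
set_option linter.unusedSectionVars false

namespace Cfsg.Agent.OddHalf.D4.TwF.QTwo

open Cfsg.Agent.KFacts.TwF4 Cfsg.Agent.OddHalf.D4.TwF.Field Cfsg.Agent.OddHalf.D4.TwF.End

variable {F : Type*} [Field F] [CharP F 2] {σ τ : F →+* F} {G : Type*} [Group G]

/-- elements of `Q₂` -/
def q5 (S : Sys σ G) (α β γ δ ε : F) : G := S.e 7 0 α * S.o 7 β * S.e 0 0 γ * S.o 0 δ * S.e 1 0 ε

/-- uniqueness of the normal form -/
def Uniq (S : Sys σ G) : Prop := ∀ α β γ δ ε α' β' γ' δ' ε' : F, q5 S α β γ δ ε = q5 S α' β' γ' δ' ε' →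
  α = α' ∧ β = β' ∧ γ = γ' ∧ δ = δ' ∧ ε = ε'

section

variable (S : Sys σ G)

/-! commutation of the factors -/

theorem c7o7 (x y : F) : Commute (S.e 7 0 x) (S.o 7 y) := e_o0' S 7 0 x y
theorem c7z0 (x y : F) : Commute (S.e 7 0 x) (S.e 0 0 y) := z_e1 S 7 x 0 y
theorem c7o0 (x y : F) : Commute (S.e 7 0 x) (S.o 0 y) := z_o1 S 7 x y
theorem c7z1 (x y : F) : Commute (S.e 7 0 x) (S.e 1 0 y) := e_e2' S 7 0 x 0 y
theorem co7z0 (x y : F) : Commute (S.o 7 x) (S.e 0 0 y) := o_e1' S 7 x 0 y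
theorem co7o0 (x y : F) : Commute (S.o 7 x) (S.o 0 y) := o_o1' S 7 x y
theorem co7z1 (x y : F) : Commute (S.o 7 x) (S.e 1 0 y) := o_z2 S 7 x y
theorem c0o0 (x y : F) : Commute (S.e 0 0 x) (S.o 0 y) := e_o0' S 0 0 x y
theorem c0z1 (x y : F) : Commute (S.e 0 0 x) (S.e 1 0 y) := z_e1 S 0 x 0 y
theorem co0z1 (x y : F) : Commute (S.o 0 x) (S.e 1 0 y) := o_e1' S 0 x 0 y

theorem q5_mul (α β γ δ ε α' β' γ' δ' ε' : F) : q5 S α β γ δ ε * q5 S α' β' γ' δ' ε' =
    q5 S (α + α') (β + β') (γ + γ') (δ + δ') (ε + ε') := by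
  unfold q5
  have h1 : Commute (S.e 1 0 ε) (S.e 7 0 α' * S.o 7 β' * S.e 0 0 γ' * S.o 0 δ') :=
    (((c7z1 S _ _).symm.mul_right (co7z1 S _ _).symm).mul_right (c0z1 S _ _).symm).mul_right (co0z1 S _ _).symm
  have h2 : Commute (S.o 0 δ) (S.e 7 0 α' * S.o 7 β' * S.e 0 0 γ') :=
    ((c7o0 S _ _).symm.mul_right (co7o0 S _ _).symm).mul_right (c0o0 S _ _).symm
  have h3 : Commute (S.e 0 0 γ) (S.e 7 0 α' * S.o 7 β') := (c7z0 S _ _).symm.mul_right (co7z0 S _ _).symm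
  rw [h1.mul_mul_mul_comm, h2.mul_mul_mul_comm, h3.mul_mul_mul_comm, (c7o7 S α' β).symm.mul_mul_mul_comm,
    z_mul, z_mul, z_mul, S.o_add, S.o_add]

theorem q5_zero : q5 S 0 0 0 0 0 = 1 := by
  unfold q5
  rw [e_zero, e_zero, e_zero, o_zero, o_zero]
  simp

theorem q5_sq (α β γ δ ε : F) : q5 S α β γ δ ε * q5 S α β γ δ ε = 1 := by
  rw [q5_mul]
  simp only [add_self]
  exact q5_zero S

theorem q5_inv (α β γ δ ε : F) : (q5 S α β γ δ ε)⁻¹ = q5 S α β γ δ ε :=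
  inv_eq_of_mul_eq_one_left (q5_sq S α β γ δ ε)

theorem q5_comm (α β γ δ ε α' β' γ' δ' ε' : F) : Commute (q5 S α β γ δ ε) (q5 S α' β' γ' δ' ε') := by
  show _ * _ = _ * _
  rw [q5_mul, q5_mul]
  congr 1 <;> ring

theorem z7_eq (x : F) : S.e 7 0 x = q5 S x 0 0 0 0 := by
  unfold q5; rw [e_zero, e_zero, o_zero, o_zero]; simp
theorem o7_eq (x : F) : S.o 7 x = q5 S 0 x 0 0 0 := by
  unfold q5; rw [e_zero, e_zero, e_zero, o_zero]; simp
theorem z0_eq (x : F) : S.e 0 0 x = q5 S 0 0 x 0 0 := by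
  unfold q5; rw [e_zero, e_zero, o_zero, o_zero]; simp
theorem o0_eq (x : F) : S.o 0 x = q5 S 0 0 0 x 0 := by
  unfold q5; rw [e_zero, e_zero, e_zero, o_zero]; simp
theorem z1_eq (x : F) : S.e 1 0 x = q5 S 0 0 0 0 x := by
  unfold q5; rw [e_zero, e_zero, o_zero, o_zero]; simp

omit [CharP F 2] in
theorem conj_prod {G : Type*} [Group G] {x a b c d e a' b' c' d' e' : G} (ha : x⁻¹ * a * x = a') (hb : x⁻¹ * b * x = b')
    (hc : x⁻¹ * c * x = c') (hd : x⁻¹ * d * x = d') (he : x⁻¹ * e * x = e') :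
    x⁻¹ * (a * b * c * d * e) * x = a' * b' * c' * d' * e' := by
  rw [← ha, ← hb, ← hc, ← hd, ← he]; group

theorem conj_comm {G : Type*} [Group G] {x a : G} (h : Commute x a) : x⁻¹ * a * x = a := by
  rw [mul_assoc, ← h.eq]; group

/-- the action of `z₂(v)` on `Q₂` -/
theorem q5_z2 (α β γ δ ε v : F) : (S.e 2 0 v)⁻¹ * q5 S α β γ δ ε * S.e 2 0 v =
    q5 S α β (γ + σ α * v) (δ + α * v) (ε + β * v + α * σ v) := by
  have h7 : (S.e 2 0 v)⁻¹ * S.e 7 0 α * S.e 2 0 v = q5 S α 0 (σ α * v) (α * v) (α * σ v) := by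
    have h := Fam.s_conj (S := S) α v
    rw [h]
    unfold Fam.c
    rw [z7_eq, z0_eq, o0_eq, z1_eq, q5_mul, q5_mul, q5_mul]
    simp
  have ho : (S.e 2 0 v)⁻¹ * S.o 7 β * S.e 2 0 v = q5 S 0 β 0 0 (β * v) := by
    have h : S.o 7 β * S.e 2 0 v = S.e 2 0 v * S.o 7 β * S.e 1 0 (β * v) := o_z3 S 7 β v
    calc (S.e 2 0 v)⁻¹ * S.o 7 β * S.e 2 0 v = (S.e 2 0 v)⁻¹ * (S.o 7 β * S.e 2 0 v) := by group
      _ = S.o 7 β * S.e 1 0 (β * v) := by rw [h]; group
      _ = _ := by rw [o7_eq, z1_eq, q5_mul]; simp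
  have h0 : (S.e 2 0 v)⁻¹ * S.e 0 0 γ * S.e 2 0 v = q5 S 0 0 γ 0 0 := by
    exact (conj_comm (e_e2' S 0 0 γ 0 v).symm).trans (z0_eq S _)
  have ho0 : (S.e 2 0 v)⁻¹ * S.o 0 δ * S.e 2 0 v = q5 S 0 0 0 δ 0 := by
    exact (conj_comm (o_z2 S 0 δ v).symm).trans (o0_eq S _)
  have h1 : (S.e 2 0 v)⁻¹ * S.e 1 0 ε * S.e 2 0 v = q5 S 0 0 0 0 ε := by
    exact (conj_comm (e_z1 S 1 0 ε v).symm).trans (z1_eq S _)
  have := conj_prod h7 ho h0 ho0 h1
  have e1 : q5 S α β γ δ ε = S.e 7 0 α * S.o 7 β * S.e 0 0 γ * S.o 0 δ * S.e 1 0 ε := rfl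
  rw [e1, this]
  simp only [q5_mul]
  congr 1 <;> ring

/-- the action of `e₂(p, u)` on `z₀ o₀ z₁` -/
theorem q5_e2 (γ δ ε p u : F) : (S.e 2 p u)⁻¹ * q5 S 0 0 γ δ ε * S.e 2 p u = q5 S 0 0 γ δ (ε + δ * p) := by
  have h7 : (S.e 2 p u)⁻¹ * S.e 7 0 0 * S.e 2 p u = q5 S 0 0 0 0 0 := by
    rw [e_zero, q5_zero]; group
  have ho : (S.e 2 p u)⁻¹ * S.o 7 0 * S.e 2 p u = q5 S 0 0 0 0 0 := by
    rw [o_zero, q5_zero]; group
  have h0 : (S.e 2 p u)⁻¹ * S.e 0 0 γ * S.e 2 p u = q5 S 0 0 γ 0 0 := by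
    exact (conj_comm (e_e2' S 0 0 γ p u).symm).trans (z0_eq S _)
  have ho0 : (S.e 2 p u)⁻¹ * S.o 0 δ * S.e 2 p u = q5 S 0 0 0 δ (δ * p) := by
    have h : S.o 0 δ * S.e 2 p u = S.e 2 p u * S.o 0 δ * S.e 1 0 (δ * p) := S.o_e2 0 δ p u
    calc (S.e 2 p u)⁻¹ * S.o 0 δ * S.e 2 p u = (S.e 2 p u)⁻¹ * (S.o 0 δ * S.e 2 p u) := by group
      _ = S.o 0 δ * S.e 1 0 (δ * p) := by rw [h]; group
      _ = _ := by rw [o0_eq, z1_eq, q5_mul]; simp
  have h1 : (S.e 2 p u)⁻¹ * S.e 1 0 ε * S.e 2 p u = q5 S 0 0 0 0 ε := by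
    exact (conj_comm (z_e1 S 1 ε p u).symm).trans (z1_eq S _)
  have := conj_prod h7 ho h0 ho0 h1
  have e1 : q5 S 0 0 γ δ ε = S.e 7 0 0 * S.o 7 0 * S.e 0 0 γ * S.o 0 δ * S.e 1 0 ε := rfl
  rw [e1, this]
  simp only [q5_mul]
  congr 1 <;> ring

/-- fixed points of `E₂` on `Q₂ / Z₀` -/
theorem fix_E2 (hU : Uniq S) {α β γ δ ε : F}
    (h : ∀ p u, ∃ k, (S.e 2 p u)⁻¹ * q5 S α β γ δ ε * S.e 2 p u = q5 S α β γ δ ε * S.e 0 0 k) :
    α = 0 ∧ β = 0 ∧ δ = 0 := by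
  obtain ⟨k, hk⟩ := h 0 1
  rw [q5_z2, z0_eq, q5_mul] at hk
  obtain ⟨-, -, -, h1, h2⟩ := hU _ _ _ _ _ _ _ _ _ _ hk
  have hα : α = 0 := by
    rw [mul_one, add_zero] at h1
    exact add_eq_left.mp h1
  subst hα
  have hβ : β = 0 := by
    rw [mul_one, zero_mul, add_zero, add_zero] at h2
    exact add_eq_left.mp h2
  subst hβ
  obtain ⟨k', hk'⟩ := h 1 0
  rw [q5_e2, z0_eq, q5_mul] at hk'
  obtain ⟨-, -, -, -, h3⟩ := hU _ _ _ _ _ _ _ _ _ _ hk'
  rw [mul_one, add_zero] at h3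
  exact ⟨rfl, rfl, add_eq_left.mp h3⟩

/-- the action of `o₁(s)` on `Q₂` -/
theorem q5_o1 (α β γ δ ε s : F) : (S.o 1 s)⁻¹ * q5 S α β γ δ ε * S.o 1 s = q5 S α β (γ + α * s) δ ε := by
  have h7 : (S.o 1 s)⁻¹ * S.e 7 0 α * S.o 1 s = q5 S α 0 (α * s) 0 0 := by
    have h : S.e 7 0 α * S.o 1 s = S.o 1 s * S.e 7 0 α * S.e 0 0 (α * s) := by
      have := S.e_o2 7 0 α s
      simp only [map_zero, zero_mul, zero_add, o_zero, e_zero, mul_one] at this
      exact this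
    calc (S.o 1 s)⁻¹ * S.e 7 0 α * S.o 1 s = (S.o 1 s)⁻¹ * (S.e 7 0 α * S.o 1 s) := by group
      _ = S.e 7 0 α * S.e 0 0 (α * s) := by rw [h]; group
      _ = _ := by rw [z7_eq, z0_eq, q5_mul]; simp
  have ho : (S.o 1 s)⁻¹ * S.o 7 β * S.o 1 s = q5 S 0 β 0 0 0 := by
    exact (conj_comm (o_o2' S 7 β s).symm).trans (o7_eq S _)
  have h0 : (S.o 1 s)⁻¹ * S.e 0 0 γ * S.o 1 s = q5 S 0 0 γ 0 0 := by
    exact (conj_comm (z_o1 S 0 γ s).symm).trans (z0_eq S _)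
  have ho0 : (S.o 1 s)⁻¹ * S.o 0 δ * S.o 1 s = q5 S 0 0 0 δ 0 := by
    exact (conj_comm (o_o1' S 0 δ s).symm).trans (o0_eq S _)
  have h1 : (S.o 1 s)⁻¹ * S.e 1 0 ε * S.o 1 s = q5 S 0 0 0 0 ε := by
    exact (conj_comm (e_o0' S 1 0 ε s).symm).trans (z1_eq S _)
  have := conj_prod h7 ho h0 ho0 h1
  have e1 : q5 S α β γ δ ε = S.e 7 0 α * S.o 7 β * S.e 0 0 γ * S.o 0 δ * S.e 1 0 ε := rfl
  rw [e1, this]
  simp only [q5_mul]
  congr 1 <;> ring

/-- the action of `e₁(p, u)` on `Q₂` -/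
theorem q5_e1 (α β γ δ ε p u : F) : (S.e 1 p u)⁻¹ * q5 S α β γ δ ε * S.e 1 p u = q5 S α β (γ + β * p) δ ε := by
  have h7 : (S.e 1 p u)⁻¹ * S.e 7 0 α * S.e 1 p u = q5 S α 0 0 0 0 := by
    exact (conj_comm (e_e2' S 7 0 α p u).symm).trans (z7_eq S _)
  have ho : (S.e 1 p u)⁻¹ * S.o 7 β * S.e 1 p u = q5 S 0 β (β * p) 0 0 := by
    have h : S.o 7 β * S.e 1 p u = S.e 1 p u * S.o 7 β * S.e 0 0 (β * p) := S.o_e2 7 β p u
    calc (S.e 1 p u)⁻¹ * S.o 7 β * S.e 1 p u = (S.e 1 p u)⁻¹ * (S.o 7 β * S.e 1 p u) := by group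
      _ = S.o 7 β * S.e 0 0 (β * p) := by rw [h]; group
      _ = _ := by rw [o7_eq, z0_eq, q5_mul]; simp
  have h0 : (S.e 1 p u)⁻¹ * S.e 0 0 γ * S.e 1 p u = q5 S 0 0 γ 0 0 := by
    exact (conj_comm (z_e1 S 0 γ p u).symm).trans (z0_eq S _)
  have ho0 : (S.e 1 p u)⁻¹ * S.o 0 δ * S.e 1 p u = q5 S 0 0 0 δ 0 := by
    exact (conj_comm (o_e1' S 0 δ p u).symm).trans (o0_eq S _)
  have h1 : (S.e 1 p u)⁻¹ * S.e 1 0 ε * S.e 1 p u = q5 S 0 0 0 0 ε := by
    exact (conj_comm (z_ee S 1 ε p u).symm).trans (z1_eq S _)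
  have := conj_prod h7 ho h0 ho0 h1
  have e1 : q5 S α β γ δ ε = S.e 7 0 α * S.o 7 β * S.e 0 0 γ * S.o 0 δ * S.e 1 0 ε := rfl
  rw [e1, this]
  simp only [q5_mul]
  congr 1 <;> ring

/-- `E₀` centralises `Q₂` -/
theorem q5_e0 (α β γ δ ε p u : F) : Commute (S.e 0 p u) (q5 S α β γ δ ε) := by
  unfold q5
  exact ((((z_e1 S 7 α p u).symm.mul_right (o_e1' S 7 β p u).symm).mul_right (z_ee S 0 γ p u).symm).mul_right
    (e_o0' S 0 p u δ)).mul_right (e_z1 S 0 p u ε)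

end

end Cfsg.Agent.OddHalf.D4.TwF.QTwo

end

-- merged: Cfsg.Agent.OddHalf.D4.TwF.Mir
section

/-!
# ODD D4, `K = ²F₄(q)`: images and the mirror image of a coordinate system
-/

set_option autoImplicit false
set_option linter.unusedSectionVars false

namespace Cfsg.Agent.OddHalf.D4.TwF.Mir

open Cfsg.Agent.Octagon.Pkg
open Cfsg.Agent.KFacts.TwF4 Cfsg.Agent.OddHalf.D4.TwF.Field Cfsg.Agent.OddHalf.D4.TwF.End
open Cfsg.Agent.OddHalf.D4.TwF.QTwo

section map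

variable {F : Type*} [Field F] {σ : F →+* F} {G H : Type*} [Group G] [Group H]

theorem rel_map {x1 x3 x5 x7 : F → G} {x2 x4 x6 x8 : F → F → G} (h : OctRel σ x1 x3 x5 x7 x2 x4 x6 x8) (f : G →* H) :
    OctRel σ (fun t => f (x1 t)) (fun t => f (x3 t)) (fun t => f (x5 t)) (fun t => f (x7 t))
      (fun p u => f (x2 p u)) (fun p u => f (x4 p u)) (fun p u => f (x6 p u)) (fun p u => f (x8 p u)) where
  m1 t s := by rw [← map_mul, h.m1]
  m3 t s := by rw [← map_mul, h.m3]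
  m5 t s := by rw [← map_mul, h.m5]
  m7 t s := by rw [← map_mul, h.m7]
  m2 p u q v := by rw [← map_mul, h.m2]
  m4 p u q v := by rw [← map_mul, h.m4]
  m6 p u q v := by rw [← map_mul, h.m6]
  m8 p u q v := by rw [← map_mul, h.m8]
  r12 t q v := by simp only [← map_mul]; rw [h.r12]
  r13 t s := by simp only [← map_mul]; rw [h.r13]
  r14 t q v := by simp only [← map_mul]; rw [h.r14]
  r15 t s := by simp only [← map_mul]; rw [h.r15]
  r16 t q v := by simp only [← map_mul]; rw [h.r16]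
  r17 t s := by simp only [← map_mul]; rw [h.r17]
  r18 t q v := by simp only [← map_mul]; rw [h.r18]
  r23 p u s := by simp only [← map_mul]; rw [h.r23]
  r24 p u q v := by simp only [← map_mul]; rw [h.r24]
  r25 p u s := by simp only [← map_mul]; rw [h.r25]
  r26 p u q v := by simp only [← map_mul]; rw [h.r26]
  r27 p u s := by simp only [← map_mul]; rw [h.r27]
  r28 p u q v := by simp only [← map_mul]; rw [h.r28]
  r34 t q v := by simp only [← map_mul]; rw [h.r34]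
  r35 t s := by simp only [← map_mul]; rw [h.r35]
  r36 t q v := by simp only [← map_mul]; rw [h.r36]
  r37 t s := by simp only [← map_mul]; rw [h.r37]
  r38 t q v := by simp only [← map_mul]; rw [h.r38]
  r45 p u s := by simp only [← map_mul]; rw [h.r45]
  r46 p u q v := by simp only [← map_mul]; rw [h.r46]
  r47 p u s := by simp only [← map_mul]; rw [h.r47]
  r48 p u q v := by simp only [← map_mul]; rw [h.r48]
  r56 t q v := by simp only [← map_mul]; rw [h.r56]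
  r57 t s := by simp only [← map_mul]; rw [h.r57]
  r58 t q v := by simp only [← map_mul]; rw [h.r58]
  r67 p u s := by simp only [← map_mul]; rw [h.r67]
  r68 p u q v := by simp only [← map_mul]; rw [h.r68]
  r78 t q v := by simp only [← map_mul]; rw [h.r78]

/-- the image of a coordinate system -/
def mapS (S : Sys σ G) (f : G →* H) (hf : Function.Injective f) : Sys σ H where
  o a t := f (S.o a t)
  e a p u := f (S.e a p u)
  rot := f S.rot
  n1 := f S.n1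
  n2 := f S.n2
  rel := rel_map S.rel f
  injO a := hf.comp (S.injO a)
  injE a p u q v h := S.injE a p u q v (hf h)
  rot_o a t := by rw [← map_mul, ← map_inv, ← map_mul, S.rot_o]
  rot_e a p u := by rw [← map_mul, ← map_inv, ← map_mul, S.rot_e]
  n1_o a t := by rw [← map_mul, ← map_inv, ← map_mul, S.n1_o]
  n1_e a p u := by rw [← map_mul, ← map_inv, ← map_mul, S.n1_e]
  n2_o a t := by rw [← map_mul, ← map_inv, ← map_mul, S.n2_o]
  n2_e a p u := by rw [← map_mul, ← map_inv, ← map_mul, S.n2_e]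

theorem mapS_o (S : Sys σ G) (f : G →* H) (hf : Function.Injective f) (a : ZMod 8) (t : F) :
    (mapS S f hf).o a t = f (S.o a t) := rfl
theorem mapS_e (S : Sys σ G) (f : G →* H) (hf : Function.Injective f) (a : ZMod 8) (p u : F) :
    (mapS S f hf).e a p u = f (S.e a p u) := rfl

end map

variable {F : Type*} [Field F] [CharP F 2] {σ τ : F →+* F} {G : Type*} [Group G]

/-- mirror images -/
structure Mirror (S S' : Sys σ G) : Prop where
  e : ∀ a p u, S'.e a p u = S.e (-a) p u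
  o : ∀ a t, S'.o a t = S.o (7 - a) t

theorem Mirror.symm {S S' : Sys σ G} (M : Mirror S S') : Mirror S' S :=
  ⟨fun a p u => by rw [M.e, neg_neg], fun a t => by rw [M.o, sub_sub_cancel]⟩

/-- the mirror image -/
theorem exists_mirror (S : Sys σ G) : ∃ S' : Sys σ G, Mirror S S' := by
  let w : G := S.rot * (S.rot * (S.rot * (S.rot * S.n2)))
  have hc : ∀ x : G, (MulAut.conj w).toMonoidHom x =
      S.rot * (S.rot * (S.rot * (S.rot * (S.n2 * x * S.n2⁻¹) * S.rot⁻¹) * S.rot⁻¹) * S.rot⁻¹) * S.rot⁻¹ := by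
    intro x
    show w * x * w⁻¹ = _
    simp only [w]
    group
  have hi : Function.Injective (MulAut.conj w).toMonoidHom := (MulAut.conj w).injective
  refine ⟨mapS S (MulAut.conj w).toMonoidHom hi, ?_, ?_⟩
  · intro a p u
    refine (mapS_e S _ hi a p u).trans ?_
    rw [hc, S.n2_e, S.rot_e, S.rot_e, S.rot_e, S.rot_e]
    have : (4 - a + 1 + 1 + 1 + 1 : ZMod 8) = -a := by
      revert a; decide
    rw [this]
  · intro a t
    refine (mapS_o S _ hi a t).trans ?_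
    rw [hc, S.n2_o, S.rot_o, S.rot_o, S.rot_o, S.rot_o]
    have : (3 - a + 1 + 1 + 1 + 1 : ZMod 8) = 7 - a := by
      revert a; decide
    rw [this]

section mirror

variable {S S' : Sys σ G}

theorem Mirror.e7 (M : Mirror S S') (p u : F) : S'.e 7 p u = S.e 1 p u := M.e 7 p u
theorem Mirror.e1 (M : Mirror S S') (p u : F) : S'.e 1 p u = S.e 7 p u := M.e 1 p u
theorem Mirror.e0 (M : Mirror S S') (p u : F) : S'.e 0 p u = S.e 0 p u := M.e 0 p u
theorem Mirror.e2 (M : Mirror S S') (p u : F) : S'.e 2 p u = S.e 6 p u := M.e 2 p u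
theorem Mirror.e6 (M : Mirror S S') (p u : F) : S'.e 6 p u = S.e 2 p u := M.e 6 p u
theorem Mirror.o0 (M : Mirror S S') (t : F) : S'.o 0 t = S.o 7 t := M.o 0 t
theorem Mirror.o7 (M : Mirror S S') (t : F) : S'.o 7 t = S.o 0 t := M.o 7 t
theorem Mirror.o1 (M : Mirror S S') (t : F) : S'.o 1 t = S.o 6 t := M.o 1 t
theorem Mirror.o6 (M : Mirror S S') (t : F) : S'.o 6 t = S.o 1 t := M.o 6 t

theorem Mirror.q5 (M : Mirror S S') (α β γ δ ε : F) : QTwo.q5 S' α β γ δ ε = QTwo.q5 S ε δ γ β α := by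
  have h1 : QTwo.q5 S' α β γ δ ε = S.e 1 0 α * S.o 0 β * S.e 0 0 γ * S.o 7 δ * S.e 7 0 ε := by
    unfold QTwo.q5
    rw [M.e7, M.e1, M.e0, M.o0, M.o7]
  rw [h1, z1_eq, o0_eq, z0_eq, o7_eq, z7_eq, q5_mul, q5_mul, q5_mul, q5_mul]
  simp

theorem Mirror.uniq (M : Mirror S S') (hU : Uniq S) : Uniq S' := by
  intro α β γ δ ε α' β' γ' δ' ε' h
  rw [M.q5, M.q5] at h
  obtain ⟨h1, h2, h3, h4, h5⟩ := hU _ _ _ _ _ _ _ _ _ _ h
  exact ⟨h5, h4, h3, h2, h1⟩

end mirror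

end Cfsg.Agent.OddHalf.D4.TwF.Mir

end

-- merged: Cfsg.Agent.OddHalf.D4.TwF.Norm
section

/-!
# ODD D4, `K = ²F₄(q)`: the elements commuting with `Q₂` and the torus of the Levi factor

`Nn S dl n`: `n` commutes with `Q₂` and with the torus `dl`, and `[n, x] ∈ Q₂` for the root elements `x` of `H`.
`norm_form`: for some `c` the element `n' = e₀(c, 0) n` commutes with `o₁, o₆, E₁, E₇`, and there is `e` with
`n' z₂(v) n'⁻¹ = z₂(v) z₁(e τ v)`, `n' z₆(v) n'⁻¹ = z₆(v) z₇(e τ v)`, `n' e₀(p, u) n'⁻¹ = e₀(p, u) z₀(e τ p)`.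
-/

set_option autoImplicit false
set_option linter.unusedSectionVars false

namespace Cfsg.Agent.OddHalf.D4.TwF.Norm

open Cfsg.Agent.KFacts.TwF4 Cfsg.Agent.OddHalf.D4.TwF.Field Cfsg.Agent.OddHalf.D4.TwF.End
open Cfsg.Agent.OddHalf.D4.TwF.QTwo Cfsg.Agent.OddHalf.D4.TwF.Mir

/-! ### the defect `x⁻¹ xⁿ` -/

section dlt

variable {G : Type*} [Group G]

/-- `x⁻¹ (n x n⁻¹)` -/
def dlt (n x : G) : G := x⁻¹ * (n * x * n⁻¹)

theorem conj_eq (n x : G) : n * x * n⁻¹ = x * dlt n x := by unfold dlt; group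

theorem dlt_eq_one {n x : G} (h : Commute n x) : dlt n x = 1 := by
  unfold dlt; rw [h.eq]; group

theorem comm_of_dlt {n x : G} (h : dlt n x = 1) : Commute n x := by
  have h1 := conj_eq n x
  rw [h, mul_one] at h1
  show n * x = x * n
  calc n * x = (n * x * n⁻¹) * n := by group
    _ = x * n := by rw [h1]

theorem dlt_mul (n x y : G) : dlt n (x * y) = y⁻¹ * dlt n x * y * dlt n y := by unfold dlt; group

theorem dlt_left (m n x : G) : dlt (m * n) x = dlt m x * (m * dlt n x * m⁻¹) := by unfold dlt; group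

theorem dlt_conj {n d : G} (h : Commute n d) (x : G) : dlt n (d * x * d⁻¹) = d * dlt n x * d⁻¹ := by
  unfold dlt
  have h1 : d⁻¹ * n⁻¹ = n⁻¹ * d⁻¹ := h.symm.inv_inv.eq
  calc (d * x * d⁻¹)⁻¹ * (n * (d * x * d⁻¹) * n⁻¹) = d * x⁻¹ * d⁻¹ * ((n * d) * x * (d⁻¹ * n⁻¹)) := by group
    _ = d * x⁻¹ * d⁻¹ * ((d * n) * x * (n⁻¹ * d⁻¹)) := by rw [h.eq, h1]
    _ = _ := by group

theorem dlt_of {m x w : G} (h : m * x = x * m * w) (hw : Commute m w) : dlt m x = w := by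
  unfold dlt
  rw [h]
  calc x⁻¹ * (x * m * w * m⁻¹) = (m * w) * m⁻¹ := by group
    _ = w := by rw [hw.eq]; group

theorem dlt_of' {m x w : G} (h : x * m = m * x * w) (hw : Commute m w) : dlt m x = w⁻¹ := by
  apply dlt_of _ hw.inv_right
  rw [h]; group

end dlt

/-! ### fields -/

section field

variable {F : Type*} [Field F] [CharP F 2] {σ τ : F →+* F}

theorem exists_one (I : _root_.Cfsg.Agent.OddHalf.D4.TwF.Field.Inv σ τ) {y : F} (hy : y ≠ 0) : ∃ d : Fˣ, (d : F) * σ d = y := by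
  have hσ : σ y ≠ 0 := (map_ne_zero σ).mpr hy
  refine ⟨Units.mk0 (σ y / y) (div_ne_zero hσ hy), ?_⟩
  show σ y / y * σ (σ y / y) = y
  rw [map_div₀, I.sq]
  field_simp

theorem exists_two (I : _root_.Cfsg.Agent.OddHalf.D4.TwF.Field.Inv σ τ) {y : F} (hy : y ≠ 0) : ∃ d : Fˣ, σ (d : F) * (d * d) = y := by
  have hτ : τ y ≠ 0 := (map_ne_zero τ).mpr hy
  refine ⟨Units.mk0 (y / τ y) (div_ne_zero hy hτ), ?_⟩
  show σ (y / τ y) * (y / τ y * (y / τ y)) = y
  rw [map_div₀, I.r]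
  have h1 : τ y * τ y = σ y := by
    rw [← map_mul, I.τ_sq]
  have hσ : σ y ≠ 0 := (map_ne_zero σ).mpr hy
  have h2 : y / τ y * (y / τ y) = y * y / σ y := by
    rw [div_mul_div_comm, h1]
  rw [h2]
  field_simp

/-- there is `x ≠ 0, 1` and it is not fixed -/
theorem exists_mov (I : _root_.Cfsg.Agent.OddHalf.D4.TwF.Field.Inv σ τ) : ∃ x : F, x ≠ 0 ∧ x ≠ 1 ∧ σ x ≠ x := by
  obtain ⟨x, h0, h1⟩ := I.big
  refine ⟨x, h0, h1, fun h => ?_⟩
  rcases fix I.sq h with h2 | h2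
  · exact h0 h2
  · exact h1 h2

theorem zero_of_add {ψ : F → F} (hadd : ∀ x y, ψ (x + y) = ψ x + ψ y) : ψ 0 = 0 := by
  have := hadd 0 0
  rw [add_zero] at this
  exact left_eq_add.mp this

theorem weight_inv_one (I : _root_.Cfsg.Agent.OddHalf.D4.TwF.Field.Inv σ τ) {ψ : F → F} (hadd : ∀ x y, ψ (x + y) = ψ x + ψ y)
    (h : ∀ (d : Fˣ) x, ψ (d * σ d * x) = ψ x) (x : F) : ψ x = 0 := by
  refine zero_of_inv I hadd (fun x y hx hy => ?_) x
  obtain ⟨d, hd⟩ := exists_one I (div_ne_zero hy hx)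
  have h1 := h d x
  rw [hd, div_mul_cancel₀ _ hx] at h1
  exact h1.symm

theorem weight_inv_zero (I : _root_.Cfsg.Agent.OddHalf.D4.TwF.Field.Inv σ τ) {ψ : F → F} (hadd : ∀ x y, ψ (x + y) = ψ x + ψ y)
    (h : ∀ (d : Fˣ) x, ψ (d * x) = ψ x) (x : F) : ψ x = 0 := by
  refine zero_of_inv I hadd (fun x y hx hy => ?_) x
  have h1 := h (Units.mk0 (y / x) (div_ne_zero hy hx)) x
  rw [Units.val_mk0, div_mul_cancel₀ _ hx] at h1
  exact h1.symm

theorem weight_inv_two (I : _root_.Cfsg.Agent.OddHalf.D4.TwF.Field.Inv σ τ) {ψ : F → F} (hadd : ∀ x y, ψ (x + y) = ψ x + ψ y)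
    (h : ∀ (d : Fˣ) x, ψ (σ d * (d * d) * x) = ψ x) (x : F) : ψ x = 0 := by
  refine zero_of_inv I hadd (fun x y hx hy => ?_) x
  obtain ⟨d, hd⟩ := exists_two I (div_ne_zero hy hx)
  have h1 := h d x
  rw [hd, div_mul_cancel₀ _ hx] at h1
  exact h1.symm

theorem weight_lin (I : _root_.Cfsg.Agent.OddHalf.D4.TwF.Field.Inv σ τ) {ψ : F → F} (hadd : ∀ x y, ψ (x + y) = ψ x + ψ y)
    (h : ∀ (d : Fˣ) x, ψ (d * σ d * x) = d * σ d * ψ x) (x : F) : ψ x = ψ 1 * x := by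
  by_cases hx : x = 0
  · rw [hx, mul_zero, zero_of_add hadd]
  obtain ⟨d, hd⟩ := exists_one I hx
  have h1 := h d 1
  rw [hd, mul_one] at h1
  rw [h1, mul_comm]

theorem weight_zero_one (I : _root_.Cfsg.Agent.OddHalf.D4.TwF.Field.Inv σ τ) {ψ : F → F} (hadd : ∀ x y, ψ (x + y) = ψ x + ψ y)
    (h : ∀ (d : Fˣ) x, ψ (d * x) = d * σ d * ψ x) (x : F) : ψ x = 0 := by
  have h1 : ∀ y : F, y ≠ 0 → ψ y = y * σ y * ψ 1 := by
    intro y hy
    have := h (Units.mk0 y hy) 1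
    rwa [Units.val_mk0, mul_one] at this
  obtain ⟨d, hd0, hd1, hd⟩ := exists_mov I
  have h2 : d + 1 ≠ 0 := fun h => hd1 (eq_of_add h)
  have h3 := hadd d 1
  rw [h1 _ h2, h1 _ hd0, map_add, map_one] at h3
  have h4 : (d + σ d) * ψ 1 = 0 := by
    have h5 : (d + σ d) * ψ 1 + (d * σ d * ψ 1 + ψ 1) = d * σ d * ψ 1 + ψ 1 := by
      calc (d + σ d) * ψ 1 + (d * σ d * ψ 1 + ψ 1) = (d + 1) * (σ d + 1) * ψ 1 := by ring
        _ = _ := h3
    exact add_eq_right.mp h5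
  have h6 : ψ 1 = 0 := by
    rcases mul_eq_zero.mp h4 with h7 | h7
    · exact absurd (eq_of_add h7).symm hd
    · exact h7
  by_cases hx : x = 0
  · rw [hx, zero_of_add hadd]
  rw [h1 x hx, h6, mul_zero]

theorem weight_zero_two (I : _root_.Cfsg.Agent.OddHalf.D4.TwF.Field.Inv σ τ) {ψ : F → F} (hadd : ∀ x y, ψ (x + y) = ψ x + ψ y)
    (h : ∀ (d : Fˣ) x, ψ (σ d * (d * d) * x) = d * ψ x) (x : F) : ψ x = 0 := by
  have hτ : ∀ y : F, y ≠ 0 → τ y ≠ 0 := fun y hy => (map_ne_zero τ).mpr hy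
  have h1 : ∀ y : F, y ≠ 0 → τ y * ψ y = y * ψ 1 := by
    intro y hy
    obtain ⟨d, hd⟩ := exists_two I hy
    have h2 := h d 1
    rw [hd, mul_one] at h2
    have h3 : τ y = σ d * d := by
      rw [← hd, map_mul, I.l, I.τ_sq]; ring
    rw [h2, h3, ← hd]; ring
  obtain ⟨d, hd0, hd1, hd⟩ := exists_mov I
  have h2 : d + 1 ≠ 0 := fun h => hd1 (eq_of_add h)
  have h3 := h1 _ h2
  have h4 := h1 _ hd0
  rw [hadd, map_add, map_one] at h3
  -- multiply by `τ d`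
  have h5 : (d + σ d) * ψ 1 = 0 := by
    have e1 : τ d * τ d = σ d := by rw [← map_mul, I.τ_sq]
    have e2 : τ d * ((τ d + 1) * (ψ d + ψ 1)) = τ d * ((d + 1) * ψ 1) := by rw [h3]
    have e3 : τ d * ((τ d + 1) * (ψ d + ψ 1)) = (τ d + 1) * (τ d * ψ d) + τ d * τ d * ψ 1 + τ d * ψ 1 := by ring
    rw [e3, h4, e1] at e2
    have e4 : (d + σ d) * ψ 1 + (τ d * (d + 1) * ψ 1) = τ d * (d + 1) * ψ 1 := by
      calc (d + σ d) * ψ 1 + (τ d * (d + 1) * ψ 1) = (τ d + 1) * (d * ψ 1) + σ d * ψ 1 + τ d * ψ 1 := by ring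
        _ = τ d * ((d + 1) * ψ 1) := e2
        _ = _ := by ring
    exact add_eq_right.mp e4
  have h6 : ψ 1 = 0 := by
    rcases mul_eq_zero.mp h5 with h7 | h7
    · exact absurd (eq_of_add h7).symm hd
    · exact h7
  by_cases hx : x = 0
  · rw [hx, zero_of_add hadd]
  have h7 := h1 x hx
  rw [h6, mul_zero] at h7
  exact (mul_eq_zero.mp h7).resolve_left (hτ x hx)

theorem weight_tau (I : _root_.Cfsg.Agent.OddHalf.D4.TwF.Field.Inv σ τ) {ψ : F → F} (hadd : ∀ x y, ψ (x + y) = ψ x + ψ y)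
    (h : ∀ (d : Fˣ) x, ψ (σ d * (d * d) * x) = d * σ d * ψ x) (x : F) : ψ x = ψ 1 * τ x := by
  by_cases hx : x = 0
  · rw [hx, map_zero, mul_zero, zero_of_add hadd]
  obtain ⟨d, hd⟩ := exists_two I hx
  have h2 := h d 1
  rw [hd, mul_one] at h2
  have h3 : τ x = σ d * d := by
    rw [← hd, map_mul, I.l, I.τ_sq]; ring
  rw [h2, h3]; ring

end field

variable {F : Type*} [Field F] [CharP F 2] {σ τ : F →+* F} {G : Type*} [Group G]

/-! ### the torus of the Levi factor -/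

/-- the action of the torus of the Levi factor -/
structure Dl (S : Sys σ G) (dl : Fˣ → G) : Prop where
  e0 : ∀ d p u, dl d * S.e 0 p u * (dl d)⁻¹ = S.e 0 p u
  o0 : ∀ d t, dl d * S.o 0 t * (dl d)⁻¹ = S.o 0 (d * t)
  o7 : ∀ d t, dl d * S.o 7 t * (dl d)⁻¹ = S.o 7 ((d⁻¹ : Fˣ) * t)
  e1 : ∀ d p u, dl d * S.e 1 p u * (dl d)⁻¹ = S.e 1 (d * p) (d * σ d * u)
  e7 : ∀ d p u, dl d * S.e 7 p u * (dl d)⁻¹ = S.e 7 ((d⁻¹ : Fˣ) * p) ((d⁻¹ : Fˣ) * σ (d⁻¹ : Fˣ) * u)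
  o1 : ∀ d t, dl d * S.o 1 t * (dl d)⁻¹ = S.o 1 (d * σ d * t)
  o6 : ∀ d t, dl d * S.o 6 t * (dl d)⁻¹ = S.o 6 ((d⁻¹ : Fˣ) * σ (d⁻¹ : Fˣ) * t)
  z2 : ∀ d v, dl d * S.e 2 0 v * (dl d)⁻¹ = S.e 2 0 (σ d * (d * d) * v)
  z6 : ∀ d v, dl d * S.e 6 0 v * (dl d)⁻¹ = S.e 6 0 (σ (d⁻¹ : Fˣ) * ((d⁻¹ : Fˣ) * (d⁻¹ : Fˣ)) * v)

theorem Dl.mirror {S S' : Sys σ G} {dl : Fˣ → G} (D : Dl S dl) (M : Mirror S S') : Dl S' (fun d => dl d⁻¹) where
  e0 d p u := by rw [M.e0, D.e0]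
  o0 d t := by rw [M.o0, M.o0, D.o7, inv_inv]
  o7 d t := by rw [M.o7, M.o7, D.o0]
  e1 d p u := by rw [M.e1, M.e1, D.e7, inv_inv]
  e7 d p u := by rw [M.e7, M.e7, D.e1]
  o1 d t := by rw [M.o1, M.o1, D.o6, inv_inv]
  o6 d t := by rw [M.o6, M.o6, D.o1]
  z2 d v := by rw [M.e2, M.e2, D.z6, inv_inv]
  z6 d v := by rw [M.e6, M.e6, D.z2]

theorem Dl.q5 {S : Sys σ G} {dl : Fˣ → G} (D : Dl S dl) (d : Fˣ) (α β γ δ ε : F) :
    dl d * q5 S α β γ δ ε * (dl d)⁻¹ =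
    q5 S ((d⁻¹ : Fˣ) * σ (d⁻¹ : Fˣ) * α) ((d⁻¹ : Fˣ) * β) γ (d * δ) (d * σ d * ε) := by
  have h1 : S.e 7 0 ((d⁻¹ : Fˣ) * σ (d⁻¹ : Fˣ) * α) = dl d * S.e 7 0 α * (dl d)⁻¹ := by
    rw [D.e7, mul_zero]
  have h2 : S.e 1 0 (d * σ d * ε) = dl d * S.e 1 0 ε * (dl d)⁻¹ := by
    rw [D.e1, mul_zero]
  unfold QTwo.q5
  rw [h1, h2, ← D.o7, ← D.o0]
  conv_rhs => rw [← D.e0 d 0 γ]
  group

/-! ### the class of elements -/

/-- membership in `Q₂` -/
def InQ (S : Sys σ G) (x : G) : Prop := ∃ α β γ δ ε, x = q5 S α β γ δ ε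

theorem InQ.one (S : Sys σ G) : InQ S 1 := ⟨0, 0, 0, 0, 0, (q5_zero S).symm⟩

theorem InQ.mul {S : Sys σ G} {x y : G} (hx : InQ S x) (hy : InQ S y) : InQ S (x * y) := by
  obtain ⟨a, b, c, d, e, rfl⟩ := hx
  obtain ⟨a', b', c', d', e', rfl⟩ := hy
  exact ⟨_, _, _, _, _, q5_mul S _ _ _ _ _ _ _ _ _ _⟩

theorem InQ.mirror {S S' : Sys σ G} (M : Mirror S S') {x : G} (h : InQ S x) : InQ S' x := by
  obtain ⟨a, b, c, d, e, rfl⟩ := h
  exact ⟨e, d, c, b, a, (M.q5 e d c b a).symm⟩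

/-- the elements `n` -/
structure Nn (S : Sys σ G) (dl : Fˣ → G) (n : G) : Prop where
  z7 : ∀ u, Commute n (S.e 7 0 u)
  o7 : ∀ t, Commute n (S.o 7 t)
  z0 : ∀ u, Commute n (S.e 0 0 u)
  o0 : ∀ t, Commute n (S.o 0 t)
  z1 : ∀ u, Commute n (S.e 1 0 u)
  dl : ∀ d, Commute n (dl d)
  qo1 : ∀ s, InQ S (dlt n (S.o 1 s))
  qo6 : ∀ s, InQ S (dlt n (S.o 6 s))
  qe1 : ∀ p u, InQ S (dlt n (S.e 1 p u))
  qe7 : ∀ p u, InQ S (dlt n (S.e 7 p u))
  qe0 : ∀ p u, InQ S (dlt n (S.e 0 p u))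
  qe2 : ∀ p u, InQ S (dlt n (S.e 2 p u))
  qe6 : ∀ p u, InQ S (dlt n (S.e 6 p u))

theorem Nn.mirror {S S' : Sys σ G} {dl : Fˣ → G} {n : G} (N : Nn S dl n) (M : Mirror S S') :
    Nn S' (fun d => dl d⁻¹) n where
  z7 u := by rw [M.e7]; exact N.z1 u
  o7 t := by rw [M.o7]; exact N.o0 t
  z0 u := by rw [M.e0]; exact N.z0 u
  o0 t := by rw [M.o0]; exact N.o7 t
  z1 u := by rw [M.e1]; exact N.z7 u
  dl d := N.dl d⁻¹
  qo1 s := by rw [M.o1]; exact (N.qo6 s).mirror M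
  qo6 s := by rw [M.o6]; exact (N.qo1 s).mirror M
  qe1 p u := by rw [M.e1]; exact (N.qe7 p u).mirror M
  qe7 p u := by rw [M.e7]; exact (N.qe1 p u).mirror M
  qe0 p u := by rw [M.e0]; exact (N.qe0 p u).mirror M
  qe2 p u := by rw [M.e2]; exact (N.qe6 p u).mirror M
  qe6 p u := by rw [M.e6]; exact (N.qe2 p u).mirror M

namespace Nn

variable {S : Sys σ G} {dl : Fˣ → G} {n : G}

theorem q5 (N : Nn S dl n) (α β γ δ ε : F) : Commute n (q5 S α β γ δ ε) :=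
  ((((N.z7 α).mul_right (N.o7 β)).mul_right (N.z0 γ)).mul_right (N.o0 δ)).mul_right (N.z1 ε)

/-- the relation `xy = yxw` read through the defects -/
theorem rel {x y w : G} (h : x * y = y * x * w) : y⁻¹ * dlt n x * y * dlt n y =
    w⁻¹ * (x⁻¹ * dlt n y * x * dlt n x) * w * dlt n w := by
  rw [← dlt_mul, ← dlt_mul, ← dlt_mul, h]

/-- `n` on `o₁` -/
theorem o1 (N : Nn S dl n) (D : Dl S dl) (I : _root_.Cfsg.Agent.OddHalf.D4.TwF.Field.Inv σ τ) (hU : Uniq S) : ∃ c : F, ∀ s, dlt n (S.o 1 s) = S.e 1 0 (c * s) := by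
  have h1 : ∀ s, ∃ γ ε, dlt n (S.o 1 s) = QTwo.q5 S 0 0 γ 0 ε := by
    intro s
    obtain ⟨α, β, γ, δ, ε, hk⟩ := N.qo1 s
    have : α = 0 ∧ β = 0 ∧ δ = 0 := by
      apply fix_E2 S hU
      intro p u
      obtain ⟨a1, a2, a3, a4, a5, ha⟩ := N.qe2 p u
      have hc : S.e 2 p u * S.o 1 s = S.o 1 s * S.e 2 p u * 1 := by
        rw [mul_one]; exact (o_e1' S 1 s p u).symm
      have h := rel (n := n) hc
      rw [ha, hk, q5_o1, dlt_eq_one (Commute.one_right n), inv_one, one_mul, mul_one, mul_one, q5_mul] at h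
      have h2 : (S.e 2 p u)⁻¹ * QTwo.q5 S α β γ δ ε * S.e 2 p u = QTwo.q5 S (a1 + α) (a2 + β) (a3 + a1 * s + γ) (a4 + δ)
          (a5 + ε) * (QTwo.q5 S a1 a2 a3 a4 a5)⁻¹ := by
        rw [h]; group
      rw [q5_inv, q5_mul] at h2
      refine ⟨a1 * s, ?_⟩
      rw [h2, z0_eq, q5_mul]
      congr 1
      · rw [add_right_comm, add_self]; ring
      · rw [add_right_comm, add_self]; ring
      · have : a3 + a1 * s + γ + a3 = (a3 + a3) + (γ + a1 * s) := by ring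
        rw [this, add_self, zero_add]
      · rw [add_right_comm, add_self]; ring
      · rw [add_right_comm, add_self]; ring
    obtain ⟨rfl, rfl, rfl⟩ := this
    exact ⟨γ, ε, hk⟩
  choose γ ε h2 using h1
  have hadd : ∀ s s', γ (s + s') = γ s + γ s' ∧ ε (s + s') = ε s + ε s' := by
    intro s s'
    have h := dlt_mul n (S.o 1 s) (S.o 1 s')
    rw [S.o_add, h2, h2, h2, q5_o1, q5_mul] at h
    simp only [zero_mul, add_zero] at h
    obtain ⟨-, -, h3, -, h4⟩ := hU _ _ _ _ _ _ _ _ _ _ h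
    exact ⟨h3, h4⟩
  have hw : ∀ (d : Fˣ) s, γ (d * σ d * s) = γ s ∧ ε (d * σ d * s) = d * σ d * ε s := by
    intro d s
    have h := dlt_conj (N.dl d) (S.o 1 s)
    rw [D.o1, h2, h2, D.q5] at h
    simp only [mul_zero] at h
    obtain ⟨-, -, h3, -, h4⟩ := hU _ _ _ _ _ _ _ _ _ _ h
    exact ⟨h3, h4⟩
  have h3 := weight_inv_one I (fun x y => (hadd x y).1) (fun d x => (hw d x).1)
  have h4 := weight_lin I (fun x y => (hadd x y).2) (fun d x => (hw d x).2)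
  refine ⟨ε 1, fun s => ?_⟩
  rw [h2, h3, z1_eq, h4]

theorem two_add (a b : F) : a + b + a = b := by
  rw [add_right_comm, add_self, zero_add]

/-- from `y⁻¹ κ y · a = a · κ · z₀` -/
theorem mod_aux {α β γ δ ε a1 a2 a3 a4 a5 k : F} {y : G}
    (h : y⁻¹ * QTwo.q5 S α β γ δ ε * y * QTwo.q5 S a1 a2 a3 a4 a5 = QTwo.q5 S (a1 + α) (a2 + β) k (a4 + δ) (a5 + ε)) :
    ∃ k', y⁻¹ * QTwo.q5 S α β γ δ ε * y = QTwo.q5 S α β γ δ ε * S.e 0 0 k' := by
  have h2 : y⁻¹ * QTwo.q5 S α β γ δ ε * y = QTwo.q5 S (a1 + α) (a2 + β) k (a4 + δ) (a5 + ε) *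
      (QTwo.q5 S a1 a2 a3 a4 a5)⁻¹ := by
    rw [← h]; group
  rw [q5_inv, q5_mul, two_add, two_add, two_add, two_add] at h2
  refine ⟨γ + (k + a3), ?_⟩
  rw [h2, z0_eq, q5_mul]
  congr 1
  · ring
  · ring
  · rw [← add_assoc, add_self, zero_add]
  · ring
  · ring

/-- `n` on `E₁`, if `n` commutes with `o₁` -/
theorem e1 (N : Nn S dl n) (D : Dl S dl) (I : _root_.Cfsg.Agent.OddHalf.D4.TwF.Field.Inv σ τ) (hU : Uniq S) (h1 : ∀ s, Commute n (S.o 1 s)) (p u : F) :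
    Commute n (S.e 1 p u) := by
  have h2 : ∀ p, ∃ γ ε, dlt n (S.e 1 p 0) = QTwo.q5 S 0 0 γ 0 ε := by
    intro p
    obtain ⟨α, β, γ, δ, ε, hk⟩ := N.qe1 p 0
    have : α = 0 ∧ β = 0 ∧ δ = 0 := by
      apply fix_E2 S hU
      intro q v
      obtain ⟨a1, a2, a3, a4, a5, ha⟩ := N.qe2 q v
      have hc : S.e 1 p 0 * S.e 2 q v = S.e 2 q v * S.e 1 p 0 * S.o 1 (p * q) := S.e_e1 1 p 0 q v
      have h := rel (n := n) hc
      rw [ha, hk, dlt_eq_one (h1 _), mul_one, q5_e1, q5_mul, q5_o1] at h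
      exact mod_aux h
    obtain ⟨rfl, rfl, rfl⟩ := this
    exact ⟨γ, ε, hk⟩
  choose γ ε h3 using h2
  have hz : ∀ u, Commute n (S.e 1 0 u) := N.z1
  have hsplit : ∀ p u, S.e 1 p u = S.e 1 p 0 * S.e 1 0 u := by
    intro p u
    rw [S.e_mul, map_zero, mul_zero, add_zero, add_zero, zero_add]
  have hadd : ∀ s s', γ (s + s') = γ s + γ s' ∧ ε (s + s') = ε s + ε s' := by
    intro s s'
    have h := dlt_mul n (S.e 1 s 0) (S.e 1 s' 0)
    rw [S.e_mul, hsplit, dlt_mul, dlt_eq_one (hz _), mul_one, h3, h3, h3, q5_e1, q5_e1, q5_mul] at h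
    simp only [zero_mul, add_zero] at h
    obtain ⟨-, -, h4, -, h5⟩ := hU _ _ _ _ _ _ _ _ _ _ h
    exact ⟨h4, h5⟩
  have hw : ∀ (d : Fˣ) s, γ (d * s) = γ s ∧ ε (d * s) = d * σ d * ε s := by
    intro d s
    have h := dlt_conj (N.dl d) (S.e 1 s 0)
    rw [D.e1, mul_zero, h3, h3, D.q5] at h
    simp only [mul_zero] at h
    obtain ⟨-, -, h4, -, h5⟩ := hU _ _ _ _ _ _ _ _ _ _ h
    exact ⟨h4, h5⟩
  have h4 := weight_inv_zero I (fun x y => (hadd x y).1) (fun d x => (hw d x).1)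
  have h5 := weight_zero_one I (fun x y => (hadd x y).2) (fun d x => (hw d x).2)
  rw [hsplit]
  refine Commute.mul_right (comm_of_dlt ?_) (hz u)
  rw [h3, h4, h5, q5_zero]

/-! ### the key relation -/

/-- the element `[o₆(t), z₂(v)]` -/
def R (S : Sys σ G) (t v : F) : G := S.e 7 0 (t * σ t * v) * S.o 7 (t * σ t * σ v) *
  S.e 0 (σ t * v) (t * t * σ t * v * σ v) * S.o 0 (t * σ t * v * v) * S.e 1 (t * v) 0 * S.o 1 (t * σ v)

theorem R_rel (S : Sys σ G) (t v : F) : S.o 6 t * S.e 2 0 v = S.e 2 0 v * S.o 6 t * R S t v := by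
  have h := S.o_e4 6 t 0 v
  simp only [map_zero, zero_mul, mul_zero, add_zero, zero_add] at h
  have h' : S.o 6 t * S.e 2 0 v = S.e 2 0 v * S.o 6 t * S.e 7 0 (t * σ t * v) * S.o 7 (t * σ t * σ v) *
      S.e 0 (σ t * v) (t * t * σ t * v * σ v) * S.o 0 (t * σ t * v * v) * S.e 1 (t * v) 0 * S.o 1 (t * σ v) := h
  rw [h']
  unfold R
  simp only [mul_assoc]

/-- acting trivially on `Q₂ / Z₀` -/
def Tr (S : Sys σ G) (y : G) : Prop := ∀ α β γ δ ε, ∃ k, y⁻¹ * QTwo.q5 S α β γ δ ε * y = QTwo.q5 S α β k δ ε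

theorem Tr.mul {x y : G} (hx : Tr S x) (hy : Tr S y) : Tr S (x * y) := by
  intro α β γ δ ε
  obtain ⟨k, hk⟩ := hx α β γ δ ε
  obtain ⟨k', hk'⟩ := hy α β k δ ε
  refine ⟨k', ?_⟩
  rw [← hk', ← hk]; group

theorem Tr.of_comm {x : G} (hx : ∀ α β γ δ ε, Commute x (QTwo.q5 S α β γ δ ε)) : Tr S x := by
  intro α β γ δ ε
  exact ⟨γ, conj_comm (hx α β γ δ ε)⟩

theorem tr_q5 (S : Sys σ G) (a b c d e : F) : Tr S (QTwo.q5 S a b c d e) := Tr.of_comm fun _ _ _ _ _ => q5_comm S _ _ _ _ _ _ _ _ _ _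

theorem tr_R (S : Sys σ G) (t v : F) : Tr S (R S t v) := by
  unfold R
  refine ((((Tr.mul ?_ ?_).mul ?_).mul ?_).mul ?_).mul ?_
  · rw [z7_eq]; exact tr_q5 S _ _ _ _ _
  · rw [o7_eq]; exact tr_q5 S _ _ _ _ _
  · exact Tr.of_comm fun _ _ _ _ _ => q5_e0 S _ _ _ _ _ _ _
  · rw [o0_eq]; exact tr_q5 S _ _ _ _ _
  · exact fun _ _ _ _ _ => ⟨_, q5_e1 S _ _ _ _ _ _ _⟩
  · exact fun _ _ _ _ _ => ⟨_, q5_o1 S _ _ _ _ _ _⟩

theorem q5_o6 (S : Sys σ G) (α β γ δ ε t : F) : (S.o 6 t)⁻¹ * QTwo.q5 S α β γ δ ε * S.o 6 t = QTwo.q5 S α β (γ + ε * t) δ ε := by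
  obtain ⟨S', M⟩ := exists_mirror S
  rw [← M.o1, ← M.q5, q5_o1, M.q5]

/-- the defect of `R` -/
theorem dlt_R (N : Nn S dl n) (h1 : ∀ s, Commute n (S.o 1 s)) (he : ∀ p u, Commute n (S.e 1 p u)) {t v h1' h2' h3' h4' h5' : F}
    (hh : dlt n (S.e 0 (σ t * v) (t * t * σ t * v * σ v)) = QTwo.q5 S h1' h2' h3' h4' h5') :
    ∃ k, dlt n (R S t v) = QTwo.q5 S h1' h2' k h4' h5' := by
  have e1 : dlt n (R S t v) = (S.o 1 (t * σ v))⁻¹ * ((S.e 1 (t * v) 0)⁻¹ * ((S.o 0 (t * σ t * v * v))⁻¹ *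
      QTwo.q5 S h1' h2' h3' h4' h5' * S.o 0 (t * σ t * v * v)) * S.e 1 (t * v) 0) * S.o 1 (t * σ v) := by
    unfold R
    rw [dlt_mul, dlt_mul, dlt_mul, dlt_mul, dlt_mul, hh, dlt_eq_one (h1 _), dlt_eq_one (he _ _), dlt_eq_one (N.o0 _),
      dlt_eq_one (N.o7 _), dlt_eq_one (N.z7 _)]
    simp only [mul_one, inv_mul_cancel, one_mul]
  rw [e1, o0_eq, conj_comm (q5_comm S _ _ _ _ _ _ _ _ _ _), q5_e1, q5_o1]
  exact ⟨_, rfl⟩

theorem e0_split (S : Sys σ G) (p u : F) : S.e 0 p u = S.e 0 p 0 * S.e 0 0 u := by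
  rw [S.e_mul, map_zero, mul_zero, add_zero, add_zero, zero_add]

theorem dlt_e0 (N : Nn S dl n) (p u : F) : dlt n (S.e 0 p u) = dlt n (S.e 0 p 0) := by
  obtain ⟨a, b, c, d, e, hk⟩ := N.qe0 p 0
  rw [e0_split, dlt_mul, dlt_eq_one (N.z0 u), mul_one, hk]
  exact conj_comm (q5_e0 S _ _ _ _ _ _ _)

/-- **(e)** -/
theorem e0 (N : Nn S dl n) (I : _root_.Cfsg.Agent.OddHalf.D4.TwF.Field.Inv σ τ) (hU : Uniq S) (h1 : ∀ s, Commute n (S.o 1 s))
    (he : ∀ p u, Commute n (S.e 1 p u)) {c : F} (h6 : ∀ t, dlt n (S.o 6 t) = S.e 7 0 (c * t)) :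
    c = 0 ∧ ∀ p, ∃ h, ∀ u, dlt n (S.e 0 p u) = S.e 0 0 h := by
  have key : ∀ t v, ∃ h, dlt n (S.e 0 (σ t * v) 0) = QTwo.q5 S 0 0 h (c * t * v) (c * t * σ v) := by
    intro t v
    obtain ⟨b1, b2, b3, b4, b5, hb⟩ := N.qe0 (σ t * v) (t * t * σ t * v * σ v)
    obtain ⟨k1, k2, k3, k4, k5, hk⟩ := N.qe2 0 v
    obtain ⟨m, hm⟩ := N.dlt_R h1 he hb
    have h := rel (n := n) (R_rel S t v)
    rw [hm, hk, h6, z7_eq, q5_z2, q5_mul, q5_o6, q5_mul] at h
    obtain ⟨m', hm'⟩ := tr_R S t v (k1 + c * t) (k2 + 0) (k3 + k5 * t + 0) (k4 + 0) (k5 + 0)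
    rw [hm', q5_mul] at h
    obtain ⟨e1, e2, -, e4, e5⟩ := hU _ _ _ _ _ _ _ _ _ _ h
    have f1 : b1 = 0 := by
      have : b1 = (k1 + c * t + b1) + (c * t + k1) := by
        rw [add_comm (c * t) k1]; rw [two_add]
      rw [this, ← e1, add_self]
    have f2 : b2 = 0 := by
      have : b2 = (k2 + 0 + b2) + k2 := by rw [add_zero, two_add]
      rw [this, ← e2, zero_add, add_self]
    have f4 : b4 = c * t * v := by
      have : b4 = (k4 + 0 + b4) + k4 := by rw [add_zero, two_add]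
      rw [this, ← e4, zero_add, add_assoc, add_self, add_zero]
    have f5 : b5 = c * t * σ v := by
      have : b5 = (k5 + 0 + b5) + k5 := by rw [add_zero, two_add]
      rw [this, ← e5]
      have : 0 + 0 * v + c * t * σ v + k5 + k5 = c * t * σ v + (k5 + k5) := by ring
      rw [this, add_self, add_zero]
    rw [f1, f2, f4, f5, N.dlt_e0] at hb
    exact ⟨_, hb⟩
  have hc : c = 0 := by
    obtain ⟨l, hl0, hl1, hl⟩ := exists_mov I
    have hσl : σ l ≠ 0 := (map_ne_zero σ).mpr hl0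
    obtain ⟨h, hh⟩ := key 1 1
    obtain ⟨h', hh'⟩ := key l (σ l)⁻¹
    rw [mul_inv_cancel₀ hσl] at hh'
    rw [map_one, mul_one] at hh
    rw [hh] at hh'
    obtain ⟨-, -, -, e4, -⟩ := hU _ _ _ _ _ _ _ _ _ _ hh'
    rw [mul_one] at e4
    have e5 : c * (σ l + l) = 0 := by
      have : c * σ l = c * l := by
        calc c * σ l = (c * 1) * σ l := by ring
          _ = (c * l * (σ l)⁻¹) * σ l := by rw [e4]
          _ = c * l := by rw [mul_assoc, inv_mul_cancel₀ hσl, mul_one]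
      rw [mul_add, this, add_self]
    rcases mul_eq_zero.mp e5 with h7 | h7
    · exact h7
    · exact absurd (eq_of_add h7) hl
  refine ⟨hc, fun p => ?_⟩
  obtain ⟨h, hh⟩ := key 1 p
  rw [map_one, one_mul, hc, zero_mul, zero_mul, zero_mul] at hh
  refine ⟨h, fun u => ?_⟩
  rw [N.dlt_e0, hh, z0_eq]

/-- **(f)** -/
theorem z2 (N : Nn S dl n) (D : Dl S dl) (I : _root_.Cfsg.Agent.OddHalf.D4.TwF.Field.Inv σ τ) (hU : Uniq S) (h1 : ∀ s, Commute n (S.o 1 s))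
    (he : ∀ p u, Commute n (S.e 1 p u)) : ∃ e : F, ∀ v, dlt n (S.e 2 0 v) = S.e 1 0 (e * τ v) := by
  have h2 : ∀ v, ∃ γ δ ε, dlt n (S.e 2 0 v) = QTwo.q5 S 0 0 γ δ ε := by
    intro v
    obtain ⟨α, β, γ, δ, ε, hk⟩ := N.qe2 0 v
    have hα : α = 0 := by
      have hc : S.e 2 0 v * S.o 1 1 = S.o 1 1 * S.e 2 0 v * 1 := by
        rw [mul_one]; exact (o_e1' S 1 1 0 v).symm
      have h := rel (n := n) hc
      rw [hk, dlt_eq_one (h1 _), dlt_eq_one (Commute.one_right n), q5_o1] at h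
      simp only [mul_one, inv_mul_cancel, one_mul, inv_one] at h
      obtain ⟨-, -, e3, -, -⟩ := hU _ _ _ _ _ _ _ _ _ _ h
      exact add_eq_left.mp e3
    have hβ : β = 0 := by
      have hc : S.e 2 0 v * S.e 1 1 0 = S.e 1 1 0 * S.e 2 0 v * 1 := by
        rw [mul_one]; exact (e_z1 S 1 1 0 v).symm
      have h := rel (n := n) hc
      rw [hk, dlt_eq_one (he _ _), dlt_eq_one (Commute.one_right n), q5_e1] at h
      simp only [mul_one, inv_mul_cancel, one_mul, inv_one] at h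
      obtain ⟨-, -, e3, -, -⟩ := hU _ _ _ _ _ _ _ _ _ _ h
      exact add_eq_left.mp e3
    subst hα hβ
    exact ⟨γ, δ, ε, hk⟩
  choose γ δ ε h3 using h2
  have hadd : ∀ s s', γ (s + s') = γ s + γ s' ∧ δ (s + s') = δ s + δ s' ∧ ε (s + s') = ε s + ε s' := by
    intro s s'
    have h := dlt_mul n (S.e 2 0 s) (S.e 2 0 s')
    rw [z_mul, h3, h3, h3, q5_z2, q5_mul] at h
    simp only [map_zero, zero_mul, add_zero] at h
    obtain ⟨-, -, h4, h5, h6⟩ := hU _ _ _ _ _ _ _ _ _ _ h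
    exact ⟨h4, h5, h6⟩
  have hw : ∀ (d : Fˣ) s, γ (σ d * (d * d) * s) = γ s ∧ δ (σ d * (d * d) * s) = d * δ s ∧
      ε (σ d * (d * d) * s) = d * σ d * ε s := by
    intro d s
    have h := dlt_conj (N.dl d) (S.e 2 0 s)
    rw [D.z2, h3, h3, D.q5] at h
    obtain ⟨-, -, h4, h5, h6⟩ := hU _ _ _ _ _ _ _ _ _ _ h
    exact ⟨h4, h5, h6⟩
  have h4 := weight_inv_two I (fun x y => (hadd x y).1) (fun d x => (hw d x).1)
  have h5 := weight_zero_two I (fun x y => (hadd x y).2.1) (fun d x => (hw d x).2.1)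
  have h6 := weight_tau I (fun x y => (hadd x y).2.2) (fun d x => (hw d x).2.2)
  refine ⟨ε 1, fun v => ?_⟩
  rw [h3, h4, h5, h6, z1_eq]

/-- **(g)** -/
theorem e0' (N : Nn S dl n) (h1 : ∀ s, Commute n (S.o 1 s))
    (h6 : ∀ s, Commute n (S.o 6 s)) (he : ∀ p u, Commute n (S.e 1 p u)) {e : F}
    (h2 : ∀ v, dlt n (S.e 2 0 v) = S.e 1 0 (e * τ v))
    (h0 : ∀ p, ∃ h, ∀ u, dlt n (S.e 0 p u) = S.e 0 0 h) (p u : F) : dlt n (S.e 0 p u) = S.e 0 0 (e * τ p) := by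
  obtain ⟨b, hb⟩ := h0 p
  rw [hb]
  have h := rel (n := n) (R_rel S 1 p)
  have hR1 : Commute (R S 1 p) (S.e 1 0 (e * τ p)) := by
    unfold R
    exact (((((c7z1 S _ _).mul_left (co7z1 S _ _)).mul_left (e_z1 S 0 _ _ _)).mul_left (co0z1 S _ _)).mul_left
      (z_ee S 1 _ _ _).symm).mul_left (e_o0' S 1 _ _ _).symm
  have hR0 : Commute (R S 1 p) (S.e 0 0 (e * τ p)) := by
    unfold R
    exact (((((c7z0 S _ _).mul_left (co7z0 S _ _)).mul_left (z_ee S 0 _ _ _).symm).mul_left (c0o0 S _ _).symm).mul_left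
      (z_e1 S 0 _ _ _).symm).mul_left (z_o1 S 0 _ _).symm
  have hdR : dlt n (R S 1 p) = S.e 0 0 b := by
    have hb' : dlt n (S.e 0 (σ 1 * p) (1 * 1 * σ 1 * p * σ p)) = S.e 0 0 b := by
      rw [map_one, one_mul, hb]
    unfold R
    rw [dlt_mul, dlt_mul, dlt_mul, dlt_mul, dlt_mul, hb', dlt_eq_one (h1 _), dlt_eq_one (he _ _), dlt_eq_one (N.o0 _),
      dlt_eq_one (N.o7 _), dlt_eq_one (N.z7 _)]
    simp only [mul_one, inv_mul_cancel, one_mul]
    have hy : (S.e 1 p 0)⁻¹ * S.e 0 0 b * S.e 1 p 0 = S.e 0 0 b := conj_comm (z_e1 S 0 b _ _).symm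
    rw [conj_comm (c0o0 S b _).symm, hy]
    exact conj_comm (z_o1 S 0 b _).symm
  have hx : (S.o 6 1)⁻¹ * S.e 1 0 (e * τ p) * S.o 6 1 = S.e 0 0 (e * τ p) * S.e 1 0 (e * τ p) := by
    rw [z1_eq, q5_o6, z0_eq, q5_mul]
    simp
  rw [hdR, h2, dlt_eq_one (h6 _), hx] at h
  simp only [mul_one, inv_mul_cancel, one_mul] at h
  rw [conj_comm (hR0.mul_right hR1)] at h
  have h7 : S.e 0 0 (e * τ p) * S.e 0 0 b = 1 := by
    have hc : Commute (S.e 1 0 (e * τ p)) (S.e 0 0 b) := (c0z1 S _ _).symm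
    have h8 : S.e 1 0 (e * τ p) = S.e 0 0 (e * τ p) * S.e 0 0 b * S.e 1 0 (e * τ p) := by
      calc S.e 1 0 (e * τ p) = S.e 0 0 (e * τ p) * S.e 1 0 (e * τ p) * S.e 0 0 b := h
        _ = _ := by rw [mul_assoc, hc.eq, mul_assoc]
    exact (mul_eq_right.mp h8.symm)
  rw [z_mul] at h7
  rw [← e_zero S 0] at h7
  have h8 := (S.injE 0 _ _ _ _ h7).2
  rw [eq_of_add h8]

end Nn

/-- the normal form of the elements `n` -/
structure Nf (S : Sys σ G) (τ : F →+* F) (e : F) (n : G) : Prop where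
  z0 : ∀ u, Commute n (S.e 0 0 u)
  o0 : ∀ t, Commute n (S.o 0 t)
  o7 : ∀ t, Commute n (S.o 7 t)
  o1 : ∀ t, Commute n (S.o 1 t)
  o6 : ∀ t, Commute n (S.o 6 t)
  e1 : ∀ p u, Commute n (S.e 1 p u)
  e7 : ∀ p u, Commute n (S.e 7 p u)
  z2 : ∀ v, dlt n (S.e 2 0 v) = S.e 1 0 (e * τ v)
  z6 : ∀ v, dlt n (S.e 6 0 v) = S.e 7 0 (e * τ v)
  ee : ∀ p u, dlt n (S.e 0 p u) = S.e 0 0 (e * τ p)

/-! ### the normalisation -/

section e0c

variable (S : Sys σ G) (c : F)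

theorem d_o1 (s : F) : dlt (S.e 0 c 0) (S.o 1 s) = S.e 1 0 (c * s) :=
  dlt_of (S.e_o1 0 c 0 s) (e_z1 S 0 c 0 _)

theorem d_o6 (s : F) : dlt (S.e 0 c 0) (S.o 6 s) = S.e 7 0 (s * c) := by
  have h : S.o 6 s * S.e 0 c 0 = S.e 0 c 0 * S.o 6 s * S.e 7 0 (s * c) := S.o_e2 6 s c 0
  rw [dlt_of' h (z_e1 S 7 _ c 0).symm, z_inv]

theorem d_e1 (q v : F) : dlt (S.e 0 c 0) (S.e 1 q v) = S.o 0 (c * q) :=
  dlt_of (S.e_e1 0 c 0 q v) (e_o0' S 0 c 0 _)

theorem d_e7 (q v : F) : dlt (S.e 0 c 0) (S.e 7 q v) = S.o 7 (q * c) := by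
  have h : S.e 7 q v * S.e 0 c 0 = S.e 0 c 0 * S.e 7 q v * S.o 7 (q * c) := S.e_e1 7 q v c 0
  rw [dlt_of' h (o_e1' S 7 _ c 0).symm, o_inv]

theorem d_e0 (q v : F) : dlt (S.e 0 c 0) (S.e 0 q v) = S.e 0 0 (c * σ q + q * σ c) := by
  refine dlt_of ?_ (z_ee S 0 _ c 0).symm
  rw [S.e_mul, S.e_mul, S.e_mul, map_zero, mul_zero, add_zero, add_zero, add_comm c q]
  congr 1
  have : (v + 0 + q * σ c) + (c * σ q + q * σ c) = v + c * σ q + (q * σ c + q * σ c) := by ring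
  rw [this, add_self, add_zero, zero_add]

theorem d_e2 (q v : F) : dlt (S.e 0 c 0) (S.e 2 q v) = 1 := dlt_eq_one (e_e2' S 0 c 0 q v)

theorem d_e6 (q v : F) : dlt (S.e 0 c 0) (S.e 6 q v) = 1 := dlt_eq_one (e_e2' S 6 q v c 0).symm

end e0c

theorem InQ.left {S : Sys σ G} {n x : G} {c : F} (h1 : InQ S (dlt (S.e 0 c 0) x)) (h2 : InQ S (dlt n x)) :
    InQ S (dlt (S.e 0 c 0 * n) x) := by
  rw [dlt_left]
  refine h1.mul ?_
  obtain ⟨a, b, c', d, e, hk⟩ := h2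
  refine ⟨a, b, c', d, e, ?_⟩
  rw [hk, (q5_e0 S a b c' d e c 0).eq, mul_assoc, mul_inv_cancel, mul_one]

theorem Nn.left {S : Sys σ G} {dl : Fˣ → G} {n : G} (N : Nn S dl n) (D : Dl S dl) (c : F) :
    Nn S dl (S.e 0 c 0 * n) where
  z7 u := (z_e1 S 7 u c 0).symm.mul_left (N.z7 u)
  o7 t := (o_e1' S 7 t c 0).symm.mul_left (N.o7 t)
  z0 u := (z_ee S 0 u c 0).symm.mul_left (N.z0 u)
  o0 t := (e_o0' S 0 c 0 t).mul_left (N.o0 t)
  z1 u := (e_z1 S 0 c 0 u).mul_left (N.z1 u)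
  dl d := by
    refine Commute.mul_left ?_ (N.dl d)
    have h := D.e0 d c 0
    show S.e 0 c 0 * dl d = dl d * S.e 0 c 0
    calc S.e 0 c 0 * dl d = (dl d * S.e 0 c 0 * (dl d)⁻¹) * dl d := by rw [h]
      _ = _ := by group
  qo1 s := InQ.left (by rw [d_o1, z1_eq]; exact ⟨_, _, _, _, _, rfl⟩) (N.qo1 s)
  qo6 s := InQ.left (by rw [d_o6, z7_eq]; exact ⟨_, _, _, _, _, rfl⟩) (N.qo6 s)
  qe1 p u := InQ.left (by rw [d_e1, o0_eq]; exact ⟨_, _, _, _, _, rfl⟩) (N.qe1 p u)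
  qe7 p u := InQ.left (by rw [d_e7, o7_eq]; exact ⟨_, _, _, _, _, rfl⟩) (N.qe7 p u)
  qe0 p u := InQ.left (by rw [d_e0, z0_eq]; exact ⟨_, _, _, _, _, rfl⟩) (N.qe0 p u)
  qe2 p u := InQ.left (by rw [d_e2]; exact InQ.one S) (N.qe2 p u)
  qe6 p u := InQ.left (by rw [d_e6]; exact InQ.one S) (N.qe6 p u)

/-- **the normal form** -/
theorem Nn.norm_form {S : Sys σ G} {dl : Fˣ → G} {n : G} (N : Nn S dl n) (D : Dl S dl) (I : _root_.Cfsg.Agent.OddHalf.D4.TwF.Field.Inv σ τ) (hU : Uniq S) :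
    ∃ c e : F, Nf S τ e (S.e 0 c 0 * n) := by
  obtain ⟨c, hc⟩ := N.o1 D I hU
  have N' := N.left D c
  have h1 : ∀ s, Commute (S.e 0 c 0 * n) (S.o 1 s) := by
    intro s
    apply comm_of_dlt
    have e1 : S.e 0 c 0 * S.e 1 0 (c * s) * (S.e 0 c 0)⁻¹ = S.e 1 0 (c * s) := by
      have e2 : S.e 0 c 0 * S.e 1 0 (c * s) = S.e 1 0 (c * s) * S.e 0 c 0 := e_z1 S 0 c 0 (c * s)
      rw [e2, mul_assoc, mul_inv_cancel, mul_one]
    rw [dlt_left, d_o1, hc, e1]
    exact z_sq S 1 _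
  obtain ⟨S', M⟩ := exists_mirror S
  have D' := D.mirror M
  have N'' := N'.mirror M
  have hU' := M.uniq hU
  have he := N'.e1 D I hU h1
  obtain ⟨c', hc'⟩ := N''.o1 D' I hU'
  have hc'' : ∀ t, dlt (S.e 0 c 0 * n) (S.o 6 t) = S.e 7 0 (c' * t) := by
    intro t
    have := hc' t
    rwa [M.o1, M.e1] at this
  obtain ⟨hc0, h0⟩ := N'.e0 I hU h1 he hc''
  have h6 : ∀ s, Commute (S.e 0 c 0 * n) (S.o 6 s) := by
    intro s
    apply comm_of_dlt
    rw [hc'', hc0, zero_mul, e_zero]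
  have h1' : ∀ s, Commute (S.e 0 c 0 * n) (S'.o 1 s) := fun s => by rw [M.o1]; exact h6 s
  have h6' : ∀ s, Commute (S.e 0 c 0 * n) (S'.o 6 s) := fun s => by rw [M.o6]; exact h1 s
  have he' := N''.e1 D' I hU' h1'
  obtain ⟨e, hz2⟩ := N'.z2 D I hU h1 he
  obtain ⟨e', hz2'⟩ := N''.z2 D' I hU' h1' he'
  have hee := N'.e0' h1 h6 he hz2 h0
  have h0' : ∀ p, ∃ h, ∀ u, dlt (S.e 0 c 0 * n) (S'.e 0 p u) = S'.e 0 0 h := by
    intro p
    obtain ⟨h, hh⟩ := h0 p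
    exact ⟨h, fun u => by rw [M.e0, M.e0]; exact hh u⟩
  have hee' := N''.e0' h1' h6' he' hz2' h0'
  have hE : e' = e := by
    have h2 := hee 1 0
    have h3 := hee' 1 0
    rw [M.e0, M.e0] at h3
    rw [h2] at h3
    have h4 := (S.injE 0 _ _ _ _ h3).2
    rw [map_one, mul_one, mul_one] at h4
    exact h4.symm
  refine ⟨c, e, N'.z0, N'.o0, N'.o7, h1, h6, he, fun p u => ?_, hz2, fun v => ?_, hee⟩
  · have := he' p u
    rwa [M.e1] at this
  · have := hz2' v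
    rw [M.e2, M.e1, hE] at this
    exact this

end Cfsg.Agent.OddHalf.D4.TwF.Norm

end

-- merged: Cfsg.Agent.OddHalf.D4.TwF.MkFam
section

/-!
# ODD D4, `K = ²F₄(q)`: from one element `n` to the family `Fam`
-/

set_option autoImplicit false
set_option linter.unusedSectionVars false

namespace Cfsg.Agent.OddHalf.D4.TwF.MkFam

open Cfsg.Agent.KFacts.TwF4 Cfsg.Agent.OddHalf.D4.TwF.Field Cfsg.Agent.OddHalf.D4.TwF.End
open Cfsg.Agent.OddHalf.D4.TwF.QTwo Cfsg.Agent.OddHalf.D4.TwF.Mir Cfsg.Agent.OddHalf.D4.TwF.Norm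

variable {F : Type*} [Field F] [CharP F 2] {σ τ : F →+* F} {G : Type*} [Group G]

/-- the torus centralising the Levi factor -/
structure Hx (S : Sys σ G) (hx : Fˣ → G) : Prop where
  e0 : ∀ x p u, hx x * S.e 0 p u * (hx x)⁻¹ = S.e 0 (σ x * p) (σ x * (x * x) * u)
  o0 : ∀ x t, hx x * S.o 0 t * (hx x)⁻¹ = S.o 0 (x * σ x * t)
  o7 : ∀ x t, hx x * S.o 7 t * (hx x)⁻¹ = S.o 7 (x * σ x * t)
  o1 : ∀ x t, hx x * S.o 1 t * (hx x)⁻¹ = S.o 1 (x * t)
  o6 : ∀ x t, hx x * S.o 6 t * (hx x)⁻¹ = S.o 6 (x * t)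
  e1 : ∀ x p u, hx x * S.e 1 p u * (hx x)⁻¹ = S.e 1 (x * p) (x * σ x * u)
  e7 : ∀ x p u, hx x * S.e 7 p u * (hx x)⁻¹ = S.e 7 (x * p) (x * σ x * u)
  e2 : ∀ x p u, hx x * S.e 2 p u * (hx x)⁻¹ = S.e 2 p u
  e6 : ∀ x p u, hx x * S.e 6 p u * (hx x)⁻¹ = S.e 6 p u

theorem commute_conj {G : Type*} [Group G] {n y : G} (h : G) (hc : Commute n y) :
    Commute (h * n * h⁻¹) (h * y * h⁻¹) := by
  show h * n * h⁻¹ * (h * y * h⁻¹) = h * y * h⁻¹ * (h * n * h⁻¹)
  calc h * n * h⁻¹ * (h * y * h⁻¹) = h * (n * y) * h⁻¹ := by group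
    _ = h * (y * n) * h⁻¹ := by rw [hc.eq]
    _ = _ := by group

theorem dlt_conj' {G : Type*} [Group G] (h n y : G) : dlt (h * n * h⁻¹) (h * y * h⁻¹) = h * dlt n y * h⁻¹ := by
  unfold dlt; group

/-- `m` behaves as `n₀(w)` -/
structure Bs (S : Sys σ G) (A : Subgroup G) (μ : G → F) (τ : F →+* F) (e0 w : F) (m : G) : Prop where
  z0 : ∀ u, Commute m (S.e 0 0 u)
  o0 : ∀ t, Commute m (S.o 0 t)
  o7 : ∀ t, Commute m (S.o 7 t)
  o1 : ∀ t, Commute m (S.o 1 t)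
  o6 : ∀ t, Commute m (S.o 6 t)
  e1 : ∀ p u, Commute m (S.e 1 p u)
  e7 : ∀ p u, Commute m (S.e 7 p u)
  z2 : ∀ v, dlt m (S.e 2 0 v) = S.e 1 0 (e0 * τ (w * v))
  z6 : ∀ v, dlt m (S.e 6 0 v) = S.e 7 0 (e0 * τ (w * v))
  ee : ∀ p u, dlt m (S.e 0 p u) = S.e 0 0 (e0 * τ (w * p))
  act : ∀ r ∈ A, r⁻¹ * m * r = m * S.e 0 0 (μ r * w)

theorem bs_zero (S : Sys σ G) (A : Subgroup G) (μ : G → F) (τ : F →+* F) (e0 : F) : Bs S A μ τ e0 0 1 where
  z0 _ := Commute.one_left _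
  o0 _ := Commute.one_left _
  o7 _ := Commute.one_left _
  o1 _ := Commute.one_left _
  o6 _ := Commute.one_left _
  e1 _ _ := Commute.one_left _
  e7 _ _ := Commute.one_left _
  z2 v := by rw [zero_mul, map_zero, mul_zero, e_zero, dlt_eq_one (Commute.one_left _)]
  z6 v := by rw [zero_mul, map_zero, mul_zero, e_zero, dlt_eq_one (Commute.one_left _)]
  ee p u := by rw [zero_mul, map_zero, mul_zero, e_zero, dlt_eq_one (Commute.one_left _)]
  act r _ := by rw [mul_zero, e_zero]; group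

/-- conjugation by the torus -/
theorem bs_conj {S : Sys σ G} {A : Subgroup G} {μ : G → F} {e w0 : F} {n : G} {hx : Fˣ → G} (N : Nf S τ e n)
    (I : _root_.Cfsg.Agent.OddHalf.D4.TwF.Field.Inv σ τ) (Hh : Hx S hx) (hA : ∀ r ∈ A, ∀ x, Commute r (hx x)) (hw0 : w0 ≠ 0)
    (act : ∀ r ∈ A, r⁻¹ * n * r = n * S.e 0 0 (μ r * w0)) (x : Fˣ) {w : F} (hw : σ x * (x * x) * w0 = w) :
    Bs S A μ τ (e / τ w0) w (hx x * n * (hx x)⁻¹) := by
  have hx0 : (x : F) ≠ 0 := x.ne_zero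
  have hσx : σ (x : F) ≠ 0 := (map_ne_zero σ).mpr hx0
  have hτ : τ w0 ≠ 0 := (map_ne_zero τ).mpr hw0
  have hτw : ∀ v, e / τ w0 * τ (w * v) = x * σ x * (e * τ v) := by
    intro v
    rw [← hw, map_mul, map_mul, map_mul, I.l, I.τ_sq]
    field_simp
  have k1 : ∀ t, S.o 1 t = hx x * S.o 1 ((x : F)⁻¹ * t) * (hx x)⁻¹ := by
    intro t; rw [Hh.o1, mul_inv_cancel_left₀ hx0]
  have k6 : ∀ t, S.o 6 t = hx x * S.o 6 ((x : F)⁻¹ * t) * (hx x)⁻¹ := by
    intro t; rw [Hh.o6, mul_inv_cancel_left₀ hx0]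
  have hxx : (x : F) * σ x ≠ 0 := mul_ne_zero hx0 hσx
  have k0 : ∀ t, S.o 0 t = hx x * S.o 0 (((x : F) * σ x)⁻¹ * t) * (hx x)⁻¹ := by
    intro t; rw [Hh.o0, mul_inv_cancel_left₀ hxx]
  have k7 : ∀ t, S.o 7 t = hx x * S.o 7 (((x : F) * σ x)⁻¹ * t) * (hx x)⁻¹ := by
    intro t; rw [Hh.o7, mul_inv_cancel_left₀ hxx]
  have l1 : ∀ p u, S.e 1 p u = hx x * S.e 1 ((x : F)⁻¹ * p) (((x : F) * σ x)⁻¹ * u) * (hx x)⁻¹ := by
    intro p u; rw [Hh.e1, mul_inv_cancel_left₀ hx0, mul_inv_cancel_left₀ hxx]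
  have l7 : ∀ p u, S.e 7 p u = hx x * S.e 7 ((x : F)⁻¹ * p) (((x : F) * σ x)⁻¹ * u) * (hx x)⁻¹ := by
    intro p u; rw [Hh.e7, mul_inv_cancel_left₀ hx0, mul_inv_cancel_left₀ hxx]
  have hx2 : σ (x : F) * (x * x) ≠ 0 := mul_ne_zero hσx (mul_ne_zero hx0 hx0)
  have l0 : ∀ p u, S.e 0 p u = hx x * S.e 0 ((σ (x : F))⁻¹ * p) ((σ (x : F) * (x * x))⁻¹ * u) * (hx x)⁻¹ := by
    intro p u; rw [Hh.e0, mul_inv_cancel_left₀ hσx, mul_inv_cancel_left₀ hx2]
  refine ⟨fun u => ?_, fun t => ?_, fun t => ?_, fun t => ?_, fun t => ?_, fun p u => ?_, fun p u => ?_, fun v => ?_,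
    fun v => ?_, fun p u => ?_, fun r hr => ?_⟩
  · rw [l0, mul_zero]; exact commute_conj _ (N.z0 _)
  · rw [k0]; exact commute_conj _ (N.o0 _)
  · rw [k7]; exact commute_conj _ (N.o7 _)
  · rw [k1]; exact commute_conj _ (N.o1 _)
  · rw [k6]; exact commute_conj _ (N.o6 _)
  · rw [l1]; exact commute_conj _ (N.e1 _ _)
  · rw [l7]; exact commute_conj _ (N.e7 _ _)
  · rw [hτw]
    have : S.e 2 0 v = hx x * S.e 2 0 v * (hx x)⁻¹ := (Hh.e2 x 0 v).symm
    rw [this, dlt_conj', N.z2, Hh.e1, mul_zero]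
  · rw [hτw]
    have : S.e 6 0 v = hx x * S.e 6 0 v * (hx x)⁻¹ := (Hh.e6 x 0 v).symm
    rw [this, dlt_conj', N.z6, Hh.e7, mul_zero]
  · rw [hτw, l0, dlt_conj', N.ee, Hh.e0, mul_zero]
    congr 1
    rw [map_mul, map_inv₀, I.l]
    field_simp
  · have h1 := hA r hr x
    have h2 : r⁻¹ * hx x = hx x * r⁻¹ := h1.inv_left.eq
    have h3 : (hx x)⁻¹ * r = r * (hx x)⁻¹ := h1.inv_right.eq.symm
    calc r⁻¹ * (hx x * n * (hx x)⁻¹) * r = (r⁻¹ * hx x) * n * ((hx x)⁻¹ * r) := by group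
      _ = hx x * (r⁻¹ * n * r) * (hx x)⁻¹ := by rw [h2, h3]; group
      _ = hx x * n * (hx x)⁻¹ * (hx x * S.e 0 0 (μ r * w0) * (hx x)⁻¹) := by rw [act r hr]; group
      _ = _ := by
        rw [Hh.e0, mul_zero, ← hw]
        congr 2
        ring

/-! ### rotation -/

theorem rotn_o (S : Sys σ G) (n : ℕ) : ∀ (a : ZMod 8) (t : F), S.rot ^ n * S.o a t * (S.rot ^ n)⁻¹ = S.o (a + n) t := by
  induction n with
  | zero => intro a t; simp
  | succ n ih =>
    intro a t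
    have : S.rot ^ (n + 1) * S.o a t * (S.rot ^ (n + 1))⁻¹ = S.rot ^ n * (S.rot * S.o a t * S.rot⁻¹) * (S.rot ^ n)⁻¹ := by
      rw [pow_succ]; group
    rw [this, S.rot_o, ih]
    congr 1
    push_cast; ring

theorem rotn_e (S : Sys σ G) (n : ℕ) : ∀ (a : ZMod 8) (p u : F), S.rot ^ n * S.e a p u * (S.rot ^ n)⁻¹ = S.e (a + n) p u := by
  induction n with
  | zero => intro a p u; simp
  | succ n ih =>
    intro a p u
    have : S.rot ^ (n + 1) * S.e a p u * (S.rot ^ (n + 1))⁻¹ =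
        S.rot ^ n * (S.rot * S.e a p u * S.rot⁻¹) * (S.rot ^ n)⁻¹ := by
      rw [pow_succ]; group
    rw [this, S.rot_e, ih]
    congr 1
    push_cast; ring

/-- rotation by `a` -/
def rp (S : Sys σ G) (a : ZMod 8) : G := S.rot ^ a.val

theorem rp_o (S : Sys σ G) (a b c : ZMod 8) (h : b + a = c) (t : F) : rp S a * S.o b t * (rp S a)⁻¹ = S.o c t := by
  unfold rp
  rw [rotn_o, ZMod.natCast_zmod_val, h]

theorem rp_e (S : Sys σ G) (a b c : ZMod 8) (h : b + a = c) (p u : F) : rp S a * S.e b p u * (rp S a)⁻¹ = S.e c p u := by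
  unfold rp
  rw [rotn_e, ZMod.natCast_zmod_val, h]

/-- **the family** -/
theorem fam_of_base {S : Sys σ G} {A : Subgroup G} {μ : G → F} {e0 : F} {m : F → G}
    (hm : ∀ w, Bs S A μ τ e0 w (m w)) (hAo : ∀ r ∈ A, ∀ a t, Commute r (S.o a t))
    (hAe : ∀ r ∈ A, ∀ a p u, Commute r (S.e a p u)) (hAr : ∀ r ∈ A, Commute r S.rot) :
    Fam S A μ τ e0 (fun a w => rp S a * m w * (rp S a)⁻¹) where
  A_o := hAo
  A_e := hAe
  act a w r hr := by
    have h1 : Commute r (rp S a) := (hAr r hr).pow_right _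
    have h2 : r⁻¹ * rp S a = rp S a * r⁻¹ := h1.inv_left.eq
    have h3 : (rp S a)⁻¹ * r = r * (rp S a)⁻¹ := h1.inv_right.eq.symm
    calc r⁻¹ * (rp S a * m w * (rp S a)⁻¹) * r = (r⁻¹ * rp S a) * m w * ((rp S a)⁻¹ * r) := by group
      _ = rp S a * (r⁻¹ * m w * r) * (rp S a)⁻¹ := by rw [h2, h3]; group
      _ = rp S a * m w * (rp S a)⁻¹ * (rp S a * S.e 0 0 (μ r * w) * (rp S a)⁻¹) := by rw [(hm w).act r hr]; group
      _ = _ := by rw [rp_e S a 0 a (zero_add a)]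
  c_z a w u := by
    rw [← rp_e S a 0 a (zero_add a)]; exact commute_conj _ ((hm w).z0 u)
  c_o a w t := by
    rw [← rp_o S a 0 a (zero_add a)]; exact commute_conj _ ((hm w).o0 t)
  c_om a w t := by
    rw [← rp_o S (a + 1) 7 a (by revert a; decide)]; exact commute_conj _ ((hm w).o7 t)
  c_op a w t := by
    rw [← rp_o S a 1 (a + 1) (add_comm 1 a)]; exact commute_conj _ ((hm w).o1 t)
  c_omm a w t := by
    rw [← rp_o S (a + 2) 6 a (by revert a; decide)]; exact commute_conj _ ((hm w).o6 t)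
  c_ep a w p u := by
    rw [← rp_e S a 1 (a + 1) (add_comm 1 a)]; exact commute_conj _ ((hm w).e1 p u)
  c_em a w p u := by
    rw [← rp_e S (a + 1) 7 a (by revert a; decide)]; exact commute_conj _ ((hm w).e7 p u)
  zp a w v := by
    rw [Norm.conj_eq]
    congr 1
    rw [← rp_e S a 2 (a + 2) (add_comm 2 a), dlt_conj', (hm w).z2, rp_e S a 1 (a + 1) (add_comm 1 a)]
  zm a w v := by
    rw [Norm.conj_eq]
    congr 1
    rw [← rp_e S (a + 2) 6 a (by revert a; decide), dlt_conj', (hm w).z6,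
      rp_e S (a + 2) 7 (a + 1) (by revert a; decide)]
  ee a w p u := by
    rw [Norm.conj_eq]
    congr 1
    rw [← rp_e S a 0 a (zero_add a), dlt_conj', (hm w).ee, rp_e S a 0 a (zero_add a)]

/-- **the family, from one element** -/
theorem exists_fam {S : Sys σ G} {A : Subgroup G} {μ : G → F} {dl hx : Fˣ → G} {n : G} {w0 : F} (N : Nn S dl n)
    (D : Dl S dl) (I : _root_.Cfsg.Agent.OddHalf.D4.TwF.Field.Inv σ τ) (hU : Uniq S) (Hh : Hx S hx) (hA : ∀ r ∈ A, ∀ x, Commute r (hx x)) (hw0 : w0 ≠ 0)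
    (act : ∀ r ∈ A, r⁻¹ * n * r = n * S.e 0 0 (μ r * w0)) (hAo : ∀ r ∈ A, ∀ a t, Commute r (S.o a t))
    (hAe : ∀ r ∈ A, ∀ a p u, Commute r (S.e a p u)) (hAr : ∀ r ∈ A, Commute r S.rot) :
    ∃ (e0 : F) (nn : ZMod 8 → F → G), Fam S A μ τ e0 nn := by
  obtain ⟨c, e, N'⟩ := N.norm_form D I hU
  have act' : ∀ r ∈ A, r⁻¹ * (S.e 0 c 0 * n) * r = S.e 0 c 0 * n * S.e 0 0 (μ r * w0) := by
    intro r hr
    have h1 : r⁻¹ * S.e 0 c 0 = S.e 0 c 0 * r⁻¹ := (hAe r hr 0 c 0).inv_left.eq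
    calc r⁻¹ * (S.e 0 c 0 * n) * r = (r⁻¹ * S.e 0 c 0) * n * r := by group
      _ = S.e 0 c 0 * (r⁻¹ * n * r) := by rw [h1]; group
      _ = _ := by rw [act r hr]; group
  have hm : ∀ w, ∃ m, Bs S A μ τ (e / τ w0) w m := by
    intro w
    by_cases hw : w = 0
    · rw [hw]; exact ⟨1, bs_zero S A μ τ _⟩
    · obtain ⟨x, hx1⟩ := exists_two I (div_ne_zero hw hw0)
      exact ⟨_, bs_conj N' I Hh hA hw0 act' x (by rw [hx1, div_mul_cancel₀ _ hw0])⟩
  choose m hm using hm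
  exact ⟨_, _, fam_of_base hm hAo hAe hAr⟩

end Cfsg.Agent.OddHalf.D4.TwF.MkFam

end

-- merged: Cfsg.Agent.OddHalf.D4.TwF.Bone
section

/-!
# ODD D4, `K = ²F₄(q)`: an element `h'` acting as a scalar on `Q₂/Z₀`

`KH`: facts on the parabolic `H`; `Hp`: the hypotheses on `h'`. `exists_n`: `n = (hx a)⁻¹ h'` satisfies `Nn`, for some
`a ≠ 0`, and `h' z₀(u) h'⁻¹ = z₀(σ(a) a² u)`.
-/

set_option autoImplicit false
set_option linter.unusedSectionVars false

namespace Cfsg.Agent.OddHalf.D4.TwF.Bone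

open Cfsg.Agent.KFacts.TwF4 Cfsg.Agent.OddHalf.D4.TwF.Field Cfsg.Agent.OddHalf.D4.TwF.End
open Cfsg.Agent.OddHalf.D4.TwF.QTwo Cfsg.Agent.OddHalf.D4.TwF.Mir Cfsg.Agent.OddHalf.D4.TwF.Norm
open Cfsg.Agent.OddHalf.D4.TwF.MkFam
open scoped commutatorElement

variable {F : Type*} [Field F] [CharP F 2] {σ τ : F →+* F} {G : Type*} [Group G]

/-- acting on `Q₂` modulo `Z₀` trivially, and linearly -/
def Lin (S : Sys σ G) (y : G) : Prop := ∃ l1 l2 l3 l4 : F, ∀ α β γ δ ε, y⁻¹ * q5 S α β γ δ ε * y =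
  q5 S α β (γ + α * l1 + β * l2 + δ * l3 + ε * l4) δ ε

/-- facts on the parabolic subgroup `H` with unipotent radical `Q` -/
structure KH (S : Sys σ G) (H Q : Subgroup G) : Prop where
  uniq : Uniq S
  le : Q ≤ H
  o1 : ∀ t, S.o 1 t ∈ Q
  o6 : ∀ t, S.o 6 t ∈ Q
  o0 : ∀ t, S.o 0 t ∈ Q
  o7 : ∀ t, S.o 7 t ∈ Q
  e0 : ∀ p u, S.e 0 p u ∈ Q
  e1 : ∀ p u, S.e 1 p u ∈ Q
  e7 : ∀ p u, S.e 7 p u ∈ Q
  e2 : ∀ p u, S.e 2 p u ∈ H
  e6 : ∀ p u, S.e 6 p u ∈ H
  cen : ∀ y ∈ H, (∀ α β γ δ ε, Commute y (q5 S α β γ δ ε)) → ∃ p u, InQ S ((S.e 0 p u)⁻¹ * y)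
  nor : ∀ y ∈ H, ∀ x, InQ S x → InQ S (y * x * y⁻¹)
  lin : ∀ y ∈ Q, Lin S y
  e0c : ∀ y ∈ H, ∀ p u, InQ S (⁅(S.e 0 p u)⁻¹, y⁻¹⁆)
  e0n : ∀ p u, InQ S (S.e 0 p u) → p = 0
  perf : ⁅H, H⁆ = H

theorem KH.mirror {S S' : Sys σ G} {H Q : Subgroup G} (k : KH S H Q) (M : Mirror S S') : KH S' H Q where
  uniq := M.uniq k.uniq
  le := k.le
  o1 t := by rw [M.o1]; exact k.o6 t
  o6 t := by rw [M.o6]; exact k.o1 t
  o0 t := by rw [M.o0]; exact k.o7 t
  o7 t := by rw [M.o7]; exact k.o0 t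
  e0 p u := by rw [M.e0]; exact k.e0 p u
  e1 p u := by rw [M.e1]; exact k.e7 p u
  e7 p u := by rw [M.e7]; exact k.e1 p u
  e2 p u := by rw [M.e2]; exact k.e6 p u
  e6 p u := by rw [M.e6]; exact k.e2 p u
  cen y hy h := by
    obtain ⟨p, u, h1⟩ := k.cen y hy (fun α β γ δ ε => by
      have := h ε δ γ β α
      rwa [M.q5] at this)
    exact ⟨p, u, by rw [M.e0]; exact h1.mirror M⟩
  nor y hy x hx := (k.nor y hy x (hx.mirror M.symm)).mirror M
  lin y hy := by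
    obtain ⟨l1, l2, l3, l4, h⟩ := k.lin y hy
    refine ⟨l4, l3, l2, l1, fun α β γ δ ε => ?_⟩
    rw [M.q5, M.q5, h]
    congr 1; ring
  e0c y hy p u := by rw [M.e0]; exact (k.e0c y hy p u).mirror M
  e0n p u h := by
    rw [M.e0] at h
    exact k.e0n p u (h.mirror M.symm)
  perf := k.perf

/-- hypotheses on `h'` -/
structure Hp (S : Sys σ G) (dl : Fˣ → G) (H Q : Subgroup G) (h' : G) : Prop where
  q2 : ∀ x, InQ S x → InQ S (h' * x * h'⁻¹)
  z0 : ∀ u, ∃ v, h' * S.e 0 0 u * h'⁻¹ = S.e 0 0 v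
  dl : ∀ d, Commute h' (dl d)
  HH : ∀ x ∈ H, h' * x * h'⁻¹ ∈ H
  mod : ∀ x ∈ H, dlt h' x ∈ Q
  QQ : ∀ x ∈ Q, h' * x * h'⁻¹ ∈ Q

theorem Hp.mirror {S S' : Sys σ G} {dl : Fˣ → G} {H Q : Subgroup G} {h' : G} (P : Hp S dl H Q h') (M : Mirror S S') :
    Hp S' (fun d => dl d⁻¹) H Q h' where
  q2 x hx := (P.q2 x (hx.mirror M.symm)).mirror M
  z0 u := by
    obtain ⟨v, hv⟩ := P.z0 u
    exact ⟨v, by rw [M.e0, M.e0]; exact hv⟩
  dl d := P.dl d⁻¹
  HH := P.HH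
  mod := P.mod
  QQ := P.QQ

theorem InQ.q5 (S : Sys σ G) (α β γ δ ε : F) : InQ S (QTwo.q5 S α β γ δ ε) := ⟨_, _, _, _, _, rfl⟩

theorem q5_congr (S : Sys σ G) {α α' β β' γ δ δ' ε ε' : F} (h1 : α = α') (h2 : β = β') (h4 : δ = δ') (h5 : ε = ε') :
    QTwo.q5 S α β γ δ ε = QTwo.q5 S α' β' γ δ' ε' := by rw [h1, h2, h4, h5]

namespace Hp

variable {S : Sys σ G} {dl : Fˣ → G} {H Q : Subgroup G} {h' : G}

theorem conj_mul (x y : G) : h' * (x * y) * h'⁻¹ = (h' * x * h'⁻¹) * (h' * y * h'⁻¹) := by group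

theorem conj_conj (x y : G) : h' * (y⁻¹ * x * y) * h'⁻¹ = (h' * y * h'⁻¹)⁻¹ * (h' * x * h'⁻¹) * (h' * y * h'⁻¹) := by group

/-- `h'` on `z₁` -/
theorem z1 (P : Hp S dl H Q h') (k : KH S H Q) (D : Dl S dl) (I : _root_.Cfsg.Agent.OddHalf.D4.TwF.Field.Inv σ τ) :
    ∃ a : F, a ≠ 0 ∧ ∀ u, h' * S.e 1 0 u * h'⁻¹ = S.e 1 0 (a * u) := by
  have h1 : ∀ s, ∃ γ ε, h' * S.e 1 0 s * h'⁻¹ = QTwo.q5 S 0 0 γ 0 ε := by
    intro s
    obtain ⟨α, β, γ, δ, ε, hk⟩ := P.q2 (S.e 1 0 s) (by rw [z1_eq]; exact InQ.q5 S _ _ _ _ _)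
    have : α = 0 ∧ β = 0 ∧ δ = 0 := by
      apply fix_E2 S k.uniq
      intro p u
      have hq := P.mod _ (k.e2 p u)
      obtain ⟨l1, l2, l3, l4, hl⟩ := k.lin _ hq
      have h2 : (S.e 2 p u)⁻¹ * S.e 1 0 s * S.e 2 p u = S.e 1 0 s := conj_comm (z_e1 S 1 s p u).symm
      have h3 := conj_conj (h' := h') (S.e 1 0 s) (S.e 2 p u)
      rw [h2, hk, Norm.conj_eq h' (S.e 2 p u)] at h3
      -- `κ = q⁻¹ (e⁻¹ κ e) q`
      have h4 : InQ S ((S.e 2 p u)⁻¹ * QTwo.q5 S α β γ δ ε * S.e 2 p u) := by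
        have := k.nor _ (H.inv_mem (k.e2 p u)) _ (InQ.q5 S α β γ δ ε)
        rwa [inv_inv] at this
      obtain ⟨a1, a2, a3, a4, a5, ha⟩ := h4
      have h5 : QTwo.q5 S α β γ δ ε = (dlt h' (S.e 2 p u))⁻¹ * QTwo.q5 S a1 a2 a3 a4 a5 * dlt h' (S.e 2 p u) := by
        rw [← ha]
        calc QTwo.q5 S α β γ δ ε = _ := h3
          _ = _ := by group
      rw [hl] at h5
      obtain ⟨e1, e2, e3, e4, e5⟩ := k.uniq _ _ _ _ _ _ _ _ _ _ h5
      refine ⟨γ + a3, ?_⟩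
      rw [ha, z0_eq, q5_mul, e1, e2, e4, e5]
      congr 1
      · rw [add_zero]
      · rw [add_zero]
      · rw [← add_assoc, add_self, zero_add]
      · rw [add_zero]
      · rw [add_zero]
    obtain ⟨rfl, rfl, rfl⟩ := this
    exact ⟨γ, ε, hk⟩
  choose γ ε h2 using h1
  have hadd : ∀ s s', γ (s + s') = γ s + γ s' ∧ ε (s + s') = ε s + ε s' := by
    intro s s'
    have h := conj_mul (h' := h') (S.e 1 0 s) (S.e 1 0 s')
    rw [z_mul, h2, h2, h2, q5_mul] at h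
    obtain ⟨-, -, h3, -, h4⟩ := k.uniq _ _ _ _ _ _ _ _ _ _ h
    exact ⟨h3, h4⟩
  have hw : ∀ (d : Fˣ) s, γ (d * σ d * s) = γ s ∧ ε (d * σ d * s) = d * σ d * ε s := by
    intro d s
    have hd := P.dl d
    have h : h' * (dl d * S.e 1 0 s * (dl d)⁻¹) * h'⁻¹ = dl d * (h' * S.e 1 0 s * h'⁻¹) * (dl d)⁻¹ := by
      have h3 : (dl d)⁻¹ * h'⁻¹ = h'⁻¹ * (dl d)⁻¹ := hd.symm.inv_inv.eq
      calc h' * (dl d * S.e 1 0 s * (dl d)⁻¹) * h'⁻¹ = (h' * dl d) * S.e 1 0 s * ((dl d)⁻¹ * h'⁻¹) := by group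
        _ = _ := by rw [hd.eq, h3]; group
    rw [D.e1, mul_zero, h2, h2, D.q5] at h
    simp only [mul_zero] at h
    obtain ⟨-, -, h3, -, h4⟩ := k.uniq _ _ _ _ _ _ _ _ _ _ h
    exact ⟨h3, h4⟩
  have h3 := weight_inv_one I (fun x y => (hadd x y).1) (fun d x => (hw d x).1)
  have h4 := weight_lin I (fun x y => (hadd x y).2) (fun d x => (hw d x).2)
  have h5 : ∀ u, h' * S.e 1 0 u * h'⁻¹ = S.e 1 0 (ε 1 * u) := by
    intro u
    rw [h2, h3, z1_eq, h4]
  refine ⟨ε 1, fun h0 => ?_, h5⟩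
  have h6 := h5 1
  rw [h0, zero_mul, e_zero] at h6
  have h7 : S.e 1 0 1 = 1 := by
    calc S.e 1 0 1 = h'⁻¹ * (h' * S.e 1 0 1 * h'⁻¹) * h' := by group
      _ = 1 := by rw [h6]; group
  rw [← e_zero S 1] at h7
  exact one_ne_zero (S.injE 1 _ _ _ _ h7).2

/-- `h'` on `z₀`: additive -/
theorem exists_rho (P : Hp S dl H Q h') : ∃ ρ : F → F, ∀ u, h' * S.e 0 0 u * h'⁻¹ = S.e 0 0 (ρ u) := by
  choose ρ hρ using P.z0
  exact ⟨ρ, hρ⟩

/-- `h'` on `o₀` -/
theorem o0 (P : Hp S dl H Q h') (k : KH S H Q) (D : Dl S dl) (I : _root_.Cfsg.Agent.OddHalf.D4.TwF.Field.Inv σ τ) {a a7 : F}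
    (h1 : ∀ u, h' * S.e 1 0 u * h'⁻¹ = S.e 1 0 (a * u)) (h7 : ∀ u, h' * S.e 7 0 u * h'⁻¹ = S.e 7 0 (a7 * u)) :
    a7 = a ∧ ∀ t, h' * S.o 0 t * h'⁻¹ = S.o 0 (a * t) := by
  obtain ⟨ρ, hρ⟩ := P.exists_rho
  have key : ∀ u v, ∃ g, h' * S.o 0 (u * v) * h'⁻¹ = QTwo.q5 S 0 0 g (a7 * u * v) (a7 * u * σ v + a * (u * σ v)) := by
    intro u v
    have hq := P.mod _ (k.e2 0 v)
    obtain ⟨l1, l2, l3, l4, hl⟩ := k.lin _ hq
    have h2 : (S.e 2 0 v)⁻¹ * S.e 7 0 u * S.e 2 0 v = S.e 7 0 u * S.e 0 0 (σ u * v) * S.o 0 (u * v) * S.e 1 0 (u * σ v) := by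
      have := q5_z2 S u 0 0 0 0 v
      rw [← z7_eq] at this
      rw [this]
      unfold QTwo.q5
      rw [o_zero, mul_one, zero_add, zero_add, zero_mul, add_zero, zero_add]
    have h3 := conj_conj (h' := h') (S.e 7 0 u) (S.e 2 0 v)
    rw [h2, h7, Norm.conj_eq h' (S.e 2 0 v)] at h3
    have h4 : (S.e 2 0 v * dlt h' (S.e 2 0 v))⁻¹ * S.e 7 0 (a7 * u) * (S.e 2 0 v * dlt h' (S.e 2 0 v)) =
        (dlt h' (S.e 2 0 v))⁻¹ * ((S.e 2 0 v)⁻¹ * S.e 7 0 (a7 * u) * S.e 2 0 v) * dlt h' (S.e 2 0 v) := by group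
    rw [h4, z7_eq S (a7 * u), q5_z2, hl, conj_mul, conj_mul, conj_mul, h7, hρ, h1] at h3
    set X := h' * S.o 0 (u * v) * h'⁻¹ with hX
    have h5 : X = (S.e 7 0 (a7 * u) * S.e 0 0 (ρ (σ u * v)))⁻¹ *
        (S.e 7 0 (a7 * u) * S.e 0 0 (ρ (σ u * v)) * X * S.e 1 0 (a * (u * σ v))) * (S.e 1 0 (a * (u * σ v)))⁻¹ := by group
    rw [h3, mul_inv_rev, z_inv, z_inv, z_inv, z7_eq, z0_eq, z1_eq, q5_mul, q5_mul, q5_mul] at h5
    refine ⟨_, h5.trans (q5_congr S ?_ ?_ ?_ ?_)⟩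
    · rw [zero_add, add_zero, add_self]
    · simp
    · simp
    · simp only [_root_.add_zero, _root_.MulZeroClass.zero_mul, _root_.zero_add]
  obtain ⟨l, hl0, hl1, hl⟩ := exists_mov I
  have ha : a7 = a := by
    obtain ⟨g, hg⟩ := key 1 1
    obtain ⟨g', hg'⟩ := key l⁻¹ l
    rw [inv_mul_cancel₀ hl0] at hg'
    rw [mul_one, hg'] at hg
    obtain ⟨-, -, -, -, h5⟩ := k.uniq _ _ _ _ _ _ _ _ _ _ hg
    rw [map_one] at h5
    have h6 : (a7 + a) * (σ l + l) = 0 := by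
      have h7 : (a7 + a) * (l⁻¹ * σ l) = a7 + a := by
        calc (a7 + a) * (l⁻¹ * σ l) = a7 * l⁻¹ * σ l + a * (l⁻¹ * σ l) := by ring
          _ = a7 * 1 * 1 + a * (1 * 1) := h5
          _ = _ := by ring
      have h8 : (a7 + a) * σ l = (a7 + a) * l := by
        calc (a7 + a) * σ l = ((a7 + a) * (l⁻¹ * σ l)) * l := by
              rw [mul_assoc, mul_right_comm l⁻¹, inv_mul_cancel₀ hl0, one_mul]
          _ = _ := by rw [h7]
      rw [mul_add, h8, add_self]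
    rcases mul_eq_zero.mp h6 with h7 | h7
    · exact eq_of_add h7
    · exact absurd (eq_of_add h7) hl
  subst ha
  refine ⟨rfl, ?_⟩
  have h5 : ∀ t, ∃ g, h' * S.o 0 t * h'⁻¹ = QTwo.q5 S 0 0 g (a7 * t) 0 := by
    intro t
    obtain ⟨g, hg⟩ := key t 1
    rw [mul_one, mul_one, map_one, mul_one, mul_one, add_self] at hg
    exact ⟨g, hg⟩
  choose g hg using h5
  have hadd : ∀ s s', g (s + s') = g s + g s' := by
    intro s s'
    have h := conj_mul (h' := h') (S.o 0 s) (S.o 0 s')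
    rw [S.o_add, hg, hg, hg, q5_mul] at h
    exact (k.uniq _ _ _ _ _ _ _ _ _ _ h).2.2.1
  have hw : ∀ (d : Fˣ) s, g (d * s) = g s := by
    intro d s
    have hd := P.dl d
    have h : h' * (dl d * S.o 0 s * (dl d)⁻¹) * h'⁻¹ = dl d * (h' * S.o 0 s * h'⁻¹) * (dl d)⁻¹ := by
      have h3 : (dl d)⁻¹ * h'⁻¹ = h'⁻¹ * (dl d)⁻¹ := hd.symm.inv_inv.eq
      calc h' * (dl d * S.o 0 s * (dl d)⁻¹) * h'⁻¹ = (h' * dl d) * S.o 0 s * ((dl d)⁻¹ * h'⁻¹) := by group
        _ = _ := by rw [hd.eq, h3]; group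
    rw [D.o0, hg, hg, D.q5] at h
    exact (k.uniq _ _ _ _ _ _ _ _ _ _ h).2.2.1
  have h6 := weight_inv_zero I hadd hw
  intro t
  rw [hg, h6, o0_eq]

/-- `h'` on `z₀` is a scalar -/
theorem rho (P : Hp S dl H Q h') (k : KH S H Q) {a : F} (h7 : ∀ u, h' * S.e 7 0 u * h'⁻¹ = S.e 7 0 (a * u)) :
    ∃ ρ : F, ρ ≠ 0 ∧ ∀ u, h' * S.e 0 0 u * h'⁻¹ = S.e 0 0 (ρ * u) := by
  obtain ⟨ρ, hρ⟩ := P.exists_rho
  obtain ⟨l1, l2, l3, l4, hl⟩ := k.lin _ (P.QQ _ (k.o1 1))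
  have h2 : ∀ u, ρ u = a * l1 * u := by
    intro u
    have h3 : (S.o 1 1)⁻¹ * S.e 7 0 u * S.o 1 1 = S.e 7 0 u * S.e 0 0 u := by
      rw [z7_eq, q5_o1, z0_eq, q5_mul]; simp
    have h4 := conj_conj (h' := h') (S.e 7 0 u) (S.o 1 1)
    rw [h3, conj_mul, h7, hρ, z7_eq, hl, z0_eq, q5_mul] at h4
    obtain ⟨-, -, h5, -, -⟩ := k.uniq _ _ _ _ _ _ _ _ _ _ h4
    rw [zero_mul, zero_mul, zero_mul, zero_add, zero_add, add_zero, add_zero, add_zero] at h5
    rw [h5]; ring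
  refine ⟨a * l1, fun h0 => ?_, fun u => by rw [hρ, h2]⟩
  have h6 := hρ 1
  rw [h2, h0, zero_mul, e_zero] at h6
  have h7 : S.e 0 0 1 = 1 := by
    calc S.e 0 0 1 = h'⁻¹ * (h' * S.e 0 0 1 * h'⁻¹) * h' := by group
      _ = 1 := by rw [h6]; group
  rw [← e_zero S 0] at h7
  exact one_ne_zero (S.injE 0 _ _ _ _ h7).2

/-- two elements of `H` with the same action on `Q₂` -/
theorem same_act (k : KH S H Q) {x y : G} (hx : x ∈ H) (hy : y ∈ H)
    (h : ∀ α β γ δ ε, x⁻¹ * QTwo.q5 S α β γ δ ε * x = y⁻¹ * QTwo.q5 S α β γ δ ε * y) :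
    ∃ p u, InQ S ((S.e 0 p u)⁻¹ * (y⁻¹ * x)) := by
  apply k.cen _ (H.mul_mem (H.inv_mem hy) hx)
  intro α β γ δ ε
  obtain ⟨a1, a2, a3, a4, a5, ha⟩ := k.nor y hy _ (InQ.q5 S α β γ δ ε)
  have h1 := h a1 a2 a3 a4 a5
  rw [← ha] at h1
  show y⁻¹ * x * QTwo.q5 S α β γ δ ε = QTwo.q5 S α β γ δ ε * (y⁻¹ * x)
  calc y⁻¹ * x * QTwo.q5 S α β γ δ ε = y⁻¹ * x * (y⁻¹ * (y * QTwo.q5 S α β γ δ ε * y⁻¹) * y) := by group
    _ = y⁻¹ * x * (x⁻¹ * (y * QTwo.q5 S α β γ δ ε * y⁻¹) * x) := by rw [h1]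
    _ = _ := by group

/-- `h'` on `Q₂` -/
theorem on_q5 {a ρ : F} (h1 : ∀ u, h' * S.e 1 0 u * h'⁻¹ = S.e 1 0 (a * u))
    (h7 : ∀ u, h' * S.e 7 0 u * h'⁻¹ = S.e 7 0 (a * u)) (h0 : ∀ t, h' * S.o 0 t * h'⁻¹ = S.o 0 (a * t))
    (h7' : ∀ t, h' * S.o 7 t * h'⁻¹ = S.o 7 (a * t)) (hρ : ∀ u, h' * S.e 0 0 u * h'⁻¹ = S.e 0 0 (ρ * u))
    (α β γ δ ε : F) : h' * QTwo.q5 S α β γ δ ε * h'⁻¹ = QTwo.q5 S (a * α) (a * β) (ρ * γ) (a * δ) (a * ε) := by
  unfold QTwo.q5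
  rw [← h1, ← h7, ← h0, ← h7', ← hρ]; group

/-- `h'` on `o₁` modulo `Q₁` -/
theorem on_o1 (P : Hp S dl H Q h') (k : KH S H Q) {a ρ : F} (ha : a ≠ 0) (hρ0 : ρ ≠ 0)
    (hq : ∀ α β γ δ ε, h' * QTwo.q5 S α β γ δ ε * h'⁻¹ = QTwo.q5 S (a * α) (a * β) (ρ * γ) (a * δ) (a * ε)) :
    ∃ p u, InQ S ((S.e 0 p u)⁻¹ * ((S.o 1 (ρ / a))⁻¹ * (h' * S.o 1 1 * h'⁻¹))) := by
  refine same_act k (k.le (P.QQ _ (k.o1 1))) (k.le (k.o1 _)) ?_
  intro α β γ δ ε
  have h1 : QTwo.q5 S α β γ δ ε = h' * QTwo.q5 S (a⁻¹ * α) (a⁻¹ * β) (ρ⁻¹ * γ) (a⁻¹ * δ) (a⁻¹ * ε) * h'⁻¹ := by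
    rw [hq, mul_inv_cancel_left₀ ha, mul_inv_cancel_left₀ ha, mul_inv_cancel_left₀ ha, mul_inv_cancel_left₀ ha,
      mul_inv_cancel_left₀ hρ0]
  have h2 : (h' * S.o 1 1 * h'⁻¹)⁻¹ * QTwo.q5 S α β γ δ ε * (h' * S.o 1 1 * h'⁻¹) =
      h' * ((S.o 1 1)⁻¹ * QTwo.q5 S (a⁻¹ * α) (a⁻¹ * β) (ρ⁻¹ * γ) (a⁻¹ * δ) (a⁻¹ * ε) * S.o 1 1) * h'⁻¹ := by
    rw [h1]; group
  rw [h2, q5_o1, hq, q5_o1]
  congr 1
  · rw [mul_inv_cancel_left₀ ha]
  · rw [mul_inv_cancel_left₀ ha]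
  · rw [mul_one, mul_add, mul_inv_cancel_left₀ hρ0]
    field_simp
  · rw [mul_inv_cancel_left₀ ha]
  · rw [mul_inv_cancel_left₀ ha]

theorem o1_e0 (c p u : F) : (S.o 1 c)⁻¹ * S.e 0 p u * S.o 1 c = S.e 0 p u * S.e 1 0 (p * c) := by
  have h : S.e 0 p u * S.o 1 c = S.o 1 c * S.e 0 p u * S.e 1 0 (p * c) := S.e_o1 0 p u c
  calc (S.o 1 c)⁻¹ * S.e 0 p u * S.o 1 c = (S.o 1 c)⁻¹ * (S.e 0 p u * S.o 1 c) := by group
    _ = _ := by rw [h]; group

theorem o6_e0 (c p u : F) : (S.o 6 c)⁻¹ * S.e 0 p u * S.o 6 c = S.e 0 p u * S.e 7 0 (c * p) := by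
  have h : S.o 6 c * S.e 0 p u = S.e 0 p u * S.o 6 c * S.e 7 0 (c * p) := S.o_e2 6 c p u
  have h2 : S.e 0 p u * S.o 6 c = S.o 6 c * S.e 0 p u * S.e 7 0 (c * p) := by
    rw [h]
    calc S.e 0 p u * S.o 6 c = S.e 0 p u * S.o 6 c * 1 := by group
      _ = _ := by rw [← z_sq S 7 (c * p)]; group
  calc (S.o 6 c)⁻¹ * S.e 0 p u * S.o 6 c = (S.o 6 c)⁻¹ * (S.e 0 p u * S.o 6 c) := by group
    _ = _ := by rw [h2]; group

/-- `a = c σ(c)` -/
theorem a_eq (k : KH S H Q) {a c : F} (h0 : ∀ t, h' * S.o 0 t * h'⁻¹ = S.o 0 (a * t))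
    (h7' : ∀ t, h' * S.o 7 t * h'⁻¹ = S.o 7 (a * t))
    (h1 : ∃ p u, InQ S ((S.e 0 p u)⁻¹ * ((S.o 1 c)⁻¹ * (h' * S.o 1 1 * h'⁻¹))))
    (h6 : ∃ p u, InQ S ((S.e 0 p u)⁻¹ * ((S.o 6 c)⁻¹ * (h' * S.o 6 1 * h'⁻¹)))) : c * σ c = a := by
  obtain ⟨p, u, a1, a2, a3, a4, a5, ha⟩ := h6
  obtain ⟨p', u', b1, b2, b3, b4, b5, hb⟩ := h1
  have hx : h' * S.o 6 1 * h'⁻¹ = S.o 6 c * (S.e 0 p u * QTwo.q5 S a1 a2 a3 a4 a5) := by rw [← ha]; group
  have hy : h' * S.o 1 1 * h'⁻¹ = S.o 1 c * (S.e 0 p' u' * QTwo.q5 S b1 b2 b3 b4 b5) := by rw [← hb]; group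
  have hr : S.o 6 1 * S.o 1 1 = S.o 1 1 * S.o 6 1 * S.o 7 1 * S.o 0 1 := by
    have := S.o_o3 6 1 1
    rw [map_one, mul_one] at this
    exact this
  have hr' : S.o 6 c * S.o 1 c = S.o 1 c * S.o 6 c * S.o 7 (σ c * c) * S.o 0 (c * σ c) := S.o_o3 6 c c
  have h2 : (h' * S.o 6 1 * h'⁻¹) * (h' * S.o 1 1 * h'⁻¹) =
      (h' * S.o 1 1 * h'⁻¹) * (h' * S.o 6 1 * h'⁻¹) * S.o 7 a * S.o 0 a := by
    have e7 : S.o 7 a = h' * S.o 7 1 * h'⁻¹ := by rw [h7', mul_one]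
    have e0 : S.o 0 a = h' * S.o 0 1 * h'⁻¹ := by rw [h0, mul_one]
    rw [e7, e0, ← conj_mul, hr]; group
  set q := QTwo.q5 S a1 a2 a3 a4 a5 with hqd
  set q' := QTwo.q5 S b1 b2 b3 b4 b5 with hqd'
  rw [hx, hy] at h2
  have c1 : ∀ (P U α β γ δ ε : F), Commute (S.e 0 P U) (QTwo.q5 S α β γ δ ε) := fun P U α β γ δ ε => q5_e0 S α β γ δ ε P U
  -- left side
  have hL : S.o 6 c * (S.e 0 p u * q) * (S.o 1 c * (S.e 0 p' u' * q')) =
      S.o 1 c * S.o 6 c * (QTwo.q5 S 0 (σ c * c) 0 (c * σ c) 0 * (S.e 0 p u * QTwo.q5 S 0 0 0 0 (p * c) *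
        QTwo.q5 S a1 a2 (a3 + a1 * c) a4 a5 * (S.e 0 p' u' * q'))) := by
    have e1 : S.e 0 p u * q * S.o 1 c = S.o 1 c * (((S.o 1 c)⁻¹ * S.e 0 p u * S.o 1 c) * ((S.o 1 c)⁻¹ * q * S.o 1 c)) := by
      group
    have e2 : S.o 7 (σ c * c) * S.o 0 (c * σ c) = QTwo.q5 S 0 (σ c * c) 0 (c * σ c) 0 := by
      rw [o7_eq, o0_eq, q5_mul]; simp
    rw [o1_e0, hqd, q5_o1, z1_eq] at e1
    rw [← e2, ← hqd] at *
    calc S.o 6 c * (S.e 0 p u * q) * (S.o 1 c * (S.e 0 p' u' * q')) =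
        S.o 6 c * (S.e 0 p u * q * S.o 1 c) * (S.e 0 p' u' * q') := by group
      _ = (S.o 6 c * S.o 1 c) * (S.e 0 p u * QTwo.q5 S 0 0 0 0 (p * c) * QTwo.q5 S a1 a2 (a3 + a1 * c) a4 a5) *
          (S.e 0 p' u' * q') := by rw [e1]; group
      _ = _ := by rw [hr']; group
  have hR : S.o 1 c * (S.e 0 p' u' * q') * (S.o 6 c * (S.e 0 p u * q)) * S.o 7 a * S.o 0 a =
      S.o 1 c * S.o 6 c * (S.e 0 p' u' * QTwo.q5 S (c * p') 0 0 0 0 * QTwo.q5 S b1 b2 (b3 + b5 * c) b4 b5 *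
        (S.e 0 p u * q) * QTwo.q5 S 0 a 0 a 0) := by
    have e1 : S.e 0 p' u' * q' * S.o 6 c = S.o 6 c * (((S.o 6 c)⁻¹ * S.e 0 p' u' * S.o 6 c) * ((S.o 6 c)⁻¹ * q' * S.o 6 c)) := by
      group
    have e2 : S.o 7 a * S.o 0 a = QTwo.q5 S 0 a 0 a 0 := by
      rw [o7_eq, o0_eq, q5_mul]; simp
    rw [o6_e0, hqd', Nn.q5_o6, z7_eq] at e1
    rw [← e2]
    calc S.o 1 c * (S.e 0 p' u' * q') * (S.o 6 c * (S.e 0 p u * q)) * S.o 7 a * S.o 0 a =
        S.o 1 c * (S.e 0 p' u' * q' * S.o 6 c) * (S.e 0 p u * q) * S.o 7 a * S.o 0 a := by group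
      _ = _ := by rw [hqd', e1]; group
  rw [hL, hR] at h2
  have h3 := mul_left_cancel h2
  -- collect
  have e1 : QTwo.q5 S 0 (σ c * c) 0 (c * σ c) 0 * (S.e 0 p u * QTwo.q5 S 0 0 0 0 (p * c) *
        QTwo.q5 S a1 a2 (a3 + a1 * c) a4 a5 * (S.e 0 p' u' * q')) = S.e 0 p u * S.e 0 p' u' *
        (QTwo.q5 S 0 (σ c * c) 0 (c * σ c) 0 * QTwo.q5 S 0 0 0 0 (p * c) *
        QTwo.q5 S a1 a2 (a3 + a1 * c) a4 a5 * q') := by
    have f1 := (c1 p u 0 (σ c * c) 0 (c * σ c) 0).eq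
    have f2 := (((c1 p' u' 0 (σ c * c) 0 (c * σ c) 0).mul_right (c1 p' u' 0 0 0 0 (p * c))).mul_right
      (c1 p' u' a1 a2 (a3 + a1 * c) a4 a5)).eq
    calc _ = (QTwo.q5 S 0 (σ c * c) 0 (c * σ c) 0 * S.e 0 p u) * (QTwo.q5 S 0 0 0 0 (p * c) *
        QTwo.q5 S a1 a2 (a3 + a1 * c) a4 a5) * S.e 0 p' u' * q' := by group
      _ = S.e 0 p u * ((QTwo.q5 S 0 (σ c * c) 0 (c * σ c) 0 * QTwo.q5 S 0 0 0 0 (p * c) *
        QTwo.q5 S a1 a2 (a3 + a1 * c) a4 a5) * S.e 0 p' u') * q' := by rw [← f1]; group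
      _ = _ := by rw [← f2]; group
  have e2 : S.e 0 p' u' * QTwo.q5 S (c * p') 0 0 0 0 * QTwo.q5 S b1 b2 (b3 + b5 * c) b4 b5 *
        (S.e 0 p u * q) * QTwo.q5 S 0 a 0 a 0 = S.e 0 p' u' * S.e 0 p u *
        (QTwo.q5 S (c * p') 0 0 0 0 * QTwo.q5 S b1 b2 (b3 + b5 * c) b4 b5 * q * QTwo.q5 S 0 a 0 a 0) := by
    have f1 := ((c1 p u (c * p') 0 0 0 0).mul_right (c1 p u b1 b2 (b3 + b5 * c) b4 b5)).eq
    calc _ = S.e 0 p' u' * ((QTwo.q5 S (c * p') 0 0 0 0 * QTwo.q5 S b1 b2 (b3 + b5 * c) b4 b5) * S.e 0 p u) * q *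
          QTwo.q5 S 0 a 0 a 0 := by group
      _ = _ := by rw [← f1]; group
  have e3 : S.e 0 p u * S.e 0 p' u' = S.e 0 p' u' * S.e 0 p u * QTwo.q5 S 0 0 (p * σ p' + p' * σ p) 0 0 := by
    rw [← z0_eq, S.e_mul, S.e_mul, S.e_mul, map_zero, mul_zero, add_zero, add_zero, add_comm p' p]
    congr 1
    have : u' + u + p' * σ p + (p * σ p' + p' * σ p) = u + u' + p * σ p' + (p' * σ p + p' * σ p) := by ring
    rw [this, add_self, add_zero]
  rw [e1, e2, e3, mul_assoc] at h3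
  have h4 := mul_left_cancel h3
  rw [hqd, hqd', q5_mul, q5_mul, q5_mul, q5_mul, q5_mul, q5_mul, q5_mul] at h4
  obtain ⟨-, h5, -, -, -⟩ := k.uniq _ _ _ _ _ _ _ _ _ _ h4
  have h6 : σ c * c + (a2 + b2) = a + (a2 + b2) := by
    calc σ c * c + (a2 + b2) = 0 + (σ c * c + 0 + a2 + b2) := by ring
      _ = 0 + b2 + a2 + a := h5
      _ = _ := by ring
  rw [mul_comm]
  exact add_right_cancel h6

/-- **summary of the action of `h'`** -/
theorem summary (P : Hp S dl H Q h') (k : KH S H Q) (D : Dl S dl) (I : _root_.Cfsg.Agent.OddHalf.D4.TwF.Field.Inv σ τ) : ∃ (c : Fˣ),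
    ∀ α β γ δ ε, h' * QTwo.q5 S α β γ δ ε * h'⁻¹ =
      QTwo.q5 S (c * σ c * α) (c * σ c * β) (σ c * (c * c) * γ) (c * σ c * δ) (c * σ c * ε) := by
  obtain ⟨S', M⟩ := exists_mirror S
  obtain ⟨a, ha, h1⟩ := P.z1 k D I
  obtain ⟨a7, ha7, h7⟩ := (P.mirror M).z1 (k.mirror M) (D.mirror M) I
  have h7' : ∀ u, h' * S.e 7 0 u * h'⁻¹ = S.e 7 0 (a7 * u) := fun u => by
    have := h7 u
    rwa [M.e1, M.e1] at this
  obtain ⟨rfl, h0⟩ := P.o0 k D I h1 h7'
  have h1' : ∀ u, h' * S'.e 7 0 u * h'⁻¹ = S'.e 7 0 (a7 * u) := fun u => by rw [M.e7, M.e7]; exact h1 u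
  obtain ⟨-, ho7⟩ := (P.mirror M).o0 (k.mirror M) (D.mirror M) I h7 h1'
  have ho7' : ∀ t, h' * S.o 7 t * h'⁻¹ = S.o 7 (a7 * t) := fun t => by
    have := ho7 t
    rwa [M.o0, M.o0] at this
  obtain ⟨ρ, hρ0, hρ⟩ := P.rho k h7'
  have hq := on_q5 h1 h7' h0 ho7' hρ
  have hc1 := on_o1 P k ha hρ0 hq
  have hρ' : ∀ u, h' * S'.e 0 0 u * h'⁻¹ = S'.e 0 0 (ρ * u) := fun u => by rw [M.e0, M.e0]; exact hρ u
  have h0' : ∀ t, h' * S'.o 7 t * h'⁻¹ = S'.o 7 (a7 * t) := fun t => by rw [M.o7, M.o7]; exact h0 t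
  have hc6 := on_o1 (P.mirror M) (k.mirror M) ha hρ0 (on_q5 h7 h1' ho7 h0' hρ')
  have hc6' : ∃ p u, InQ S ((S.e 0 p u)⁻¹ * ((S.o 6 (ρ / a7))⁻¹ * (h' * S.o 6 1 * h'⁻¹))) := by
    obtain ⟨p, u, hpu⟩ := hc6
    rw [M.e0, M.o1, M.o1] at hpu
    exact ⟨p, u, hpu.mirror M.symm⟩
  have hc := a_eq k h0 ho7' hc1 hc6'
  have hc0 : ρ / a7 ≠ 0 := div_ne_zero hρ0 ha
  refine ⟨Units.mk0 (ρ / a7) hc0, fun α β γ δ ε => ?_⟩
  rw [hq]
  have e1 : σ (ρ / a7) * (ρ / a7 * (ρ / a7)) = ρ := by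
    calc σ (ρ / a7) * (ρ / a7 * (ρ / a7)) = (ρ / a7 * σ (ρ / a7)) * (ρ / a7) := by ring
      _ = a7 * (ρ / a7) := by rw [hc]
      _ = ρ := by rw [mul_div_assoc', mul_div_cancel_left₀ _ ha]
  simp only [Units.val_mk0]
  rw [hc, e1]

end Hp

/-! ### the element `n` -/

theorem dlt_inQ_hom {S : Sys σ G} {H Q : Subgroup G} (k : KH S H Q) {n : G}
    (hn : ∀ x ∈ H, ∃ p u, InQ S ((S.e 0 p u)⁻¹ * dlt n x)) : ∀ x ∈ H, InQ S (dlt n x) := by
  have hinv : ∀ x, InQ S x → InQ S x⁻¹ := by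
    rintro x ⟨a, b, c, d, e, rfl⟩
    exact ⟨a, b, c, d, e, q5_inv S a b c d e⟩
  have he : ∀ p u x, InQ S x → InQ S ((S.e 0 p u)⁻¹ * x * S.e 0 p u) := by
    rintro p u x ⟨a, b, c, d, e, rfl⟩
    refine ⟨a, b, c, d, e, conj_comm (q5_e0 S a b c d e p u)⟩
  have h1 : ∀ x ∈ H, ∃ p, InQ S ((S.e 0 p 0)⁻¹ * dlt n x) := by
    intro x hx
    obtain ⟨p, u, h⟩ := hn x hx
    refine ⟨p, ?_⟩
    have h2 : (S.e 0 p 0)⁻¹ * dlt n x = S.e 0 0 u * ((S.e 0 p u)⁻¹ * dlt n x) := by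
      have h3 : S.e 0 p u = S.e 0 p 0 * S.e 0 0 u := Nn.e0_split S p u
      rw [h3]; group
    rw [h2, z0_eq]
    exact (InQ.q5 S _ _ _ _ _).mul h
  choose! p hp using h1
  have huniq : ∀ x ∈ H, ∀ q v, InQ S ((S.e 0 q v)⁻¹ * dlt n x) → p x = q := by
    intro x hx q v h
    have h2 : InQ S (S.e 0 (q + p x) (v + q * σ (p x) + q * σ q + p x * σ (p x))) := by
      have h3 : InQ S ((S.e 0 q v)⁻¹ * S.e 0 (p x) 0) := by
        have h4 := h.mul (hinv _ (hp x hx))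
        have h5 : (S.e 0 q v)⁻¹ * dlt n x * ((S.e 0 (p x) 0)⁻¹ * dlt n x)⁻¹ = (S.e 0 q v)⁻¹ * S.e 0 (p x) 0 := by group
        rwa [h5] at h4
      have h6 : (S.e 0 q v)⁻¹ = S.e 0 q (v + q * σ q) := by
        rw [inv_eq_iff_mul_eq_one, S.e_mul, add_self]
        have : v + (v + q * σ q) + q * σ q = (v + v) + (q * σ q + q * σ q) := by ring
        rw [this, add_self, add_self, add_zero, e_zero]
      rw [h6, S.e_mul] at h3
      have h7 : S.e 0 0 (p x * σ (p x)) * S.e 0 (q + p x) (v + q * σ q + 0 + q * σ (p x)) =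
          S.e 0 (q + p x) (v + q * σ (p x) + q * σ q + p x * σ (p x)) := by
        rw [S.e_mul, zero_mul, zero_add]; congr 1; ring
      rw [← h7, z0_eq]
      exact (InQ.q5 S _ _ _ _ _).mul h3
    exact (eq_of_add (k.e0n _ _ h2)).symm
  have hmul : ∀ x ∈ H, ∀ y ∈ H, p (x * y) = p x + p y := by
    intro x hx y hy
    apply huniq _ (H.mul_mem hx hy) _ (p x * σ (p y))
    rw [dlt_mul]
    have h1 : S.e 0 (p x + p y) (p x * σ (p y)) = S.e 0 (p x) 0 * S.e 0 (p y) 0 := by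
      rw [S.e_mul, add_zero, zero_add]
    rw [h1]
    have h2 : (S.e 0 (p x) 0 * S.e 0 (p y) 0)⁻¹ * (y⁻¹ * dlt n x * y * dlt n y) =
        ((S.e 0 (p y) 0)⁻¹ * ((⁅(S.e 0 (p x) 0)⁻¹, y⁻¹⁆) * (y⁻¹ * ((S.e 0 (p x) 0)⁻¹ * dlt n x) * y)) *
          S.e 0 (p y) 0) * ((S.e 0 (p y) 0)⁻¹ * dlt n y) := by
      rw [commutatorElement_def]; group
    rw [h2]
    refine (he _ _ _ ((k.e0c y hy _ _).mul ?_)).mul (hp y hy)
    have := k.nor y⁻¹ (H.inv_mem hy) _ (hp x hx)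
    rwa [inv_inv] at this
  have hone : p 1 = 0 := by
    have := hmul 1 H.one_mem 1 H.one_mem
    rw [mul_one] at this
    exact left_eq_add.mp this
  have hpinv : ∀ x ∈ H, p x⁻¹ = p x := by
    intro x hx
    have := hmul x hx x⁻¹ (H.inv_mem hx)
    rw [mul_inv_cancel, hone] at this
    exact (eq_of_add this.symm).symm
  let N : Subgroup G :=
    { carrier := {x | x ∈ H ∧ p x = 0}
      one_mem' := ⟨H.one_mem, hone⟩
      mul_mem' := by
        rintro x y ⟨hx, hx0⟩ ⟨hy, hy0⟩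
        exact ⟨H.mul_mem hx hy, by rw [hmul x hx y hy, hx0, hy0, add_zero]⟩
      inv_mem' := by
        rintro x ⟨hx, hx0⟩
        exact ⟨H.inv_mem hx, by rw [hpinv x hx, hx0]⟩ }
  have hN : ⁅H, H⁆ ≤ N := by
    rw [Subgroup.commutator_le]
    intro x hx y hy
    refine ⟨?_, ?_⟩
    · rw [commutatorElement_def]
      exact H.mul_mem (H.mul_mem (H.mul_mem hx hy) (H.inv_mem hx)) (H.inv_mem hy)
    · rw [commutatorElement_def, hmul _ (H.mul_mem (H.mul_mem hx hy) (H.inv_mem hx)) _ (H.inv_mem hy),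
        hmul _ (H.mul_mem hx hy) _ (H.inv_mem hx), hmul x hx y hy, hpinv x hx, hpinv y hy]
      have : p x + p y + p x + p y = (p x + p x) + (p y + p y) := by ring
      rw [this, add_self, add_self, add_zero]
  intro x hx
  rw [← k.perf] at hx
  obtain ⟨hx', hx0⟩ := hN hx
  have := hp x hx'
  rwa [hx0, e_zero, inv_one, one_mul] at this

/-- **the element `n`** -/
theorem exists_n {S : Sys σ G} {dl hx : Fˣ → G} {H Q : Subgroup G} {h' : G} (P : Hp S dl H Q h') (k : KH S H Q)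
    (D : Dl S dl) (I : _root_.Cfsg.Agent.OddHalf.D4.TwF.Field.Inv σ τ) (Hh : Hx S hx) (hc : ∀ x d, Commute (hx x) (dl d))
    (hH : ∀ c, ∀ x ∈ H, (hx c)⁻¹ * x * hx c ∈ H) : ∃ c : Fˣ, Nn S dl ((hx c)⁻¹ * h') ∧
    ∀ u, h' * S.e 0 0 u * h'⁻¹ = S.e 0 0 (σ c * (c * c) * u) := by
  obtain ⟨c, hq⟩ := P.summary k D I
  have hxq : ∀ α β γ δ ε, hx c * q5 S α β γ δ ε * (hx c)⁻¹ =
      q5 S (c * σ c * α) (c * σ c * β) (σ c * (c * c) * γ) (c * σ c * δ) (c * σ c * ε) := by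
    intro α β γ δ ε
    have e7 : S.e 7 0 (c * σ c * α) = hx c * S.e 7 0 α * (hx c)⁻¹ := by rw [Hh.e7, mul_zero]
    have e0 : S.e 0 0 (σ c * (c * c) * γ) = hx c * S.e 0 0 γ * (hx c)⁻¹ := by rw [Hh.e0, mul_zero]
    have e1 : S.e 1 0 (c * σ c * ε) = hx c * S.e 1 0 ε * (hx c)⁻¹ := by rw [Hh.e1, mul_zero]
    unfold q5
    rw [e7, e0, e1, ← Hh.o7, ← Hh.o0]; group
  have hcq : ∀ α β γ δ ε, Commute ((hx c)⁻¹ * h') (q5 S α β γ δ ε) := by
    intro α β γ δ ε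
    have h1 : h' * q5 S α β γ δ ε * h'⁻¹ = hx c * q5 S α β γ δ ε * (hx c)⁻¹ := by rw [hq, hxq]
    show (hx c)⁻¹ * h' * q5 S α β γ δ ε = q5 S α β γ δ ε * ((hx c)⁻¹ * h')
    calc (hx c)⁻¹ * h' * q5 S α β γ δ ε = (hx c)⁻¹ * (h' * q5 S α β γ δ ε * h'⁻¹) * h' := by group
      _ = _ := by rw [h1]; group
  have hnH : ∀ x ∈ H, (hx c)⁻¹ * h' * x * ((hx c)⁻¹ * h')⁻¹ ∈ H := by
    intro x hxx
    have := hH c _ (P.HH x hxx)
    have e : (hx c)⁻¹ * h' * x * ((hx c)⁻¹ * h')⁻¹ = (hx c)⁻¹ * (h' * x * h'⁻¹) * hx c := by group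
    rwa [e]
  have hd : ∀ x ∈ H, InQ S (dlt ((hx c)⁻¹ * h') x) := by
    apply dlt_inQ_hom k
    intro x hxx
    have h1 : dlt ((hx c)⁻¹ * h') x = x⁻¹ * ((hx c)⁻¹ * h' * x * ((hx c)⁻¹ * h')⁻¹) := rfl
    rw [h1]
    refine Hp.same_act k (hnH x hxx) hxx ?_
    intro α β γ δ ε
    have h2 : InQ S (x⁻¹ * q5 S α β γ δ ε * x) := by
      have := k.nor x⁻¹ (H.inv_mem hxx) _ (InQ.q5 S α β γ δ ε)
      rwa [inv_inv] at this
    obtain ⟨a1, a2, a3, a4, a5, ha⟩ := h2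
    set n := (hx c)⁻¹ * h' with hn
    have h3 : n⁻¹ * q5 S α β γ δ ε * n = q5 S α β γ δ ε := conj_comm (hcq α β γ δ ε)
    calc (n * x * n⁻¹)⁻¹ * q5 S α β γ δ ε * (n * x * n⁻¹) = n * (x⁻¹ * (n⁻¹ * q5 S α β γ δ ε * n) * x) * n⁻¹ := by group
      _ = n * q5 S a1 a2 a3 a4 a5 * n⁻¹ := by rw [h3, ha]
      _ = x⁻¹ * q5 S α β γ δ ε * x := by rw [(hcq a1 a2 a3 a4 a5).eq, ha]; group
  refine ⟨c, ⟨fun u => ?_, fun t => ?_, fun u => ?_, fun t => ?_, fun u => ?_, fun d => ?_, fun s => ?_, fun s => ?_,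
    fun p u => ?_, fun p u => ?_, fun p u => ?_, fun p u => ?_, fun p u => ?_⟩, fun u => ?_⟩
  · rw [z7_eq]; exact hcq _ _ _ _ _
  · rw [o7_eq]; exact hcq _ _ _ _ _
  · rw [z0_eq]; exact hcq _ _ _ _ _
  · rw [o0_eq]; exact hcq _ _ _ _ _
  · rw [z1_eq]; exact hcq _ _ _ _ _
  · exact (hc c d).inv_left.mul_left (P.dl d)
  · exact hd _ (k.le (k.o1 s))
  · exact hd _ (k.le (k.o6 s))
  · exact hd _ (k.le (k.e1 p u))
  · exact hd _ (k.le (k.e7 p u))
  · exact hd _ (k.le (k.e0 p u))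
  · exact hd _ (k.e2 p u)
  · exact hd _ (k.e6 p u)
  · rw [z0_eq, hq, z0_eq, mul_zero]

/-- **from `h'` to the family** -/
theorem exists_fam' {S : Sys σ G} {dl hx : Fˣ → G} {H Q A : Subgroup G} {h' : G} (P : Hp S dl H Q h') (k : KH S H Q)
    (D : Dl S dl) (I : _root_.Cfsg.Agent.OddHalf.D4.TwF.Field.Inv σ τ) (Hh : Hx S hx) (hc : ∀ x d, Commute (hx x) (dl d))
    (hH : ∀ c, ∀ x ∈ H, (hx c)⁻¹ * x * hx c ∈ H) (hA : ∀ r ∈ A, ∀ x, Commute r (hx x))
    (hAo : ∀ r ∈ A, ∀ a t, Commute r (S.o a t)) (hAe : ∀ r ∈ A, ∀ a p u, Commute r (S.e a p u))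
    (hAr : ∀ r ∈ A, Commute r S.rot) {β : G → F} (hβ : ∀ r ∈ A, Commute h' (r * S.e 0 0 (β r)))
    (hne : ∃ u, ¬ Commute h' (S.e 0 0 u)) {t : G} (ht0 : β t ≠ 0) :
    ∃ (e0 : F) (nn : ZMod 8 → F → G), Fam S A (fun r => β r / β t) τ e0 nn := by
  obtain ⟨c, N, hz⟩ := exists_n P k D I Hh hc hH
  set ρ : F := σ c * (c * c) with hρ
  have hρ0 : ρ ≠ 0 := mul_ne_zero ((map_ne_zero σ).mpr c.ne_zero) (mul_ne_zero c.ne_zero c.ne_zero)
  have hρ1 : 1 + ρ⁻¹ ≠ 0 := by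
    intro h
    obtain ⟨u, hu⟩ := hne
    apply hu
    have h1 : ρ = 1 := by
      have := eq_of_add h
      rw [← inv_inv ρ, ← this, inv_one]
    have h2 := hz u
    rw [h1, one_mul] at h2
    show h' * S.e 0 0 u = S.e 0 0 u * h'
    calc h' * S.e 0 0 u = (h' * S.e 0 0 u * h'⁻¹) * h' := by group
      _ = _ := by rw [h2]
  refine exists_fam N D I k.uniq Hh hA (w0 := (1 + ρ⁻¹) * β t) (mul_ne_zero hρ1 ht0) ?_ hAo hAe hAr
  intro r hr
  have h1 : r⁻¹ * h' * r = h' * S.e 0 0 ((1 + ρ⁻¹) * β r) := by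
    have h2 := (hβ r hr).eq
    have h3 : r⁻¹ * h' * r = S.e 0 0 (β r) * h' * (S.e 0 0 (β r))⁻¹ := by
      calc r⁻¹ * h' * r = r⁻¹ * (h' * (r * S.e 0 0 (β r))) * (S.e 0 0 (β r))⁻¹ := by group
        _ = _ := by rw [h2]; group
    have h4 : S.e 0 0 (β r) * h' = h' * S.e 0 0 (ρ⁻¹ * β r) := by
      have := hz (ρ⁻¹ * β r)
      rw [mul_inv_cancel_left₀ hρ0] at this
      rw [← this]; group
    rw [h3, h4, z_inv, mul_assoc, z_mul]
    congr 2; ring
  have h2 : r⁻¹ * (hx c)⁻¹ = (hx c)⁻¹ * r⁻¹ := (hA r hr c).inv_inv.eq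
  calc r⁻¹ * ((hx c)⁻¹ * h') * r = (r⁻¹ * (hx c)⁻¹) * h' * r := by group
    _ = (hx c)⁻¹ * (r⁻¹ * h' * r) := by rw [h2]; group
    _ = (hx c)⁻¹ * h' * S.e 0 0 ((1 + ρ⁻¹) * β r) := by rw [h1]; group
    _ = _ := by
      congr 2
      field_simp

end Cfsg.Agent.OddHalf.D4.TwF.Bone

end

-- merged: Cfsg.Agent.OddHalf.D4.TwF.KSide
section

/-!
# ODD D4, `K = ²F₄(q)`: the facts on the parabolic `PL` in the form `KH`
-/

set_option autoImplicit false
set_option linter.unusedSectionVars false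

namespace Cfsg.Agent.OddHalf.D4.TwF.KSide

open Cfsg.Agent.KFacts.TwF4 Cfsg.Agent.OddHalf.D4.TwF.Field Cfsg.Agent.OddHalf.D4.TwF.End
open Cfsg.Agent.OddHalf.D4.TwF.QTwo Cfsg.Agent.OddHalf.D4.TwF.Mir Cfsg.Agent.OddHalf.D4.TwF.Norm
open Cfsg.Agent.OddHalf.D4.TwF.MkFam Cfsg.Agent.OddHalf.D4.TwF.Bone
open Cfsg.Agent.SplitTwo Cfsg.Agent.SplitTwo.ZS Cfsg.Agent.TitsThree.RankTwoZ Cfsg.Agent.TitsThree.RankTwoRGD
open Cfsg.Agent.SplitTwo.RootSysZ
open scoped commutatorElement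

universe u

/-! ### facts on `Lin` -/

section lin

variable {F : Type*} [Field F] [CharP F 2] {σ : F →+* F} {G : Type*} [Group G] {S : Sys σ G}

theorem Lin.mul {x y : G} (hx : Lin S x) (hy : Lin S y) : Lin S (x * y) := by
  obtain ⟨a1, a2, a3, a4, ha⟩ := hx
  obtain ⟨b1, b2, b3, b4, hb⟩ := hy
  refine ⟨a1 + b1, a2 + b2, a3 + b3, a4 + b4, fun α β γ δ ε => ?_⟩
  have : (x * y)⁻¹ * q5 S α β γ δ ε * (x * y) = y⁻¹ * (x⁻¹ * q5 S α β γ δ ε * x) * y := by group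
  rw [this, ha, hb]
  congr 1; ring

theorem Lin.inv {x : G} (hx : Lin S x) : Lin S x⁻¹ := by
  obtain ⟨a1, a2, a3, a4, ha⟩ := hx
  refine ⟨a1, a2, a3, a4, fun α β γ δ ε => ?_⟩
  have h1 := ha α β (γ + α * a1 + β * a2 + δ * a3 + ε * a4) δ ε
  have e : γ + α * a1 + β * a2 + δ * a3 + ε * a4 + α * a1 + β * a2 + δ * a3 + ε * a4 =
      γ + ((α * a1 + α * a1) + (β * a2 + β * a2) + (δ * a3 + δ * a3) + (ε * a4 + ε * a4)) := by ring
  rw [e] at h1
  simp only [add_self, add_zero] at h1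
  rw [← h1]; group

theorem Lin.of_comm {x : G} (hx : ∀ α β γ δ ε, Commute x (q5 S α β γ δ ε)) : Lin S x :=
  ⟨0, 0, 0, 0, fun α β γ δ ε => by rw [conj_comm (hx α β γ δ ε)]; congr 1; ring⟩

theorem Lin.one : Lin S (1 : G) := Lin.of_comm fun _ _ _ _ _ => Commute.one_left _

theorem Lin.q5 (α β γ δ ε : F) : Lin S (QTwo.q5 S α β γ δ ε) := Lin.of_comm fun _ _ _ _ _ => q5_comm S _ _ _ _ _ _ _ _ _ _

theorem q5_e7 (α β γ δ ε p u : F) : (S.e 7 p u)⁻¹ * QTwo.q5 S α β γ δ ε * S.e 7 p u = QTwo.q5 S α β (γ + δ * p) δ ε := by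
  obtain ⟨S', M⟩ := exists_mirror S
  rw [← M.e1, ← M.q5, q5_e1, M.q5]

/-- the elements acting linearly, as a subgroup -/
def LinG (S : Sys σ G) : Subgroup G where
  carrier := {x | Lin S x}
  one_mem' := Lin.one
  mul_mem' := Lin.mul
  inv_mem' := Lin.inv

/-- `Q₂` as a subgroup -/
def InQG (S : Sys σ G) : Subgroup G where
  carrier := {x | InQ S x}
  one_mem' := InQ.one S
  mul_mem' := InQ.mul
  inv_mem' := by
    rintro x ⟨a, b, c, d, e, rfl⟩
    exact ⟨a, b, c, d, e, q5_inv S a b c d e⟩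

end lin

variable {F : Type*} [Field F] [CharP F 2] {σ τ : F →+* F} {X : Type u} [Group X] (S : Full σ X)

/-- the coordinates with centre `X_4` -/
def sh : Sys σ X := mapS S.toSys (MulAut.conj (S.rot * S.rot)).toMonoidHom (MulAut.conj (S.rot * S.rot)).injective

theorem sh_o (a b : ZMod 8) (h : a + 2 = b) (t : F) : (sh S).o a t = S.o b t := by
  have : (sh S).o a t = S.rot * S.rot * S.o a t * (S.rot * S.rot)⁻¹ := rfl
  rw [this]
  have e : S.rot * S.rot * S.o a t * (S.rot * S.rot)⁻¹ = S.rot * (S.rot * S.o a t * S.rot⁻¹) * S.rot⁻¹ := by group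
  rw [e, S.rot_o, S.rot_o, ← h]
  congr 1; ring

theorem sh_e (a b : ZMod 8) (h : a + 2 = b) (p u : F) : (sh S).e a p u = S.e b p u := by
  have : (sh S).e a p u = S.rot * S.rot * S.e a p u * (S.rot * S.rot)⁻¹ := rfl
  rw [this]
  have e : S.rot * S.rot * S.e a p u * (S.rot * S.rot)⁻¹ = S.rot * (S.rot * S.e a p u * S.rot⁻¹) * S.rot⁻¹ := by group
  rw [e, S.rot_e, S.rot_e, ← h]
  congr 1; ring

theorem so0 (t : F) : (sh S).o 0 t = S.o 2 t := sh_o S 0 2 rfl t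
theorem so1 (t : F) : (sh S).o 1 t = S.o 3 t := sh_o S 1 3 rfl t
theorem so6 (t : F) : (sh S).o 6 t = S.o 0 t := sh_o S 6 0 rfl t
theorem so7 (t : F) : (sh S).o 7 t = S.o 1 t := sh_o S 7 1 rfl t
theorem se0 (p u : F) : (sh S).e 0 p u = S.e 2 p u := sh_e S 0 2 rfl p u
theorem se1 (p u : F) : (sh S).e 1 p u = S.e 3 p u := sh_e S 1 3 rfl p u
theorem se2 (p u : F) : (sh S).e 2 p u = S.e 4 p u := sh_e S 2 4 rfl p u
theorem se6 (p u : F) : (sh S).e 6 p u = S.e 0 p u := sh_e S 6 0 rfl p u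
theorem se7 (p u : F) : (sh S).e 7 p u = S.e 1 p u := sh_e S 7 1 rfl p u

theorem q5_eq (α β γ δ ε : F) : q5 (sh S) α β γ δ ε = S.e 1 0 α * S.o 1 β * S.e 2 0 γ * S.o 2 δ * S.e 3 0 ε := by
  unfold q5
  rw [se7, so7, se0, so0, se1]

theorem mX0 (p u : F) : S.e 0 p u ∈ S.XZ 0 := (S.mem_XZ_even 0 _).2 ⟨p, u, rfl⟩

/-! ### uniqueness -/

theorem q5_one {α β γ δ ε : F} (h : q5 (sh S) α β γ δ ε = 1) : α = 0 ∧ β = 0 ∧ γ = 0 ∧ δ = 0 ∧ ε = 0 := by
  have Z8 := S.zsys8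
  rw [q5_eq] at h
  have m3 : ∀ {k : ℤ} {x : X}, x ∈ S.XZ k → ∀ {a b : ℤ}, a ≤ k → k ≤ b → x ∈ J S.XZ a b := fun hx _ _ h1 h2 => mem_J hx h1 h2
  have h1 : S.e 1 0 α = 1 := by
    apply Z8.inter 2 _ (S.mX2 0 α)
    have e : S.e 1 0 α = (S.o 1 β * S.e 2 0 γ * S.o 2 δ * S.e 3 0 ε)⁻¹ := by
      rw [eq_inv_iff_mul_eq_one, ← h]; group
    rw [e]
    exact inv_mem (mul_mem (mul_mem (mul_mem (m3 (S.mX3 β) (by norm_num) (by norm_num))
      (m3 (S.mX4 0 γ) (by norm_num) (by norm_num))) (m3 (S.mX5 δ) (by norm_num) (by norm_num)))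
      (m3 (S.mX6 0 ε) (by norm_num) (by norm_num)))
  rw [h1, one_mul] at h
  have h2 : S.o 1 β = 1 := by
    apply Z8.inter 3 _ (S.mX3 β)
    have e : S.o 1 β = (S.e 2 0 γ * S.o 2 δ * S.e 3 0 ε)⁻¹ := by
      rw [eq_inv_iff_mul_eq_one, ← h]; group
    rw [e]
    exact inv_mem (mul_mem (mul_mem (m3 (S.mX4 0 γ) (by norm_num) (by norm_num))
      (m3 (S.mX5 δ) (by norm_num) (by norm_num))) (m3 (S.mX6 0 ε) (by norm_num) (by norm_num)))
  rw [h2, one_mul] at h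
  have h3 : S.e 2 0 γ = 1 := by
    apply Z8.inter 4 _ (S.mX4 0 γ)
    have e : S.e 2 0 γ = (S.o 2 δ * S.e 3 0 ε)⁻¹ := by
      rw [eq_inv_iff_mul_eq_one, ← h]; group
    rw [e]
    exact inv_mem (mul_mem (m3 (S.mX5 δ) (by norm_num) (by norm_num)) (m3 (S.mX6 0 ε) (by norm_num) (by norm_num)))
  rw [h3, one_mul] at h
  have h4 : S.o 2 δ = 1 := by
    apply Z8.inter 5 _ (S.mX5 δ)
    have e : S.o 2 δ = (S.e 3 0 ε)⁻¹ := by
      rw [eq_inv_iff_mul_eq_one, ← h]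
    rw [e]
    exact inv_mem (m3 (S.mX6 0 ε) (by norm_num) (by norm_num))
  rw [h4, one_mul] at h
  exact ⟨(S.e_eq_one h1).2, S.o_eq_one h2, (S.e_eq_one h3).2, S.o_eq_one h4, (S.e_eq_one h).2⟩

theorem uniq : Uniq (sh S) := by
  intro α β γ δ ε α' β' γ' δ' ε' h
  have h1 : q5 (sh S) (α + α') (β + β') (γ + γ') (δ + δ') (ε + ε') = 1 := by
    rw [← q5_mul, h, q5_sq]
  obtain ⟨h1, h2, h3, h4, h5⟩ := q5_one S h1
  exact ⟨eq_of_add h1, eq_of_add h2, eq_of_add h3, eq_of_add h4, eq_of_add h5⟩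

theorem e0n (p u : F) (h : InQ (sh S) ((sh S).e 0 p u)) : p = 0 := by
  obtain ⟨α, β, γ, δ, ε, h⟩ := h
  have Z8 := S.zsys8
  rw [q5_eq, se0] at h
  have m3 : ∀ {k : ℤ} {x : X}, x ∈ S.XZ k → ∀ {a b : ℤ}, a ≤ k → k ≤ b → x ∈ J S.XZ a b := fun hx _ _ h1 h2 => mem_J hx h1 h2
  have h1 : S.e 1 0 α = 1 := by
    apply Z8.inter 2 _ (S.mX2 0 α)
    have e : S.e 1 0 α = S.e 2 p u * (S.o 1 β * S.e 2 0 γ * S.o 2 δ * S.e 3 0 ε)⁻¹ := by
      rw [eq_mul_inv_iff_mul_eq, h]; group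
    rw [e]
    exact mul_mem (m3 (S.mX4 p u) (by norm_num) (by norm_num)) (inv_mem (mul_mem (mul_mem (mul_mem
      (m3 (S.mX3 β) (by norm_num) (by norm_num))
      (m3 (S.mX4 0 γ) (by norm_num) (by norm_num))) (m3 (S.mX5 δ) (by norm_num) (by norm_num)))
      (m3 (S.mX6 0 ε) (by norm_num) (by norm_num))))
  rw [h1, one_mul] at h
  have h2 : S.o 1 β = 1 := by
    apply Z8.inter 3 _ (S.mX3 β)
    have e : S.o 1 β = S.e 2 p u * (S.e 2 0 γ * S.o 2 δ * S.e 3 0 ε)⁻¹ := by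
      rw [eq_mul_inv_iff_mul_eq, h]; group
    rw [e]
    exact mul_mem (m3 (S.mX4 p u) (by norm_num) (by norm_num)) (inv_mem (mul_mem (mul_mem
      (m3 (S.mX4 0 γ) (by norm_num) (by norm_num)) (m3 (S.mX5 δ) (by norm_num) (by norm_num)))
      (m3 (S.mX6 0 ε) (by norm_num) (by norm_num))))
  rw [h2, one_mul] at h
  have h3 : (S.e 2 0 γ)⁻¹ * S.e 2 p u = 1 := by
    apply Z8.inter 4 _ (mul_mem (inv_mem (S.mX4 0 γ)) (S.mX4 p u))
    have e : (S.e 2 0 γ)⁻¹ * S.e 2 p u = S.o 2 δ * S.e 3 0 ε := by rw [h]; group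
    rw [e]
    exact mul_mem (m3 (S.mX5 δ) (by norm_num) (by norm_num)) (m3 (S.mX6 0 ε) (by norm_num) (by norm_num))
  rw [inv_mul_eq_one] at h3
  exact (S.injE 2 _ _ _ _ h3).1.symm

/-! ### `Q₂` -/

theorem inQ_iff {x : X} : InQ (sh S) x ↔ x ∈ S.Q2 := by
  constructor
  · rintro ⟨α, β, γ, δ, ε, rfl⟩
    rw [q5_eq]
    exact mul_mem (mul_mem (mul_mem (mul_mem (S.q2_1 α) (S.q2_2 β)) (S.q2_3 γ)) (S.q2_4 δ)) (S.q2_5 ε)
  · intro hx
    have : S.Q2 ≤ InQG (sh S) := by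
      apply S.Q2_le
      · intro u
        refine ⟨u, 0, 0, 0, 0, ?_⟩
        rw [← se7, z7_eq]
      · intro t
        refine ⟨0, t, 0, 0, 0, ?_⟩
        rw [← so7, o7_eq]
      · intro u
        refine ⟨0, 0, u, 0, 0, ?_⟩
        rw [← se0, z0_eq]
      · intro t
        refine ⟨0, 0, 0, t, 0, ?_⟩
        rw [← so0, o0_eq]
      · intro u
        refine ⟨0, 0, 0, 0, u, ?_⟩
        rw [← se1, z1_eq]
    exact this hx

theorem lin_Q {y : X} (hy : y ∈ S.Q) : Lin (sh S) y := by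
  have : S.Q ≤ LinG (sh S) := by
    refine J_le fun k h1 h2 x hx => ?_
    show Lin (sh S) x
    interval_cases k
    · obtain ⟨t, rfl⟩ := S.X1 hx
      rw [← so6]
      refine ⟨0, 0, 0, t, fun α β γ δ ε => ?_⟩
      rw [Nn.q5_o6]; congr 1; ring
    · obtain ⟨p, u, rfl⟩ := S.X2 hx
      rw [← se7]
      refine ⟨0, 0, p, 0, fun α β γ δ ε => ?_⟩
      rw [q5_e7]; congr 1; ring
    · obtain ⟨t, rfl⟩ := S.X3 hx
      rw [← so7, o7_eq]; exact Lin.q5 _ _ _ _ _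
    · obtain ⟨p, u, rfl⟩ := S.X4 hx
      rw [← se0]
      exact Lin.of_comm fun _ _ _ _ _ => q5_e0 _ _ _ _ _ _ _ _
    · obtain ⟨t, rfl⟩ := S.X5 hx
      rw [← so0, o0_eq]; exact Lin.q5 _ _ _ _ _
    · obtain ⟨p, u, rfl⟩ := S.X6 hx
      rw [← se1]
      refine ⟨0, p, 0, 0, fun α β γ δ ε => ?_⟩
      rw [q5_e1]; congr 1; ring
    · obtain ⟨t, rfl⟩ := S.X7 hx
      rw [← so1]
      refine ⟨t, 0, 0, 0, fun α β γ δ ε => ?_⟩
      rw [q5_o1]; congr 1; ring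
  exact this hy

/-- the elements with `[E₀, y] ≤ Q₂` -/
def EcG : Subgroup X where
  carrier := {y | y ∈ S.PL ∧ ∀ p u, InQ (sh S) ((S.e 2 p u)⁻¹ * (y⁻¹ * S.e 2 p u * y))}
  one_mem' := ⟨one_mem _, fun p u => by
    have : (S.e 2 p u)⁻¹ * (1⁻¹ * S.e 2 p u * 1) = 1 := by group
    rw [this]; exact InQ.one _⟩
  mul_mem' := by
    rintro y z ⟨hy, hy'⟩ ⟨hz, hz'⟩
    refine ⟨mul_mem hy hz, fun p u => ?_⟩
    have e : (S.e 2 p u)⁻¹ * ((y * z)⁻¹ * S.e 2 p u * (y * z)) = ((S.e 2 p u)⁻¹ * (z⁻¹ * S.e 2 p u * z)) *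
        (z⁻¹ * ((S.e 2 p u)⁻¹ * (y⁻¹ * S.e 2 p u * y)) * z) := by group
    rw [e]
    refine (hz' p u).mul ((inQ_iff S).2 ?_)
    have := (Subgroup.mem_normalizer_iff''.1 (S.Q2_norm hz) _).1 ((inQ_iff S).1 (hy' p u))
    exact this
  inv_mem' := by
    rintro y ⟨hy, hy'⟩
    refine ⟨inv_mem hy, fun p u => ?_⟩
    have e2 : (S.e 2 p u)⁻¹ * (y⁻¹⁻¹ * S.e 2 p u * y⁻¹) =
        y * (y⁻¹ * (S.e 2 p u)⁻¹ * y * S.e 2 p u) * y⁻¹ := by group
    have e3 : y⁻¹ * (S.e 2 p u)⁻¹ * y * S.e 2 p u = ((S.e 2 p u)⁻¹ * (y⁻¹ * S.e 2 p u * y))⁻¹ := by group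
    rw [e2, e3]
    refine (inQ_iff S).2 ((Subgroup.mem_normalizer_iff.1 (S.Q2_norm hy) _).1 (inv_mem ((inQ_iff S).1 (hy' p u))))

theorem e0c_PL {y : X} (hy : y ∈ S.PL) (p u : F) : InQ (sh S) ((S.e 2 p u)⁻¹ * (y⁻¹ * S.e 2 p u * y)) := by
  have : S.PL ≤ EcG S := by
    refine J_le fun k h1 h2 x hx => ⟨mem_J hx h1 h2, fun p u => ?_⟩
    have hz : ∀ {x : X}, Commute x (S.e 2 p u) → InQ (sh S) ((S.e 2 p u)⁻¹ * (x⁻¹ * S.e 2 p u * x)) := by
      intro x hx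
      rw [conj_comm hx, inv_mul_cancel]; exact InQ.one _
    interval_cases k
    · obtain ⟨q, v, rfl⟩ := (S.mem_XZ_even 0 x).1 hx
      exact hz (e_e2' S.toSys 0 q v p u)
    · obtain ⟨t, rfl⟩ := S.X1 hx
      have h := Hp.o6_e0 (S := sh S) t p u
      rw [so6, se0, se7] at h
      rw [h, inv_mul_cancel_left, ← se7, z7_eq]
      exact InQ.q5 _ _ _ _ _ _
    · obtain ⟨q, v, rfl⟩ := S.X2 hx
      have h : S.e 1 q v * S.e 2 p u = S.e 2 p u * S.e 1 q v * S.o 1 (q * p) := S.e_e1 1 q v p u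
      have h' : (S.e 1 q v)⁻¹ * S.e 2 p u * S.e 1 q v = S.e 2 p u * S.o 1 (q * p) := by
        have c1 := e_o0' S.toSys 1 q v (q * p)
        have h3 : S.e 2 p u * S.e 1 q v = S.e 1 q v * S.e 2 p u * S.o 1 (q * p) := by
          rw [h]
          have : S.o 1 (q * p) * S.o 1 (q * p) = 1 := End.o_sq S.toSys 1 _
          rw [mul_assoc, this, mul_one]
        calc (S.e 1 q v)⁻¹ * S.e 2 p u * S.e 1 q v = (S.e 1 q v)⁻¹ * (S.e 2 p u * S.e 1 q v) := by group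
          _ = _ := by rw [h3]; group
      rw [h', inv_mul_cancel_left, ← so7, o7_eq]
      exact InQ.q5 _ _ _ _ _ _
    · obtain ⟨t, rfl⟩ := S.X3 hx
      exact hz (o_e1' S.toSys 1 t p u)
    · obtain ⟨q, v, rfl⟩ := S.X4 hx
      have h : S.e 2 p u * S.e 2 q v = S.e 2 q v * S.e 2 p u * S.e 2 0 (p * σ q + q * σ p) := by
        rw [S.e_mul, S.e_mul, S.e_mul, map_zero, mul_zero, add_zero, add_zero, add_comm q p]
        congr 1
        have : v + u + q * σ p + (p * σ q + q * σ p) = u + v + p * σ q + (q * σ p + q * σ p) := by ring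
        rw [this, Field.add_self, add_zero]
      have h' : (S.e 2 q v)⁻¹ * S.e 2 p u * S.e 2 q v = S.e 2 p u * S.e 2 0 (p * σ q + q * σ p) := by
        calc (S.e 2 q v)⁻¹ * S.e 2 p u * S.e 2 q v = (S.e 2 q v)⁻¹ * (S.e 2 p u * S.e 2 q v) := by group
          _ = _ := by rw [h]; group
      rw [h', inv_mul_cancel_left, ← se0, z0_eq]
      exact InQ.q5 _ _ _ _ _ _
    · obtain ⟨t, rfl⟩ := S.X5 hx
      exact hz (e_o0' S.toSys 2 p u t).symm
    · obtain ⟨q, v, rfl⟩ := S.X6 hx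
      have h : S.e 2 p u * S.e 3 q v = S.e 3 q v * S.e 2 p u * S.o 2 (p * q) := S.e_e1 2 p u q v
      have h' : (S.e 3 q v)⁻¹ * S.e 2 p u * S.e 3 q v = S.e 2 p u * S.o 2 (p * q) := by
        calc (S.e 3 q v)⁻¹ * S.e 2 p u * S.e 3 q v = (S.e 3 q v)⁻¹ * (S.e 2 p u * S.e 3 q v) := by group
          _ = _ := by rw [h]; group
      rw [h', inv_mul_cancel_left, ← so0, o0_eq]
      exact InQ.q5 _ _ _ _ _ _
    · obtain ⟨t, rfl⟩ := S.X7 hx
      have h := Hp.o1_e0 (S := sh S) t p u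
      rw [so1, se0, se1] at h
      rw [h, inv_mul_cancel_left, ← se1, z1_eq]
      exact InQ.q5 _ _ _ _ _ _
    · obtain ⟨q, v, rfl⟩ := S.X8 hx
      exact hz (e_e2' S.toSys 2 p u q v).symm
  exact (this hy).2 p u

/-- **the facts `KH`** -/
theorem kh [Finite F] [Finite X] (hF : ∃ c : Fˣ, c ≠ 1) : KH (sh S) S.PL S.Q where
  uniq := uniq S
  le := J_mono (by norm_num) (by norm_num)
  o1 t := by rw [so1]; exact mem_J (S.mX7 t) (by norm_num) (by norm_num)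
  o6 t := by rw [so6]; exact mem_J (S.mX1 t) (by norm_num) (by norm_num)
  o0 t := by rw [so0]; exact mem_J (S.mX5 t) (by norm_num) (by norm_num)
  o7 t := by rw [so7]; exact mem_J (S.mX3 t) (by norm_num) (by norm_num)
  e0 p u := by rw [se0]; exact mem_J (S.mX4 p u) (by norm_num) (by norm_num)
  e1 p u := by rw [se1]; exact mem_J (S.mX6 p u) (by norm_num) (by norm_num)
  e7 p u := by rw [se7]; exact mem_J (S.mX2 p u) (by norm_num) (by norm_num)
  e2 p u := by rw [se2]; exact mem_J (S.mX8 p u) (by norm_num) (by norm_num)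
  e6 p u := by rw [se6]; exact mem_J (mX0 S p u) (by norm_num) (by norm_num)
  cen y _ h := by
    have h1 : y ∈ S.Q1 := by
      rw [← S.centralizer_Q2, Subgroup.mem_centralizer_iff]
      intro x hx
      obtain ⟨α, β, γ, δ, ε, rfl⟩ := (inQ_iff S).2 hx
      exact (h α β γ δ ε).eq.symm
    have h2 : y ∈ S.XZ 4 ⊔ S.Q2 := h1
    obtain ⟨a, ha, b, hb, rfl⟩ := mem_sup_of_norm (A := S.XZ 4) (B := S.Q2) (fun a ha b hb => by
      have := S.Q1_comm (Subgroup.mem_sup_left ha) hb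
      have e : a * b * a⁻¹ = b := by rw [this]; group
      rw [e]; exact hb) h2
    obtain ⟨p, u, rfl⟩ := S.X4 ha
    refine ⟨p, u, ?_⟩
    rw [se0, inv_mul_cancel_left]
    exact (inQ_iff S).2 hb
  nor y hy x hx := (inQ_iff S).2 ((Subgroup.mem_normalizer_iff.1 (S.Q2_norm hy) _).1 ((inQ_iff S).1 hx))
  lin y hy := lin_Q S hy
  e0c y hy p u := by
    rw [se0, commutatorElement_def]
    have e : (S.e 2 p u)⁻¹ * y⁻¹ * (S.e 2 p u)⁻¹⁻¹ * y⁻¹⁻¹ = (S.e 2 p u)⁻¹ * (y⁻¹ * S.e 2 p u * y) := by group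
    rw [e]; exact e0c_PL S hy p u
  e0n := e0n S
  perf := Perf.PL_perfect S hF

/-! ### the torus -/

/-- the torus of the Levi factor -/
def tdl (d : Fˣ) : X := S.h (Units.map (σ : F →* F) d⁻¹) d⁻¹

/-- the torus centralising the Levi factor -/
def thx (x : Fˣ) : X := S.h 1 x

theorem dl_aux (d : Fˣ) : (∀ t, tdl S d * S.o 2 t * (tdl S d)⁻¹ = S.o 2 (d * t)) ∧
    (∀ t, tdl S d * S.o 1 t * (tdl S d)⁻¹ = S.o 1 ((d⁻¹ : Fˣ) * t)) ∧
    (∀ t, tdl S d * S.o 3 t * (tdl S d)⁻¹ = S.o 3 (d * σ d * t)) ∧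
    (∀ t, tdl S d * S.o 0 t * (tdl S d)⁻¹ = S.o 0 ((d⁻¹ : Fˣ) * σ (d⁻¹ : Fˣ) * t)) := by
  have c1 : chE σ 1 (Units.map (σ : F →* F) d⁻¹) d⁻¹ = d⁻¹ := chE_one _ _ _
  have c0 : chE σ 0 (Units.map (σ : F →* F) d⁻¹) d⁻¹ = Units.map (σ : F →* F) d⁻¹ := chE_zero _ _ _
  have c2 : chE σ 2 (Units.map (σ : F →* F) d⁻¹) d⁻¹ = 1 := by rw [chE_two, div_self']
  have c3 : chE σ 3 (Units.map (σ : F →* F) d⁻¹) d⁻¹ = d := by
    rw [chE_three, map_map σ S.sq]
    rw [pow_two, div_eq_mul_inv, mul_inv_rev, inv_inv]; group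
  have c4 : chE σ 4 (Units.map (σ : F →* F) d⁻¹) d⁻¹ = Units.map (σ : F →* F) d := by
    rw [chE_four, map_inv, inv_inv]
  refine ⟨fun t => ?_, fun t => ?_, fun t => ?_, fun t => ?_⟩
  · unfold tdl
    rw [S.h_o]
    have : chO σ 2 (Units.map (σ : F →* F) d⁻¹) d⁻¹ = d := by
      show chE σ 2 _ _ * chE σ 3 _ _ = d
      rw [c2, c3, one_mul]
    rw [this]
  · unfold tdl
    rw [S.h_o]
    have : chO σ 1 (Units.map (σ : F →* F) d⁻¹) d⁻¹ = d⁻¹ := by
      show chE σ 1 _ _ * chE σ 2 _ _ = d⁻¹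
      rw [c2, c1, mul_one]
    rw [this]
  · unfold tdl
    rw [S.h_o]
    have : chO σ 3 (Units.map (σ : F →* F) d⁻¹) d⁻¹ = d * Units.map (σ : F →* F) d := by
      show chE σ 3 _ _ * chE σ 4 _ _ = _
      rw [c3, c4]
    rw [this]; rfl
  · unfold tdl
    rw [S.h_o]
    have : chO σ 0 (Units.map (σ : F →* F) d⁻¹) d⁻¹ = d⁻¹ * Units.map (σ : F →* F) d⁻¹ := by
      show chE σ 0 _ _ * chE σ 1 _ _ = _
      rw [c0, c1, mul_comm]
    rw [this]; rfl

theorem dl_aux' (d : Fˣ) : (∀ p u, tdl S d * S.e 2 p u * (tdl S d)⁻¹ = S.e 2 p u) ∧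
    (∀ p u, tdl S d * S.e 1 p u * (tdl S d)⁻¹ = S.e 1 ((d⁻¹ : Fˣ) * p) ((d⁻¹ : Fˣ) * σ (d⁻¹ : Fˣ) * u)) ∧
    (∀ p u, tdl S d * S.e 3 p u * (tdl S d)⁻¹ = S.e 3 (d * p) (d * σ d * u)) ∧
    (∀ v, tdl S d * S.e 4 0 v * (tdl S d)⁻¹ = S.e 4 0 (σ d * (d * d) * v)) ∧
    (∀ v, tdl S d * S.e 0 0 v * (tdl S d)⁻¹ = S.e 0 0 (σ (d⁻¹ : Fˣ) * ((d⁻¹ : Fˣ) * (d⁻¹ : Fˣ)) * v)) := by
  have c1 : chE σ 1 (Units.map (σ : F →* F) d⁻¹) d⁻¹ = d⁻¹ := chE_one _ _ _
  have c0 : chE σ 0 (Units.map (σ : F →* F) d⁻¹) d⁻¹ = Units.map (σ : F →* F) d⁻¹ := chE_zero _ _ _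
  have c2 : chE σ 2 (Units.map (σ : F →* F) d⁻¹) d⁻¹ = 1 := by rw [chE_two, div_self']
  have c3 : chE σ 3 (Units.map (σ : F →* F) d⁻¹) d⁻¹ = d := by
    rw [chE_three, map_map σ S.sq]
    rw [pow_two, div_eq_mul_inv, mul_inv_rev, inv_inv]; group
  have c4 : chE σ 4 (Units.map (σ : F →* F) d⁻¹) d⁻¹ = Units.map (σ : F →* F) d := by
    rw [chE_four, map_inv, inv_inv]
  unfold tdl
  refine ⟨fun p u => ?_, fun p u => ?_, fun p u => ?_, fun v => ?_, fun v => ?_⟩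
  · rw [S.h_e, c2, Units.val_one, map_one, one_mul, one_mul, one_mul]
  · rw [S.h_e, c1]
  · rw [S.h_e, c3]
  · rw [S.h_e, c4, mul_zero]
    show S.e 4 0 (σ (d : F) * σ (σ (d : F)) * v) = _
    rw [S.sq, pow_two]
  · rw [S.h_e, c0, mul_zero]
    show S.e 0 0 (σ ((d⁻¹ : Fˣ) : F) * σ (σ ((d⁻¹ : Fˣ) : F)) * v) = _
    rw [S.sq, pow_two]

theorem dlF : Dl (sh S) (tdl S) where
  e0 d p u := by rw [se0]; exact (dl_aux' S d).1 p u
  o0 d t := by rw [so0, so0]; exact (dl_aux S d).1 t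
  o7 d t := by rw [so7, so7]; exact (dl_aux S d).2.1 t
  e1 d p u := by rw [se1, se1]; exact (dl_aux' S d).2.2.1 p u
  e7 d p u := by rw [se7, se7]; exact (dl_aux' S d).2.1 p u
  o1 d t := by rw [so1, so1]; exact (dl_aux S d).2.2.1 t
  o6 d t := by rw [so6, so6]; exact (dl_aux S d).2.2.2 t
  z2 d v := by rw [se2, se2]; exact (dl_aux' S d).2.2.2.1 v
  z6 d v := by rw [se6, se6]; exact (dl_aux' S d).2.2.2.2 v

theorem hxF : Hx (sh S) (thx S) := by
  have c0 : ∀ x : Fˣ, chE σ 0 1 x = 1 := fun x => chE_zero _ _ _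
  have c1 : ∀ x : Fˣ, chE σ 1 1 x = x := fun x => chE_one _ _ _
  have c2 : ∀ x : Fˣ, chE σ 2 1 x = Units.map (σ : F →* F) x := fun x => by rw [chE_two, div_one]
  have c3 : ∀ x : Fˣ, chE σ 3 1 x = x := fun x => by rw [chE_three, map_one, div_one]
  have c4 : ∀ x : Fˣ, chE σ 4 1 x = 1 := fun x => by rw [chE_four, inv_one]
  have o0 : ∀ x : Fˣ, chO σ 0 1 x = x := fun x => by
    show chE σ 0 _ _ * chE σ 1 _ _ = _
    rw [c0, c1, one_mul]
  have o1 : ∀ x : Fˣ, chO σ 1 1 x = x * Units.map (σ : F →* F) x := fun x => by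
    show chE σ 1 _ _ * chE σ 2 _ _ = _
    rw [c1, c2]
  have o2 : ∀ x : Fˣ, chO σ 2 1 x = x * Units.map (σ : F →* F) x := fun x => by
    show chE σ 2 _ _ * chE σ 3 _ _ = _
    rw [c2, c3, mul_comm]
  have o3 : ∀ x : Fˣ, chO σ 3 1 x = x := fun x => by
    show chE σ 3 _ _ * chE σ 4 _ _ = _
    rw [c3, c4, mul_one]
  unfold thx
  refine ⟨fun x p u => ?_, fun x t => ?_, fun x t => ?_, fun x t => ?_, fun x t => ?_, fun x p u => ?_, fun x p u => ?_,
    fun x p u => ?_, fun x p u => ?_⟩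
  · rw [se0, se0, S.h_e, c2]
    show S.e 2 (σ (x : F) * p) (σ (x : F) * σ (σ (x : F)) * u) = _
    rw [S.sq, pow_two]
  · rw [so0, so0, S.h_o, o2]; rfl
  · rw [so7, so7, S.h_o, o1]; rfl
  · rw [so1, so1, S.h_o, o3]
  · rw [so6, so6, S.h_o, o0]
  · rw [se1, se1, S.h_e, c3]
  · rw [se7, se7, S.h_e, c1]
  · rw [se2, S.h_e, c4, Units.val_one, map_one, one_mul, one_mul, one_mul]
  · rw [se6, S.h_e, c0, Units.val_one, map_one, one_mul, one_mul, one_mul]

theorem comm_hx_dl (x d : Fˣ) : Commute (thx S x) (tdl S d) := by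
  unfold thx tdl
  show _ * _ = _ * _
  rw [S.h_mul, S.h_mul, mul_comm (1 : Fˣ), mul_comm x]

theorem thx_mem (x : Fˣ) : thx S x ∈ S.T := S.mem_T.2 ⟨1, x, rfl⟩

/-- `hx` acts trivially on `PL / Q` -/
theorem mod_Q (x : Fˣ) {y : X} (hy : y ∈ S.PL) : dlt (thx S x) y ∈ S.Q := by
  let D : Subgroup X :=
    { carrier := {y | y ∈ S.PL ∧ dlt (thx S x) y ∈ S.Q}
      one_mem' := ⟨one_mem _, by
        have : dlt (thx S x) 1 = 1 := by unfold dlt; group
        rw [this]; exact one_mem _⟩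
      mul_mem' := by
        rintro y z ⟨hy, hy'⟩ ⟨hz, hz'⟩
        refine ⟨mul_mem hy hz, ?_⟩
        rw [dlt_mul]
        have := Perf.Q_norm S (inv_mem hz) hy'
        rw [inv_inv] at this
        exact mul_mem this hz'
      inv_mem' := by
        rintro y ⟨hy, hy'⟩
        refine ⟨inv_mem hy, ?_⟩
        have e : dlt (thx S x) y⁻¹ = y * (dlt (thx S x) y)⁻¹ * y⁻¹ := by unfold dlt; group
        rw [e]
        exact Perf.Q_norm S hy (inv_mem hy') }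
  have : S.PL ≤ D := by
    refine J_le fun k h1 h2 y hy => ⟨mem_J hy h1 h2, ?_⟩
    rcases eq_or_lt_of_le h1 with h3 | h3
    · subst h3
      obtain ⟨p, u, rfl⟩ := (S.mem_XZ_even 0 y).1 hy
      have : dlt (thx S x) (S.e 0 p u) = 1 := by
        unfold dlt
        have := (hxF S).e6 x p u
        rw [se6] at this
        rw [this, inv_mul_cancel]
      have e : S.e (((0 : ℤ) : ZMod 8)) p u = S.e 0 p u := by norm_num
      rw [e, this]; exact one_mem _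
    · rcases eq_or_lt_of_le h2 with h4 | h4
      · subst h4
        obtain ⟨p, u, rfl⟩ := S.X8 hy
        have : dlt (thx S x) (S.e 4 p u) = 1 := by
          unfold dlt
          have := (hxF S).e2 x p u
          rw [se2] at this
          rw [this, inv_mul_cancel]
        rw [this]; exact one_mem _
      · have h5 := S.T_conj (thx_mem S x) k hy
        exact mul_mem (inv_mem (mem_J hy (by omega) (by omega))) (mem_J h5 (by omega) (by omega))
  exact (this hy).2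

/-- an element of the torus moving `Z_4` -/
theorem hx_move (hF : ∃ c : Fˣ, c ≠ 1) : ∃ x : Fˣ, ∃ u : F, thx S x * S.e 2 0 u * (thx S x)⁻¹ ≠ S.e 2 0 u := by
  obtain ⟨x, hx⟩ := hF
  refine ⟨x, 1, fun h => ?_⟩
  have h1 := (hxF S).e0 x 0 1
  rw [se0, se0, mul_zero, mul_one] at h1
  rw [h1] at h
  have h2 := (S.injE 2 _ _ _ _ h).2
  -- `σ x * x² = 1`
  have h3 : Units.map (σ : F →* F) x * (x * x) = 1 := Units.ext h2
  apply hx
  have h4 : x * (x * Units.map (σ : F →* F) x) = 1 := by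
    rw [← h3]
    rw [← mul_assoc, mul_comm]
  exact S.unit_eq_one' h4

end Cfsg.Agent.OddHalf.D4.TwF.KSide

end

-- merged: Cfsg.Agent.OddHalf.D4.TwF.Gnorm
section

/-!
# ODD D4, `K = ²F₄(q)`: normalising the conjugating element

An element of `G` normalising `H = PL` may be changed by an element of `H` to normalise `U` and the torus `T_4` of the
Levi factor.
-/

set_option autoImplicit false
set_option linter.unusedSectionVars false

namespace Cfsg.Agent.OddHalf.D4.TwF.Gnorm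

open Subgroup Cfsg.Agent.OddHalf.D4.Basic
open Cfsg.Agent.OddHalf.D4.CommConj (cj mem_cj cj_mul card_cj mem_cj_mul)

/-! ### abstract part -/

section abs

variable {G : Type*} [Group G] [Finite G]

open Pointwise in
/-- complements of a normal 2-subgroup are conjugate -/
theorem exists_conj_compl {Q H H' : Subgroup G} (hQ : IsPGroup 2 Q)
    (hH : Odd (Nat.card H)) (hHQ : ∀ h ∈ H, ∀ q ∈ Q, h * q * h⁻¹ ∈ Q) (hcard : Nat.card H' = Nat.card H)
    (hH' : ∀ k ∈ H', ∃ h ∈ H, ∃ q ∈ Q, k = h * q) :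
    ∃ q ∈ Q, ∀ k ∈ H', q * k * q⁻¹ ∈ H := by
  classical
  set Γ : Subgroup G := Q ⊔ H with hΓ
  have hQΓ : Q ≤ Γ := le_sup_left
  have hHΓ : H ≤ Γ := le_sup_right
  have hle : Γ ≤ Subgroup.normalizer (Q : Set G) := by
    rw [hΓ, sup_le_iff]
    refine ⟨Subgroup.le_normalizer, ?_⟩
    intro h hh
    rw [Subgroup.mem_normalizer_iff]
    intro q
    constructor
    · exact hHQ h hh q
    · intro hq
      have := hHQ h⁻¹ (inv_mem hh) _ hq
      have e : h⁻¹ * (h * q * h⁻¹) * h⁻¹⁻¹ = q := by group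
      rwa [e] at this
  have hKΓ : H' ≤ Γ := by
    intro k hk
    obtain ⟨h, hh, q, hq, rfl⟩ := hH' k hk
    exact mul_mem (hHΓ hh) (hQΓ hq)
  let N : Subgroup Γ := Q.subgroupOf Γ
  have hN : N.Normal := Subgroup.normal_subgroupOf_iff_le_normalizer hQΓ |>.2 hle
  have cN : Nat.card N = Nat.card Q := Nat.card_congr (Subgroup.subgroupOfEquivOfLe hQΓ).toEquiv
  have cH : Nat.card (H.subgroupOf Γ) = Nat.card H := Nat.card_congr (Subgroup.subgroupOfEquivOfLe hHΓ).toEquiv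
  have cK : Nat.card (H'.subgroupOf Γ) = Nat.card H' :=
    Nat.card_congr (Subgroup.subgroupOfEquivOfLe hKΓ).toEquiv
  obtain ⟨m, hm⟩ := (IsPGroup.iff_card).1 hQ
  have hcop : (Nat.card N).Coprime (Nat.card H) := by
    rw [cN, hm]; exact (Nat.coprime_two_left.2 hH).pow_left m
  have dH : Nat.Coprime (Nat.card N) (Nat.card (H.subgroupOf Γ)) := by rw [cH]; exact hcop
  have dK : Nat.Coprime (Nat.card N) (Nat.card (H'.subgroupOf Γ)) := by rw [cK, hcard]; exact hcop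
  have compH : Subgroup.IsComplement' N (H.subgroupOf Γ) := by
    apply Subgroup.isComplement'_of_disjoint_and_mul_eq_univ (Subgroup.disjoint_of_coprime_natCard dH)
    rw [← Subgroup.normal_mul, ← Subgroup.subgroupOf_sup hQΓ hHΓ, Subgroup.subgroupOf_self]
    rfl
  have compK : Subgroup.IsComplement' N (H'.subgroupOf Γ) := by
    apply Subgroup.isComplement'_of_coprime _ dK
    rw [← compH.card_mul_card, cK, cH, hcard]
  have hi : N.index = Nat.card H := by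
    rw [compH.symm.index_eq_card, cH]
  have := hQ.isNilpotent
  obtain ⟨g, hg⟩ := Cfsg.Agent.S0001.result N (by rw [hi]; exact hcop)
    (Or.inl (by
      have : Group.IsSolvable Q := inferInstance
      exact Group.isSolvable_of_isSolvable_injective (f := (Subgroup.subgroupOfEquivOfLe hQΓ).toMonoidHom)
        (Subgroup.subgroupOfEquivOfLe hQΓ).injective)) _ _ compK compH
  obtain ⟨⟨⟨h0, hh0⟩, ⟨q0, hq0⟩⟩, hgh⟩ := compH.symm.2 g
  have hq0' : (q0 : G) ∈ Q := hq0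
  have hh0' : (h0 : G) ∈ H := hh0
  refine ⟨q0, hq0', fun k hk => ?_⟩
  have h1 : (⟨k, hKΓ hk⟩ : Γ) ∈ H'.subgroupOf Γ := hk
  have h2 := Subgroup.smul_mem_pointwise_smul _ (MulAut.conj g) _ h1
  rw [hg] at h2
  have h3 : (g : G) * k * (g : G)⁻¹ ∈ H := h2
  have h4 : (g : G) = h0 * q0 := by rw [← hgh]; rfl
  rw [h4] at h3
  have h5 := mul_mem (mul_mem (inv_mem hh0') h3) hh0'
  have e : (h0 : G)⁻¹ * (h0 * q0 * k * (h0 * q0 : G)⁻¹) * h0 = q0 * k * (q0 : G)⁻¹ := by group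
  rwa [e] at h5

/-- a map of a finite subgroup into itself is onto -/
theorem conj_inv_mem {U : Subgroup G} {g : G} (h : ∀ x ∈ U, g * x * g⁻¹ ∈ U) : ∀ x ∈ U, g⁻¹ * x * g ∈ U := by
  have h1 : cj g U ≤ U := by
    intro x hx
    have h2 := h _ (mem_cj.1 hx)
    have e : g * (g⁻¹ * x * g) * g⁻¹ = x := by group
    rwa [e] at h2
  have h3 : cj g U = U := eq_of_le_of_card_ge h1 (by rw [card_cj])
  intro x hx
  rw [← h3] at hx
  exact mem_cj.1 hx

/-- **normalisation of `g`** -/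
theorem normalise {H U T : Subgroup G} (hU : IsSyl U H) (hT : T ≤ H) (hTU : ∀ t ∈ T, ∀ u ∈ U, t * u * t⁻¹ ∈ U)
    (hodd : Odd (Nat.card T)) (hN : ∀ x ∈ H, (∀ u ∈ U, x * u * x⁻¹ ∈ U) → ∃ u ∈ U, ∃ t ∈ T, x = u * t)
    {g : G} (hg : ∀ x ∈ H, g * x * g⁻¹ ∈ H) :
    ∃ y ∈ H, (∀ x ∈ U, (y * g) * x * (y * g)⁻¹ ∈ U) ∧ ∀ x ∈ T, (y * g) * x * (y * g)⁻¹ ∈ T := by
  have h2 : IsPGroup 2 ↥(cj g U) := hU.two.map _
  have h3 : cj g U ≤ H := by
    intro x hx
    have h4 := hg _ (hU.le (mem_cj.1 hx))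
    have e : g * (g⁻¹ * x * g) * g⁻¹ = x := by group
    rwa [e] at h4
  obtain ⟨m, hm, hmU⟩ := hU.conj_into h2 h3
  set g1 := m * g with hg1
  have h1U : ∀ x ∈ U, g1 * x * g1⁻¹ ∈ U := by
    intro x hx
    have := hmU _ (mem_cj_mul (g := g) hx)
    have e : m * (g * x * g⁻¹) * m⁻¹ = g1 * x * g1⁻¹ := by rw [hg1]; group
    rwa [e] at this
  have h1U' := conj_inv_mem h1U
  have h1H : ∀ x ∈ H, g1 * x * g1⁻¹ ∈ H := by
    intro x hx
    have e : g1 * x * g1⁻¹ = m * (g * x * g⁻¹) * m⁻¹ := by rw [hg1]; group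
    rw [e]
    exact H.mul_mem (H.mul_mem hm (hg x hx)) (H.inv_mem hm)
  obtain ⟨q, hq, hqT⟩ := exists_conj_compl (H' := cj g1 T) hU.two hodd hTU (card_cj _ _) (by
    intro k hk
    have hk' := mem_cj.1 hk
    set t := g1⁻¹ * k * g1 with ht
    have hkt : k = g1 * t * g1⁻¹ := by rw [ht]; group
    obtain ⟨u, hu, t', ht', e⟩ := hN k (by rw [hkt]; exact h1H _ (hT hk')) (by
      intro u hu
      have e2 : k * u * k⁻¹ = g1 * (t * (g1⁻¹ * u * g1) * t⁻¹) * g1⁻¹ := by rw [hkt]; group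
      rw [e2]
      exact h1U _ (hTU _ hk' _ (h1U' u hu)))
    refine ⟨t', ht', t'⁻¹ * u * t', ?_, by rw [e]; group⟩
    have := hTU t'⁻¹ (T.inv_mem ht') u hu
    rwa [inv_inv] at this)
  refine ⟨q * m, H.mul_mem (hU.le hq) hm, fun x hx => ?_, fun x hx => ?_⟩
  · have e : q * m * g * x * (q * m * g)⁻¹ = q * (g1 * x * g1⁻¹) * q⁻¹ := by rw [hg1]; group
    rw [e]
    exact U.mul_mem (U.mul_mem hq (h1U x hx)) (U.inv_mem hq)
  · have e : q * m * g * x * (q * m * g)⁻¹ = q * (g1 * x * g1⁻¹) * q⁻¹ := by rw [hg1]; group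
    rw [e]
    exact hqT _ (mem_cj_mul hx)

end abs

/-! ### the parabolic subgroup -/

open Cfsg.Agent.KFacts.TwF4 Cfsg.Agent.OddHalf.D4.TwF.KSide
open Cfsg.Agent.SplitTwo Cfsg.Agent.SplitTwo.ZS Cfsg.Agent.TitsThree.RankTwoZ Cfsg.Agent.TitsThree.RankTwoRGD
open Cfsg.Agent.SplitTwo.RootSysZ

universe u

variable {F : Type*} [Field F] [CharP F 2] {σ : F →+* F} {X : Type u} [Group X] (S : Full σ X)

/-- `tdl` as a homomorphism -/
def tdlM : Fˣ →* X where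
  toFun := tdl S
  map_one' := by
    unfold tdl
    rw [inv_one, map_one]; exact S.h_one
  map_mul' a b := by
    unfold tdl
    rw [S.h_mul, mul_inv, map_mul]

/-- the torus `T_4` -/
def T4 : Subgroup X := (tdlM S).range

theorem T4_le_T : T4 S ≤ S.T := by
  rintro x ⟨d, rfl⟩
  exact S.mem_T.2 ⟨_, _, rfl⟩

theorem odd_units [Finite F] : Odd (Nat.card Fˣ) := by
  have := Fintype.ofFinite F
  classical
  rw [Nat.card_eq_fintype_card, Fintype.card_units]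
  have h1 : Even (Fintype.card F) := by
    obtain ⟨n, hn⟩ := FiniteField.card F 2
    rw [hn.2]
    exact (Nat.even_pow.2 ⟨even_two, n.ne_zero⟩)
  exact Nat.Even.sub_odd Fintype.card_pos h1 odd_one

theorem odd_T4 [Finite F] : Odd (Nat.card (T4 S)) :=
  Odd.of_dvd_nat odd_units (Subgroup.card_range_dvd (tdlM S))

/-- an element of the torus in `PL` lies in `T_4` -/
theorem T4_of_PL {t : X} (ht : t ∈ S.T) (hP : t ∈ S.PL) : t ∈ T4 S := by
  obtain ⟨c, d, rfl⟩ := S.mem_T.1 ht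
  have h1 : S.h c d * S.e 2 0 1 = S.e 2 0 1 * S.h c d := S.comm_PL hP ⟨1, rfl⟩
  have h2 : S.h c d * S.e 2 0 1 * (S.h c d)⁻¹ = S.e 2 0 1 := by rw [h1]; group
  rw [S.h_e, mul_zero, mul_one] at h2
  have h3 := (S.injE 2 _ _ _ _ h2).2
  have h4 : chE σ 2 c d * Units.map (σ : F →* F) (chE σ 2 c d) = 1 := Units.ext h3
  have h5 := S.unit_eq_one h4
  rw [chE_two, div_eq_one] at h5
  refine ⟨d⁻¹, ?_⟩
  show S.h (Units.map (σ : F →* F) d⁻¹⁻¹) d⁻¹⁻¹ = _
  rw [inv_inv, h5]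

theorem T4_le_PL [Finite F] : T4 S ≤ S.PL := by
  rintro x ⟨d, rfl⟩
  exact S.h_mem_PL d⁻¹

theorem U_le_PL : J S.XZ 1 8 ≤ S.PL := J_mono (by norm_num) le_rfl

/-- the normaliser of `U` in `PL` -/
theorem norm_U_PL [Finite F] [Finite X] (hF : ∃ c : Fˣ, c ≠ 1) (hR : S.R.p = 2) {x : X} (hx : x ∈ S.PL)
    (h : ∀ u ∈ J S.XZ 1 8, x * u * x⁻¹ ∈ J S.XZ 1 8) : ∃ u ∈ J S.XZ 1 8, ∃ t ∈ T4 S, x = u * t := by
  have h' := conj_inv_mem h
  obtain ⟨b, hb, t, ht, e⟩ := SylU.norm_U S hF hR (g := x) (fun y => ⟨h y, fun hy => by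
    have := h' _ hy
    have e : x⁻¹ * (x * y * x⁻¹) * x = y := by group
    rwa [e] at this⟩)
  refine ⟨b, hb, t, T4_of_PL S ht ?_, e⟩
  have e2 : t = b⁻¹ * x := by rw [e]; group
  rw [e2]
  exact mul_mem (inv_mem (U_le_PL S hb)) hx

section map

variable {G : Type*} [Group G] [Finite G] {j : X →* G} (hj : Function.Injective j)

include hj

omit [CharP F 2] [Finite G] in
/-- the image of a Sylow subgroup -/
theorem isSyl_range (P : Sylow 2 X) : IsSyl ((P : Subgroup X).map j) j.range := by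
  refine ⟨P.2.map _, ?_, ?_⟩
  · rintro _ ⟨x, -, rfl⟩; exact ⟨x, rfl⟩
  intro V hV hUV hVP
  have h1 : IsPGroup 2 ↥(V.comap j) := hV.comap_of_injective j hj
  have h2 : (P : Subgroup X) ≤ V.comap j := fun x hx => hUV ⟨x, hx, rfl⟩
  have h3 := P.3 h1 h2
  intro v hv
  obtain ⟨x, rfl⟩ := hVP hv
  refine ⟨x, ?_, rfl⟩
  rw [← h3]; exact hv

omit [Finite G] in
/-- `U` is a Sylow subgroup of `K` -/
theorem syl_U_range [Finite F] [Finite X] (hF : ∃ c : Fˣ, c ≠ 1) (hR : S.R.p = 2) :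
    IsSyl ((J S.XZ 1 8).map j) j.range := by
  obtain ⟨P, hP⟩ := SylU.exists_sylow S hF hR
  rw [← hP]
  exact isSyl_range hj P

omit [Finite G] in
/-- `U` is a Sylow subgroup of `PL` -/
theorem syl_U [Finite F] [Finite X] (hF : ∃ c : Fˣ, c ≠ 1) (hR : S.R.p = 2) :
    IsSyl ((J S.XZ 1 8).map j) (S.PL.map j) :=
  (syl_U_range S hj hF hR).mono (map_mono (U_le_PL S)) (by rintro _ ⟨x, -, rfl⟩; exact ⟨x, rfl⟩)

/-- **normalisation of `g`** -/
theorem exists_norm [Finite F] [Finite X] (hF : ∃ c : Fˣ, c ≠ 1) (hR : S.R.p = 2) {g : G}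
    (hg : ∀ x ∈ S.PL.map j, g * x * g⁻¹ ∈ S.PL.map j) :
    ∃ y ∈ S.PL.map j, (∀ x ∈ (J S.XZ 1 8).map j, (y * g) * x * (y * g)⁻¹ ∈ (J S.XZ 1 8).map j) ∧
      ∀ x ∈ (T4 S).map j, (y * g) * x * (y * g)⁻¹ ∈ (T4 S).map j := by
  refine normalise (syl_U S hj hF hR) (map_mono (T4_le_PL S)) ?_ ?_ ?_ hg
  · rintro _ ⟨t, ht, rfl⟩ _ ⟨u, hu, rfl⟩
    refine ⟨t * u * t⁻¹, S.T_conj_J (T4_le_T S ht) hu, by simp only [_root_.map_mul, _root_.map_inv]⟩
  · rw [Subgroup.card_map_of_injective hj]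
    exact odd_T4 S
  · rintro _ ⟨x, hx, rfl⟩ h
    obtain ⟨u, hu, t, ht, e⟩ := norm_U_PL S hF hR hx (fun u hu => by
      obtain ⟨v, hv, e⟩ := h (j u) ⟨u, hu, rfl⟩
      have e2 : v = x * u * x⁻¹ := hj (by rw [e]; simp only [_root_.map_mul, _root_.map_inv])
      rw [← e2]; exact hv)
    exact ⟨j u, ⟨u, hu, rfl⟩, j t, ⟨t, ht, rfl⟩, by rw [e, map_mul]⟩

end map

end Cfsg.Agent.OddHalf.D4.TwF.Gnorm

end

-- merged: Cfsg.Agent.OddHalf.D4.TwF.Kill
section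

/-!
# ODD D4, `K = ²F₄(q)`: an element `g` normalising `PL`, with `gAg⁻¹ ≤ A Z_4`, gives `|A| ≤ 2`
-/

set_option autoImplicit false
set_option linter.unusedSectionVars false

namespace Cfsg.Agent.OddHalf.D4.TwF.Kill

open Subgroup Cfsg.Agent.KFacts.TwF4 Cfsg.Agent.OddHalf.D4.TwF.Field Cfsg.Agent.OddHalf.D4.TwF.End
open Cfsg.Agent.OddHalf.D4.TwF.QTwo Cfsg.Agent.OddHalf.D4.TwF.Mir Cfsg.Agent.OddHalf.D4.TwF.Norm
open Cfsg.Agent.OddHalf.D4.TwF.MkFam Cfsg.Agent.OddHalf.D4.TwF.Bone Cfsg.Agent.OddHalf.D4.TwF.KSide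
open Cfsg.Agent.OddHalf.D4.TwF.Gnorm Cfsg.Agent.OddHalf.D4.Basic
open Cfsg.Agent.SplitTwo Cfsg.Agent.SplitTwo.ZS Cfsg.Agent.TitsThree.RankTwoZ Cfsg.Agent.TitsThree.RankTwoRGD
open Cfsg.Agent.SplitTwo.RootSysZ
open Cfsg.Agent.OddHalf.D4.CommConj (cj mem_cj cj_mul card_cj mem_cj_mul)
open scoped commutatorElement

universe u

/-! ### transport by an injective homomorphism -/

section map

variable {F : Type*} [Field F] [CharP F 2] {σ τ : F →+* F} {X G : Type*} [Group X] [Group G]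
variable {S : Sys σ X} {j : X →* G} (hj : Function.Injective j)

theorem q5_map (α β γ δ ε : F) : q5 (mapS S j hj) α β γ δ ε = j (q5 S α β γ δ ε) := by
  unfold q5
  simp only [mapS_e, mapS_o, map_mul]

theorem inQ_map {x : X} : InQ (mapS S j hj) (j x) ↔ InQ S x := by
  constructor
  · rintro ⟨a, b, c, d, e, h⟩
    rw [q5_map] at h
    exact ⟨a, b, c, d, e, hj h⟩
  · rintro ⟨a, b, c, d, e, rfl⟩
    exact ⟨a, b, c, d, e, (q5_map hj a b c d e).symm⟩

theorem exists_of_inQ {y : G} (h : InQ (mapS S j hj) y) : ∃ x, InQ S x ∧ y = j x := by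
  obtain ⟨a, b, c, d, e, rfl⟩ := h
  exact ⟨_, ⟨a, b, c, d, e, rfl⟩, q5_map hj a b c d e⟩

theorem kh_map {H Q : Subgroup X} (k : KH S H Q) : KH (mapS S j hj) (H.map j) (Q.map j) where
  uniq := by
    intro α β γ δ ε α' β' γ' δ' ε' h
    rw [q5_map, q5_map] at h
    exact k.uniq _ _ _ _ _ _ _ _ _ _ (hj h)
  le := map_mono k.le
  o1 t := ⟨_, k.o1 t, rfl⟩
  o6 t := ⟨_, k.o6 t, rfl⟩
  o0 t := ⟨_, k.o0 t, rfl⟩
  o7 t := ⟨_, k.o7 t, rfl⟩
  e0 p u := ⟨_, k.e0 p u, rfl⟩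
  e1 p u := ⟨_, k.e1 p u, rfl⟩
  e7 p u := ⟨_, k.e7 p u, rfl⟩
  e2 p u := ⟨_, k.e2 p u, rfl⟩
  e6 p u := ⟨_, k.e6 p u, rfl⟩
  cen := by
    rintro _ ⟨y, hy, rfl⟩ h
    obtain ⟨p, u, h1⟩ := k.cen y hy (fun α β γ δ ε => by
      have := h α β γ δ ε
      rw [q5_map] at this
      show y * _ = _ * y
      apply hj
      rw [map_mul, map_mul]; exact this.eq)
    refine ⟨p, u, ?_⟩
    rw [mapS_e, ← map_inv, ← map_mul]
    exact (inQ_map hj).2 h1
  nor := by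
    rintro _ ⟨y, hy, rfl⟩ x hx
    obtain ⟨x, hx', rfl⟩ := exists_of_inQ hj hx
    have := (inQ_map hj).2 (k.nor y hy x hx')
    rwa [map_mul, map_mul, map_inv] at this
  lin := by
    rintro _ ⟨y, hy, rfl⟩
    obtain ⟨l1, l2, l3, l4, h⟩ := k.lin y hy
    refine ⟨l1, l2, l3, l4, fun α β γ δ ε => ?_⟩
    rw [q5_map, q5_map, ← h, map_mul, map_mul, map_inv]
  e0c := by
    rintro _ ⟨y, hy, rfl⟩ p u
    have := (inQ_map hj).2 (k.e0c y hy p u)
    rw [commutatorElement_def] at this ⊢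
    simpa only [map_mul, map_inv, mapS_e] using this
  e0n p u h := k.e0n p u ((inQ_map hj).1 h)
  perf := by rw [← map_commutator, k.perf]

theorem dl_map {dl : Fˣ → X} (D : Dl S dl) : Dl (mapS S j hj) (fun d => j (dl d)) where
  e0 d p u := by simp only [mapS_e, ← map_mul, ← map_inv, D.e0]
  o0 d t := by simp only [mapS_o, ← map_mul, ← map_inv, D.o0]
  o7 d t := by simp only [mapS_o, ← map_mul, ← map_inv, D.o7]
  e1 d p u := by simp only [mapS_e, ← map_mul, ← map_inv, D.e1]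
  e7 d p u := by simp only [mapS_e, ← map_mul, ← map_inv, D.e7]
  o1 d t := by simp only [mapS_o, ← map_mul, ← map_inv, D.o1]
  o6 d t := by simp only [mapS_o, ← map_mul, ← map_inv, D.o6]
  z2 d v := by simp only [mapS_e, ← map_mul, ← map_inv, D.z2]
  z6 d v := by simp only [mapS_e, ← map_mul, ← map_inv, D.z6]

theorem hx_map {hx : Fˣ → X} (D : Hx S hx) : Hx (mapS S j hj) (fun d => j (hx d)) where
  e0 d p u := by simp only [mapS_e, ← map_mul, ← map_inv, D.e0]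
  o0 d t := by simp only [mapS_o, ← map_mul, ← map_inv, D.o0]
  o7 d t := by simp only [mapS_o, ← map_mul, ← map_inv, D.o7]
  o1 d t := by simp only [mapS_o, ← map_mul, ← map_inv, D.o1]
  o6 d t := by simp only [mapS_o, ← map_mul, ← map_inv, D.o6]
  e1 d p u := by simp only [mapS_e, ← map_mul, ← map_inv, D.e1]
  e7 d p u := by simp only [mapS_e, ← map_mul, ← map_inv, D.e7]
  e2 d p u := by simp only [mapS_e, ← map_mul, ← map_inv, D.e2]
  e6 d p u := by simp only [mapS_e, ← map_mul, ← map_inv, D.e6]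

end map

/-- the inverse of `σ` -/
theorem exists_inv {F : Type*} [Field F] [Finite F] {σ : F →+* F} (hσ : ∀ x, σ (σ x) = x ^ 2)
    (hF : ∃ c : Fˣ, c ≠ 1) : ∃ τ : F →+* F, _root_.Cfsg.Agent.OddHalf.D4.TwF.Field.Inv σ τ := by
  have hb : Function.Bijective σ := Finite.injective_iff_bijective.1 σ.injective
  obtain ⟨c, hc⟩ := hF
  refine ⟨((RingEquiv.ofBijective σ hb).symm : F →+* F), hσ, fun x => ?_, fun x => ?_, c, c.ne_zero,
    fun h => hc (Units.ext h)⟩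
  · exact (RingEquiv.ofBijective σ hb).symm_apply_apply x
  · exact (RingEquiv.ofBijective σ hb).apply_symm_apply x

/-! ### inner automorphisms -/

theorem aut_apply {X G : Type*} [Group X] [Group G] {j : X →* G} (hj : Function.Injective j) {y : G}
    (hy : y ∈ normalizer (j.range : Set G)) (x : X) :
    j ((MulAut.congr (MonoidHom.ofInjective hj).symm (j.range.normalizerMonoidHom ⟨y, hy⟩)) x) = y * j x * y⁻¹ := by
  have h1 : ∀ k : ↥j.range, j ((MonoidHom.ofInjective hj).symm k) = k := by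
    intro k
    have := (MonoidHom.ofInjective hj).apply_symm_apply k
    exact congrArg Subtype.val this
  show j ((MonoidHom.ofInjective hj).symm ((j.range.normalizerMonoidHom ⟨y, hy⟩) (MonoidHom.ofInjective hj x))) = _
  rw [h1]
  rfl

/-- a 2-element normalising `K` lies in `K C(K)`, if the automorphisms of 2-power order are inner -/
theorem inner_of {X G : Type*} [Group X] [Group G] {j : X →* G} (hj : Function.Injective j)
    (hin : ∀ (α : MulAut X) (n : ℕ), α ^ 2 ^ n = 1 → ∃ x, α = MulAut.conj x) {y : G}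
    (hy : y ∈ normalizer (j.range : Set G)) {n : ℕ} (hn : y ^ 2 ^ n = 1) :
    y ∈ j.range ⊔ centralizer (j.range : Set G) := by
  obtain ⟨x, hx⟩ := hin (MulAut.congr (MonoidHom.ofInjective hj).symm (j.range.normalizerMonoidHom ⟨y, hy⟩)) n (by
    rw [← map_pow, ← map_pow]
    have : (⟨y, hy⟩ : ↥(normalizer (j.range : Set G))) ^ 2 ^ n = 1 := Subtype.ext hn
    rw [this, map_one, map_one])
  have h1 : (j x)⁻¹ * y ∈ centralizer (j.range : Set G) := by
    rw [mem_centralizer_iff]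
    rintro _ ⟨z, rfl⟩
    have h2 := aut_apply hj hy z
    rw [hx, MulAut.conj_apply, map_mul, map_mul, map_inv] at h2
    calc j z * ((j x)⁻¹ * y) = (j x)⁻¹ * (j x * j z * (j x)⁻¹) * y := by group
      _ = (j x)⁻¹ * y * j z := by rw [h2]; group
  have e : y = j x * ((j x)⁻¹ * y) := by group
  rw [e]
  exact mul_mem_sup ⟨x, rfl⟩ h1

/-! ### the conjugating element -/

section kill

variable {F : Type*} [Field F] [CharP F 2] [Finite F] {σ : F →+* F} {X : Type u} [Group X] [Finite X] (S : Full σ X)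
variable {G : Type*} [Group G] {j : X →* G} (hj : Function.Injective j)

include hj

/-- normal 2-subgroups of `H` -/
theorem O2_G (hF : ∃ c : Fˣ, c ≠ 1) (hR : S.R.p = 2) {N : Subgroup G} (hN : N ≤ S.PL.map j)
    (h2 : IsPGroup 2 ↥N) (hn : ∀ g ∈ S.PL.map j, ∀ x ∈ N, g * x * g⁻¹ ∈ N) : N ≤ S.Q.map j := by
  have h1 : N.comap j ≤ S.Q := by
    apply Perf.O2_PL S hF hR
    · intro x hx
      obtain ⟨y, hy, e⟩ := hN hx
      rw [← hj e]; exact hy
    · exact h2.comap_of_injective j hj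
    · intro g hg x hx
      rw [mem_comap] at hx ⊢
      rw [map_mul, map_mul, map_inv]
      exact hn _ ⟨g, hg, rfl⟩ _ hx
  intro x hx
  obtain ⟨y, hy, rfl⟩ := hN hx
  exact ⟨y, h1 hx, rfl⟩

variable [Finite G] {g : G}

theorem g_Q (hF : ∃ c : Fˣ, c ≠ 1) (hR : S.R.p = 2) (hg : ∀ x ∈ S.PL.map j, g * x * g⁻¹ ∈ S.PL.map j) :
    ∀ x ∈ S.Q.map j, g * x * g⁻¹ ∈ S.Q.map j := by
  have hg' := conj_inv_mem hg
  have h1 : cj g (S.Q.map j) ≤ S.Q.map j := by
    have hQ : S.Q ≤ S.PL := J_mono (by norm_num) (by norm_num)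
    apply O2_G S hj hF hR
    · intro x hx
      have := hg _ (map_mono hQ (mem_cj.1 hx))
      have e : g * (g⁻¹ * x * g) * g⁻¹ = x := by group
      rwa [e] at this
    · exact ((Perf.two_Q S hR).map j).map _
    · intro h hh x hx
      rw [mem_cj] at hx ⊢
      have h2 := hg' h hh
      have e : g⁻¹ * (h * x * h⁻¹) * g = (g⁻¹ * h * g) * (g⁻¹ * x * g) * (g⁻¹ * h * g)⁻¹ := by group
      rw [e]
      obtain ⟨a, ha, ea⟩ := h2
      obtain ⟨b, hb, eb⟩ := hx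
      rw [← ea, ← eb]
      exact ⟨a * b * a⁻¹, Perf.Q_norm S ha hb, by simp only [_root_.map_mul, _root_.map_inv]⟩
  intro x hx
  exact h1 (mem_cj_mul hx)

omit [Finite G] in
theorem g_Q2 (hQ : ∀ x ∈ S.Q.map j, g * x * g⁻¹ ∈ S.Q.map j) : ∀ x ∈ S.Q2.map j, g * x * g⁻¹ ∈ S.Q2.map j := by
  have h1 : S.Q2.map j = ⁅S.Q.map j, S.Q.map j⁆ := by rw [← map_commutator, Layers.comm_Q S]
  have h2 : ⁅S.Q.map j, S.Q.map j⁆ ≤ (⁅S.Q.map j, S.Q.map j⁆).comap (MulAut.conj g).toMonoidHom := by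
    rw [commutator_le]
    intro a ha b hb
    rw [mem_comap]
    show g * ⁅a, b⁆ * g⁻¹ ∈ _
    have e : g * ⁅a, b⁆ * g⁻¹ = ⁅g * a * g⁻¹, g * b * g⁻¹⁆ := by
      rw [commutatorElement_def, commutatorElement_def]; group
    rw [e]
    exact commutator_mem_commutator (hQ a ha) (hQ b hb)
  intro x hx
  rw [h1] at hx ⊢
  exact h2 hx

theorem g_Zc (hQ : ∀ x ∈ S.Q.map j, g * x * g⁻¹ ∈ S.Q.map j) (hg : ∀ x ∈ S.PL.map j, g * x * g⁻¹ ∈ S.PL.map j) :
    ∀ x ∈ (S.Zc 2).map j, g * x * g⁻¹ ∈ (S.Zc 2).map j := by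
  have hQ' := conj_inv_mem hQ
  rintro _ ⟨z, hz, rfl⟩
  have hz' : z ∈ S.PL := by
    obtain ⟨u, rfl⟩ := hz
    exact mem_J (S.mX4 0 u) (by norm_num) (by norm_num)
  obtain ⟨y, hy, e⟩ := hg _ ⟨z, hz', rfl⟩
  refine ⟨y, ?_, e⟩
  show y ∈ S.Zc 2
  rw [← S.centralizer_Q, mem_centralizer_iff]
  intro q hq
  apply hj
  rw [map_mul, map_mul, e]
  obtain ⟨q', hq', e'⟩ := hQ' _ ⟨q, hq, rfl⟩
  have h1 : j q' * j z = j z * j q' := by
    rw [← map_mul, ← map_mul]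
    have hq'' : q' ∈ S.PL := (J_mono (by norm_num) (by norm_num) : S.Q ≤ S.PL) hq'
    rw [S.comm_PL hq'' hz]
  have h2 : j q = g * j q' * g⁻¹ := by rw [e']; group
  calc j q * (g * j z * g⁻¹) = g * (j q' * j z) * g⁻¹ := by rw [h2]; group
    _ = g * j z * g⁻¹ * j q := by rw [h1, h2]; group

/-- **the element `h'`** -/
theorem hp (hF : ∃ c : Fˣ, c ≠ 1) (hR : S.R.p = 2) (hg : ∀ x ∈ S.PL.map j, g * x * g⁻¹ ∈ S.PL.map j)
    (hgT : ∀ x ∈ (T4 S).map j, g * x * g⁻¹ ∈ (T4 S).map j) (x0 : Fˣ) :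
    Hp (mapS (sh S) j hj) (fun d => j (tdl S d)) (S.PL.map j) (S.Q.map j) (g * j (thx S x0) * g⁻¹) := by
  have hQ := g_Q S hj hF hR hg
  have hQ2 := g_Q2 S hj hQ
  have hZ := g_Zc S hj hQ hg
  have hg' := conj_inv_mem hg
  have hQ' := conj_inv_mem hQ
  have hQ2' := conj_inv_mem hQ2
  have hZ' := conj_inv_mem hZ
  have hgT' := conj_inv_mem hgT
  have hT := thx_mem S x0
  have e1 : ∀ y : G, (g * j (thx S x0) * g⁻¹) * y * (g * j (thx S x0) * g⁻¹)⁻¹ =
      g * (j (thx S x0) * (g⁻¹ * y * g) * (j (thx S x0))⁻¹) * g⁻¹ := fun y => by group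
  have hiff : ∀ y : G, InQ (mapS (sh S) j hj) y ↔ y ∈ S.Q2.map j := by
    intro y
    constructor
    · intro h
      obtain ⟨x, hx, rfl⟩ := exists_of_inQ hj h
      exact ⟨x, (inQ_iff S).1 hx, rfl⟩
    · rintro ⟨x, hx, rfl⟩
      exact (inQ_map hj).2 ((inQ_iff S).2 hx)
  have hTJ : ∀ {a b : ℤ} (y : G), y ∈ (J S.XZ a b).map j → j (thx S x0) * y * (j (thx S x0))⁻¹ ∈ (J S.XZ a b).map j := by
    rintro a b _ ⟨y, hy, rfl⟩
    exact ⟨thx S x0 * y * (thx S x0)⁻¹, S.T_conj_J hT hy, by simp only [_root_.map_mul, _root_.map_inv]⟩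
  refine ⟨fun y hy => ?_, fun u => ?_, fun d => ?_, fun y hy => ?_, fun y hy => ?_, fun y hy => ?_⟩
  · rw [e1]
    rw [hiff] at hy ⊢
    apply hQ2
    obtain ⟨z, hz, e⟩ := hQ2' y hy
    rw [← e]
    have h3 : thx S x0 ∈ S.T := hT
    obtain ⟨a, b, c, d, e', hz'⟩ := (inQ_iff S).2 hz
    refine ⟨thx S x0 * z * (thx S x0)⁻¹, ?_, by simp only [_root_.map_mul, _root_.map_inv]⟩
    rw [hz']
    refine (inQ_iff S).1 ?_
    have hH := hxF S
    have e7 : (sh S).e 7 0 (x0 * σ x0 * a) = thx S x0 * (sh S).e 7 0 a * (thx S x0)⁻¹ := by rw [hH.e7, mul_zero]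
    have e0 : (sh S).e 0 0 (σ x0 * (x0 * x0) * c) = thx S x0 * (sh S).e 0 0 c * (thx S x0)⁻¹ := by
      rw [hH.e0, mul_zero]
    have e1 : (sh S).e 1 0 (x0 * σ x0 * e') = thx S x0 * (sh S).e 1 0 e' * (thx S x0)⁻¹ := by rw [hH.e1, mul_zero]
    refine ⟨x0 * σ x0 * a, x0 * σ x0 * b, σ x0 * (x0 * x0) * c, x0 * σ x0 * d, x0 * σ x0 * e', ?_⟩
    unfold q5
    rw [e7, e0, e1, ← hH.o7, ← hH.o0]; group
  · rw [e1]
    obtain ⟨z, hz, e⟩ := hZ' (j (S.e 2 0 u)) ⟨_, ⟨u, rfl⟩, rfl⟩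
    have h2 : (mapS (sh S) j hj).e 0 0 u = j (S.e 2 0 u) := by rw [mapS_e, se0]
    rw [h2, ← e]
    have h3 := hZ _ (show j (thx S x0) * j z * (j (thx S x0))⁻¹ ∈ (S.Zc 2).map j from
      ⟨thx S x0 * z * (thx S x0)⁻¹, S.T_conj_Zc hT hz, by simp only [_root_.map_mul, _root_.map_inv]⟩)
    obtain ⟨w, ⟨v, rfl⟩, ew⟩ := h3
    exact ⟨v, by rw [mapS_e, se0, ew]⟩
  · obtain ⟨t, ⟨d', rfl⟩, e⟩ := hgT' (j (tdl S d)) ⟨_, ⟨d, rfl⟩, rfl⟩
    have h1 : j (tdl S d) = g * j (tdl S d') * g⁻¹ := by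
      have : j (tdl S d') = g⁻¹ * j (tdl S d) * g := e
      rw [this]; group
    have h2 := (comm_hx_dl S x0 d').eq
    show g * j (thx S x0) * g⁻¹ * j (tdl S d) = j (tdl S d) * (g * j (thx S x0) * g⁻¹)
    rw [h1]
    calc g * j (thx S x0) * g⁻¹ * (g * j (tdl S d') * g⁻¹) = g * j (thx S x0 * tdl S d') * g⁻¹ := by
          rw [map_mul]; group
      _ = _ := by rw [h2, map_mul]; group
  · rw [e1]
    exact hg _ (hTJ _ (hg' y hy))
  · have e2 : dlt (g * j (thx S x0) * g⁻¹) y = g * dlt (j (thx S x0)) (g⁻¹ * y * g) * g⁻¹ := by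
      unfold dlt; group
    rw [e2]
    apply hQ
    obtain ⟨z, hz, e⟩ := hg' y hy
    rw [← e]
    exact ⟨dlt (thx S x0) z, mod_Q S x0 hz, by unfold dlt; simp only [_root_.map_mul, _root_.map_inv]⟩
  · rw [e1]
    exact hQ _ (hTJ _ (hQ' y hy))

omit [Finite F] [Finite X] in
/-- an element commuting with `A` and `Q₂` acts on `E₀` as an inner automorphism does -/
theorem hin {A : Subgroup G} (B : DblR.Amb j.range A) {t : G} (ht : t ∈ A) (ht1 : t ≠ 1)
    (hinn : ∀ (α : MulAut X) (n : ℕ), α ^ 2 ^ n = 1 → ∃ x, α = MulAut.conj x) (k : ∀ y : X,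
      (∀ α β γ δ ε, Commute y (q5 (sh S) α β γ δ ε)) → ∃ p u, InQ (sh S) (((sh S).e 0 p u)⁻¹ * y))
    (y : G) (hyA : ∀ r ∈ A, Commute y r) (h1 : ∀ x, Commute y ((mapS (sh S) j hj).e 7 0 x))
    (h2 : ∀ x, Commute y ((mapS (sh S) j hj).o 7 x)) (h3 : ∀ x, Commute y ((mapS (sh S) j hj).e 0 0 x))
    (h4 : ∀ x, Commute y ((mapS (sh S) j hj).o 0 x)) (h5 : ∀ x, Commute y ((mapS (sh S) j hj).e 1 0 x))
    (ψ : F → F) (hψ : ∀ p x, y * (mapS (sh S) j hj).e 0 p x * y⁻¹ =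
      (mapS (sh S) j hj).e 0 p x * (mapS (sh S) j hj).e 0 0 (ψ p)) : ∃ p', ∀ p, ψ p = p * σ p' + p' * σ p := by
  set S0 := mapS (sh S) j hj with hS0
  -- the 2-part of `y`
  have hy2 : ∀ p x, y ^ 2 * S0.e 0 p x = S0.e 0 p x * y ^ 2 := by
    intro p x
    have e1 : y * S0.e 0 p x = S0.e 0 p x * S0.e 0 0 (ψ p) * y := by rw [← hψ]; group
    have e2 : y * S0.e 0 0 (ψ p) = S0.e 0 0 (ψ p) * y := (h3 _).eq
    have e3 : S0.e 0 0 (ψ p) * S0.e 0 0 (ψ p) = 1 := End.z_sq S0 0 _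
    calc y ^ 2 * S0.e 0 p x = y * (y * S0.e 0 p x) := by rw [pow_two]; group
      _ = y * (S0.e 0 p x * S0.e 0 0 (ψ p) * y) := by rw [e1]
      _ = (y * S0.e 0 p x) * (S0.e 0 0 (ψ p) * y) := by group
      _ = (S0.e 0 p x * S0.e 0 0 (ψ p) * y) * (S0.e 0 0 (ψ p) * y) := by rw [e1]
      _ = S0.e 0 p x * S0.e 0 0 (ψ p) * (y * S0.e 0 0 (ψ p)) * y := by group
      _ = S0.e 0 p x * S0.e 0 0 (ψ p) * (S0.e 0 0 (ψ p) * y) * y := by rw [e2]
      _ = S0.e 0 p x * (S0.e 0 0 (ψ p) * S0.e 0 0 (ψ p)) * (y * y) := by simp only [mul_assoc]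
      _ = _ := by rw [e3, mul_one, pow_two]
  obtain ⟨a, m, hm, ham⟩ : ∃ a m : ℕ, Odd m ∧ y ^ (2 ^ a * m) = 1 := by
    have hpos : orderOf y ≠ 0 := (orderOf_pos y).ne'
    obtain ⟨a, m, hm, e⟩ := Nat.exists_eq_two_pow_mul_odd hpos
    exact ⟨a, m, hm, by rw [← e, pow_orderOf_eq_one]⟩
  obtain ⟨l, hl⟩ := hm
  set w := y ^ m with hw
  have hw2 : w ^ 2 ^ a = 1 := by rw [hw, ← pow_mul, mul_comm, ham]
  have hwe : ∀ p x, w * S0.e 0 p x * w⁻¹ = S0.e 0 p x * S0.e 0 0 (ψ p) := by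
    intro p x
    have e1 : w = y * (y ^ 2) ^ l := by rw [hw, hl, ← pow_mul, ← pow_succ']
    have c1 : Commute ((y ^ 2) ^ l) (S0.e 0 p x) := (show Commute (y ^ 2) (S0.e 0 p x) from hy2 p x).pow_left l
    calc w * S0.e 0 p x * w⁻¹ = y * ((y ^ 2) ^ l * S0.e 0 p x) * ((y ^ 2) ^ l)⁻¹ * y⁻¹ := by rw [e1]; group
      _ = y * S0.e 0 p x * y⁻¹ := by rw [c1.eq]; group
      _ = _ := hψ p x
  have hwn : w ∈ normalizer (j.range : Set G) := by
    have h6 : ∀ k ∈ j.range, w * k * w⁻¹ ∈ j.range :=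
      B.nor t ht ht1 w ((hyA t ht).pow_left m).eq
    rw [mem_normalizer_iff]
    intro x
    refine ⟨h6 x, fun hx => ?_⟩
    have := conj_inv_mem (U := j.range) h6 _ hx
    have e : w⁻¹ * (w * x * w⁻¹) * w = x := by group
    rwa [e] at this
  have h7 := inner_of hj hinn hwn hw2
  obtain ⟨k0, ⟨x, rfl⟩, c, hc, e⟩ : ∃ k0 ∈ j.range, ∃ c ∈ centralizer (j.range : Set G), w = k0 * c := by
    have h8 : w ∈ ((j.range ⊔ centralizer (j.range : Set G) : Subgroup G) : Set G) := h7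
    rw [coe_mul_of_right_le_normalizer_left] at h8
    · obtain ⟨k, hk, c, hc, e⟩ := h8
      exact ⟨k, hk, c, hc, e.symm⟩
    · exact centralizer_le_normalizer _
  have hcx : ∀ z : X, c * j z = j z * c := fun z => (mem_centralizer_iff.1 hc (j z) ⟨z, rfl⟩).symm
  have hact : ∀ z : X, w * j z * w⁻¹ = j (x * z * x⁻¹) := by
    intro z
    rw [e, map_mul, map_mul, map_inv]
    calc j x * c * j z * (j x * c)⁻¹ = j x * (c * j z) * c⁻¹ * (j x)⁻¹ := by group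
      _ = _ := by rw [hcx]; group
  have hcq : ∀ α β γ δ ε, Commute x (q5 (sh S) α β γ δ ε) := by
    intro α β γ δ ε
    have hyq : Commute y (q5 S0 α β γ δ ε) := by
      unfold q5
      exact ((((h1 α).mul_right (h2 β)).mul_right (h3 γ)).mul_right (h4 δ)).mul_right (h5 ε)
    have hwq : Commute w (q5 S0 α β γ δ ε) := hyq.pow_left m
    have h9 := hact (q5 (sh S) α β γ δ ε)
    rw [← q5_map hj, ← hS0, hwq.eq, mul_inv_cancel_right, hS0, q5_map hj] at h9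
    have h10 := hj h9
    show x * _ = _ * x
    calc x * q5 (sh S) α β γ δ ε = (x * q5 (sh S) α β γ δ ε * x⁻¹) * x := by group
      _ = _ := by rw [← h10]
  obtain ⟨p', u', a1, a2, a3, a4, a5, ha⟩ := k x hcq
  refine ⟨p', fun p => ?_⟩
  have hx : x = (sh S).e 0 p' u' * q5 (sh S) a1 a2 a3 a4 a5 := by rw [← ha]; group
  have h8 := hwe p 0
  have h9 := hact ((sh S).e 0 p 0)
  have h10 : j ((sh S).e 0 p 0) = S0.e 0 p 0 := rfl
  rw [h10, h8] at h9
  have h11 : S0.e 0 p 0 * S0.e 0 0 (ψ p) = j ((sh S).e 0 p 0 * (sh S).e 0 0 (ψ p)) := by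
    rw [map_mul]; rfl
  rw [h11] at h9
  have h12 := hj h9
  have h13 : (sh S).e 0 p' u' * q5 (sh S) a1 a2 a3 a4 a5 * (sh S).e 0 p 0 * ((sh S).e 0 p' u' * q5 (sh S) a1 a2 a3 a4 a5)⁻¹ =
      (sh S).e 0 p' u' * (sh S).e 0 p 0 * ((sh S).e 0 p' u')⁻¹ := by
    have c1 := (q5_e0 (sh S) a1 a2 a3 a4 a5 p 0).eq
    calc _ = (sh S).e 0 p' u' * (q5 (sh S) a1 a2 a3 a4 a5 * (sh S).e 0 p 0) * (q5 (sh S) a1 a2 a3 a4 a5)⁻¹ *
          ((sh S).e 0 p' u')⁻¹ := by group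
      _ = _ := by rw [← c1]; group
  rw [hx, h13] at h12
  have h14 : (sh S).e 0 p 0 * (sh S).e 0 0 (ψ p) * (sh S).e 0 p' u' = (sh S).e 0 p' u' * (sh S).e 0 p 0 := by
    rw [h12]; group
  rw [(sh S).e_mul, (sh S).e_mul, (sh S).e_mul, map_zero, mul_zero, add_zero, add_zero, add_zero, zero_add] at h14
  have h15 := ((sh S).injE 0 _ _ _ _ h14).2
  -- `ψ p + u' + p σ p' = u' + p' σ p`
  have h16 : ψ p = p * σ p' + p' * σ p := by
    have e1 : ψ p + (u' + p * σ p' + (u' + p * σ p')) = (u' + p' * σ p) + (u' + p * σ p') := by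
      rw [← h15]; ring
    rw [Field.add_self, add_zero] at e1
    rw [e1]
    have : u' + p' * σ p + (u' + p * σ p') = (u' + u') + (p * σ p' + p' * σ p) := by ring
    rw [this, Field.add_self, zero_add]
  exact h16

/-- **KILL** -/
theorem kill (hF : ∃ c : Fˣ, c ≠ 1) (hR : S.R.p = 2)
    (hinn : ∀ (α : MulAut X) (n : ℕ), α ^ 2 ^ n = 1 → ∃ x, α = MulAut.conj x) {A : Subgroup G}
    (B : DblR.Amb j.range A) (hg : ∀ x ∈ S.PL.map j, g * x * g⁻¹ ∈ S.PL.map j)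
    (hW : ∀ r ∈ A, ∃ b, r * j (S.e 2 0 b) ∈ cj g A) (hWA : ∀ r ∈ A, r ∈ cj g A → r = 1)
    (hWK : ∀ b, j (S.e 2 0 b) ∈ cj g A → b = 0) {t : G} (ht : t ∈ A) (ht1 : t ≠ 1) : ∀ r ∈ A, r = 1 ∨ r = t := by
  obtain ⟨y, hy, -, hyT⟩ := exists_norm S hj hF hR hg
  obtain ⟨τ, I⟩ := exists_inv S.sq hF
  obtain ⟨x0, u0, hx0⟩ := hx_move S hF
  have hg1 : ∀ x ∈ S.PL.map j, (y * g) * x * (y * g)⁻¹ ∈ S.PL.map j := by
    intro x hx
    have e : (y * g) * x * (y * g)⁻¹ = y * (g * x * g⁻¹) * y⁻¹ := by group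
    rw [e]
    exact mul_mem (mul_mem hy (hg x hx)) (inv_mem hy)
  have hyK : y ∈ j.range := by
    obtain ⟨z, -, rfl⟩ := hy
    exact ⟨z, rfl⟩
  have hyw : ∀ r ∈ A, ∀ b, y * (r * j (S.e 2 0 b)) * y⁻¹ = r * j (S.e 2 0 b) := by
    intro r hr b
    have h1 := B.comm r hr y hyK
    have h2 : y * j (S.e 2 0 b) = j (S.e 2 0 b) * y := by
      obtain ⟨z, hz, rfl⟩ := hy
      rw [← map_mul, ← map_mul, S.comm_PL hz ⟨b, rfl⟩]
    calc y * (r * j (S.e 2 0 b)) * y⁻¹ = (y * r) * j (S.e 2 0 b) * y⁻¹ := by group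
      _ = r * (y * j (S.e 2 0 b)) * y⁻¹ := by rw [← h1]; group
      _ = _ := by rw [h2]; group
  choose! β hβ using hW
  set S0 := mapS (sh S) j hj with hS0
  have hSz : ∀ b, S0.e 0 0 b = j (S.e 2 0 b) := by
    intro b
    rw [hS0, mapS_e, se0]
  have hAK : ∀ r ∈ A, ∀ x : X, Commute r (j x) := fun r hr x => B.comm r hr _ ⟨x, rfl⟩
  have hβ1 : β 1 = 0 := by
    apply hWK
    have := hβ 1 (one_mem A)
    rwa [one_mul] at this
  have hβinj : ∀ r ∈ A, ∀ s ∈ A, β r = β s → r = s := by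
    intro r hr s hs h
    have h1 := mul_mem (hβ r hr) (inv_mem (hβ s hs))
    have h2 : r * j (S.e 2 0 (β r)) * (s * j (S.e 2 0 (β s)))⁻¹ = r * s⁻¹ := by rw [h]; group
    rw [h2] at h1
    have h3 := hWA _ (mul_mem hr (inv_mem hs)) h1
    exact mul_inv_eq_one.1 h3
  have hβt : β t ≠ 0 := fun h => ht1 (hβinj t ht 1 (one_mem A) (by rw [h, hβ1]))
  have hH : ∀ c, ∀ x ∈ S.PL.map j, (j (thx S c))⁻¹ * x * j (thx S c) ∈ S.PL.map j := by
    rintro c _ ⟨x, hx, rfl⟩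
    refine ⟨(thx S c)⁻¹ * x * thx S c, ?_, by simp only [_root_.map_mul, _root_.map_inv]⟩
    have := S.T_conj_J (inv_mem (thx_mem S c)) hx
    rwa [inv_inv] at this
  obtain ⟨e0, nn, Dfam⟩ := exists_fam' (hp S hj hF hR hg1 hyT x0) (kh_map hj (kh S hF)) (dl_map hj (dlF S)) I
    (hx_map hj (hxF S)) (fun x d => (comm_hx_dl S x d).map j) hH (A := A) (fun r hr x => hAK r hr _)
    (fun r hr a t => hAK r hr _) (fun r hr a p u => hAK r hr _) (fun r hr => hAK r hr _) (β := β) (t := t)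
    (by
      intro r hr
      rw [← hS0, hSz]
      have h1 := hβ r hr
      rw [mem_cj] at h1
      set a := g⁻¹ * (r * j (S.e 2 0 (β r))) * g with ha
      have h2 : r * j (S.e 2 0 (β r)) = (y * g) * a * (y * g)⁻¹ := by
        have : (y * g) * a * (y * g)⁻¹ = y * (r * j (S.e 2 0 (β r))) * y⁻¹ := by rw [ha]; group
        rw [this, hyw r hr]
      have h3 := (hAK a h1 (thx S x0)).eq
      rw [h2]
      show y * g * j (thx S x0) * (y * g)⁻¹ * (y * g * a * (y * g)⁻¹) = _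
      calc y * g * j (thx S x0) * (y * g)⁻¹ * (y * g * a * (y * g)⁻¹) = y * g * (j (thx S x0) * a) * (y * g)⁻¹ := by group
        _ = _ := by rw [← h3]; group)
    (by
      -- `h'` moves an element of `Z_4`
      have hQ := g_Q S hj hF hR hg1
      have hZ := g_Zc S hj hQ hg1
      obtain ⟨z, ⟨v, rfl⟩, ev⟩ := hZ (j (S.e 2 0 u0)) ⟨_, ⟨u0, rfl⟩, rfl⟩
      refine ⟨v, fun hcm => hx0 ?_⟩
      rw [← hS0, hSz] at hcm
      have h1 : j (S.e 2 0 v) = y * g * j (S.e 2 0 u0) * (y * g)⁻¹ := ev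
      rw [h1] at hcm
      have h2 : j (thx S x0) * j (S.e 2 0 u0) = j (S.e 2 0 u0) * j (thx S x0) := by
        have h3 := hcm.eq
        have h4 : y * g * j (thx S x0) * (y * g)⁻¹ * (y * g * j (S.e 2 0 u0) * (y * g)⁻¹) =
            y * g * (j (thx S x0) * j (S.e 2 0 u0)) * (y * g)⁻¹ := by group
        have h5 : y * g * j (S.e 2 0 u0) * (y * g)⁻¹ * (y * g * j (thx S x0) * (y * g)⁻¹) =
            y * g * (j (S.e 2 0 u0) * j (thx S x0)) * (y * g)⁻¹ := by group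
        rw [h4, h5] at h3
        exact mul_left_cancel (mul_right_cancel h3)
      rw [← map_mul, ← map_mul] at h2
      rw [hj h2]; group) hβt
  have hfin := Dfam.eq_one_or_eq I B (fun a p u => ⟨_, rfl⟩) ht ht1 (div_self hβt)
    (fun r hr s hs h => hβinj r hr s hs (by
      have h' : β r / β t = β s / β t := h
      rwa [div_left_inj' hβt] at h'))
    (show β 1 / β t = 0 by rw [hβ1, zero_div])
    (hin S hj B ht ht1 hinn (fun y h => by
      -- `C(Q₂) = Q₁`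
      have h1 : y ∈ S.Q1 := by
        rw [← S.centralizer_Q2, Subgroup.mem_centralizer_iff]
        intro x hx
        obtain ⟨α, β, γ, δ, ε, rfl⟩ := (inQ_iff S).2 hx
        exact (h α β γ δ ε).eq.symm
      have h2 : y ∈ S.PL := J_mono (by norm_num) (by norm_num) (S.Q1_le_J h1)
      exact (kh S hF).cen y h2 h))
  exact hfin

end kill

end Cfsg.Agent.OddHalf.D4.TwF.Kill

end

-- merged: Cfsg.Agent.OddHalf.D4.TwF.Pair
section

/-!
# ODD D4: full pairs when the centralizers of involutions of `K` are perfect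

`XF X`: the facts on the simple group `X`; `SF K`: the same facts for a subgroup. `PP K L A W`: a full pair.
`PP.no_inv`: `K ∩ C(L)` contains no involution; `PP.cent_le`: for an involution `u = k a` of `W`, `k ∈ K`, `a ∈ A`:
`C_K(k) ≤ L`.
-/

set_option autoImplicit false
set_option linter.unusedSectionVars false

namespace Cfsg.Agent.OddHalf.D4.TwF.Pair

open Subgroup Cfsg.Agent.OddHalf.D4 Cfsg.Agent.OddHalf.D4.Basic
open Cfsg.Agent.OddHalf.D4.CommConj (Tight cj mem_cj cj_mul card_cj mem_cj_mul)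
open scoped commutatorElement

/-! ### the facts on the simple group -/

/-- the facts on `X` -/
structure XF (X : Type*) [Group X] : Prop where
  cen : ∀ x : X, (∀ y, x * y = y * x) → x = 1
  inner : ∀ (α : MulAut X) (n : ℕ), α ^ 2 ^ n = 1 → ∃ x, α = MulAut.conj x
  perf : ∀ w : X, w ≠ 1 → w * w = 1 → ⁅centralizer {w}, centralizer {w}⁆ = centralizer {w}
  gen2 : ∀ w : X, w ≠ 1 → w * w = 1 → ∀ M : Subgroup X,
    (∀ x, x * w = w * x → (∃ n : ℕ, x ^ 2 ^ n = 1) → x ∈ M) → centralizer {w} ≤ M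
  norm : ∀ w : X, w ≠ 1 → w * w = 1 → ∀ P ≤ centralizer {w},
    (∀ e ∈ centralizer {w}, ∀ x ∈ P, e * x * e⁻¹ ∈ P) → ⁅P, P⁆ = P → P = ⊥ ∨ P = centralizer {w}
  gen : ∀ N : Subgroup X, (∃ w ∈ N, w ≠ 1 ∧ w * w = 1) →
    (∀ w ∈ N, w ≠ 1 → w * w = 1 → centralizer {w} ≤ N) → N = ⊤
  zc : ∀ w : X, w ≠ 1 → w * w = 1 → ∀ x : X, (∀ e, e * w = w * e → e * x = x * e) → x * x = 1

/-- the facts on the subgroup `K` -/
structure SF {G : Type*} [Group G] (K : Subgroup G) : Prop where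
  cen : ∀ x ∈ K, x ∈ centralizer (K : Set G) → x = 1
  inner : ∀ y ∈ normalizer (K : Set G), (∃ n : ℕ, y ^ 2 ^ n = 1) → y ∈ K ⊔ centralizer (K : Set G)
  perf : ∀ w ∈ K, w ≠ 1 → w * w = 1 → ⁅K ⊓ centralizer {w}, K ⊓ centralizer {w}⁆ = K ⊓ centralizer {w}
  gen2 : ∀ w ∈ K, w ≠ 1 → w * w = 1 → ∀ M : Subgroup G,
    (∀ x ∈ K, x * w = w * x → (∃ n : ℕ, x ^ 2 ^ n = 1) → x ∈ M) → K ⊓ centralizer {w} ≤ M
  norm : ∀ w ∈ K, w ≠ 1 → w * w = 1 → ∀ P ≤ K ⊓ centralizer {w},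
    (∀ e ∈ K ⊓ centralizer {w}, ∀ x ∈ P, e * x * e⁻¹ ∈ P) → ⁅P, P⁆ = P → P = ⊥ ∨ P = K ⊓ centralizer {w}
  gen : ∀ N ≤ K, (∃ w ∈ N, w ≠ 1 ∧ w * w = 1) →
    (∀ w ∈ N, w ≠ 1 → w * w = 1 → K ⊓ centralizer {w} ≤ N) → N = K
  zc : ∀ w ∈ K, w ≠ 1 → w * w = 1 → ∀ x ∈ K, (∀ e ∈ K, e * w = w * e → e * x = x * e) → x * x = 1

section transport

variable {X G : Type*} [Group X] [Group G] {j : X →* G} (hj : Function.Injective j)

include hj in
theorem range_inf_cent (w : X) : j.range ⊓ centralizer {j w} = (centralizer {w}).map j := by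
  ext y
  constructor
  · rintro ⟨⟨x, rfl⟩, hx⟩
    have hx' := mem_centralizer_singleton_iff.1 hx
    rw [← map_mul, ← map_mul] at hx'
    exact ⟨x, mem_centralizer_singleton_iff.2 (hj hx'), rfl⟩
  · rintro ⟨x, hx, rfl⟩
    have hx' := mem_centralizer_singleton_iff.1 hx
    exact ⟨⟨x, rfl⟩, mem_centralizer_singleton_iff.2 (by rw [← map_mul, ← map_mul, hx'])⟩

theorem map_comap_of_le {P : Subgroup G} (h : P ≤ j.range) : (P.comap j).map j = P := by
  rw [map_comap_eq, inf_eq_right.2 h]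

include hj in
theorem sf_of_xf (h : XF X) : SF j.range where
  cen := by
    rintro _ ⟨x, rfl⟩ hx
    rw [mem_centralizer_iff] at hx
    rw [h.cen x fun y => hj (by rw [map_mul, map_mul, hx _ ⟨y, rfl⟩]), map_one]
  inner := by
    rintro y hy ⟨n, hn⟩
    exact Kill.inner_of hj h.inner hy hn
  perf := by
    rintro _ ⟨w, rfl⟩ hw hww
    rw [range_inf_cent hj, ← map_commutator, h.perf w (fun h => hw (by rw [h, map_one]))
      (hj (by rw [map_mul, hww, map_one]))]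
  gen2 := by
    rintro _ ⟨w, rfl⟩ hw hww M hM
    rw [range_inf_cent hj, map_le_iff_le_comap]
    refine h.gen2 w (fun h => hw (by rw [h, map_one])) (hj (by rw [map_mul, hww, map_one])) _ ?_
    rintro x hx ⟨n, hn⟩
    exact hM _ ⟨x, rfl⟩ (by rw [← map_mul, hx, map_mul]) ⟨n, by rw [← map_pow, hn, map_one]⟩
  norm := by
    rintro _ ⟨w, rfl⟩ hw hww P hP hn hPP
    rw [range_inf_cent hj] at hP hn ⊢
    have h1 : (P.comap j).map j = P := map_comap_of_le (hP.trans (map_le_range _ _))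
    have h2 := h.norm w (fun h => hw (by rw [h, map_one])) (hj (by rw [map_mul, hww, map_one])) (P.comap j) (by
      intro x hx
      obtain ⟨y, hy, e⟩ := hP (mem_comap.1 hx)
      rw [← hj e]; exact hy) (by
      intro e he x hx
      rw [mem_comap, map_mul, map_mul, map_inv]
      exact hn _ ⟨e, he, rfl⟩ _ hx) (by
      apply map_injective hj
      rw [map_commutator, h1, hPP])
    rcases h2 with h2 | h2
    · left; rw [← h1, h2, Subgroup.map_bot]
    · right; rw [← h1, h2]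
  gen := by
    rintro N hN ⟨w, hw, hw1, hww⟩ hc
    have h1 : (N.comap j).map j = N := map_comap_of_le hN
    obtain ⟨x, rfl⟩ := hN hw
    have h2 := h.gen (N.comap j) ⟨x, hw, fun h => hw1 (by rw [h, map_one]), hj (by rw [map_mul, hww, map_one])⟩ (by
      intro w hw hw1 hww
      have h3 := hc (j w) hw (fun h => hw1 (hj (by rw [h, map_one]))) (by rw [← map_mul, hww, map_one])
      rw [range_inf_cent hj] at h3
      exact map_le_iff_le_comap.1 h3)
    rw [← h1, h2, ← MonoidHom.range_eq_map]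
  zc := by
    rintro _ ⟨w, rfl⟩ hw hww _ ⟨x, rfl⟩ hx
    rw [← map_mul, h.zc w (fun h => hw (by rw [h, map_one])) (hj (by rw [map_mul, hww, map_one])) x (by
      intro e he
      apply hj
      rw [map_mul, map_mul]
      exact hx _ ⟨e, rfl⟩ (by rw [← map_mul, he, map_mul])), map_one]

/-- `j` followed by the conjugation by `g` -/
def jc (j : X →* G) (g : G) : X →* G := (MulAut.conj g).toMonoidHom.comp j

theorem jc_apply (g : G) (x : X) : jc j g x = g * j x * g⁻¹ := rfl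

include hj in
theorem jc_inj (g : G) : Function.Injective (jc j g) := by
  intro x y h
  rw [jc_apply, jc_apply] at h
  exact hj (mul_left_cancel (mul_right_cancel h))

theorem cj_map (g : G) (P : Subgroup X) : cj g (P.map j) = P.map (jc j g) := by
  ext y
  rw [mem_cj]
  constructor
  · rintro ⟨x, hx, e⟩
    exact ⟨x, hx, by rw [jc_apply, e]; group⟩
  · rintro ⟨x, hx, rfl⟩
    exact ⟨x, hx, by rw [jc_apply]; group⟩

theorem cj_range (g : G) : cj g j.range = (jc j g).range := by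
  rw [MonoidHom.range_eq_map, cj_map, ← MonoidHom.range_eq_map]

include hj in
theorem sf_cj (h : XF X) (g : G) : SF (cj g j.range) := by
  rw [cj_range]
  exact sf_of_xf (jc_inj hj g) h

end transport


/-! ### pairs -/

/-- what is used of `K`; invariant under conjugation -/
structure Base {G : Type*} [Group G] (K : Subgroup G) : Prop where
  tight : TightAt K
  even : Even (Nat.card ↥(centralizer (K : Set G)))
  sf : ∀ g, SF (cj g K)
  nc : ∀ g, ¬ K ≤ centralizer ((cj g K : Subgroup G) : Set G)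

/-- a full pair `K, L` with Sylow 2-subgroups `A` of `C(K)`, `W` of `C(L)` -/
structure PP {G : Type*} [Group G] (K L A W : Subgroup G) : Prop where
  base : Base K
  fp : FullPair K L A W

section pair

variable {G : Type*} [Group G] [Finite G] {K L A W : Subgroup G}

theorem cj_one (K : Subgroup G) : cj 1 K = K := by
  ext x
  rw [mem_cj]; simp

theorem Base.cj (h : Base K) (x : G) : Base (CommConj.cj x K) where
  tight := h.tight.cj x
  even := by rw [centralizer_cj, card_cj]; exact h.even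
  sf g := by rw [← cj_mul]; exact h.sf _
  nc g hc := by
    apply h.nc (x⁻¹ * g * x)
    rw [centralizer_cj] at hc ⊢
    intro k hk
    have h1 := hc (mem_cj_mul (g := x) hk)
    rw [mem_cj, centralizer_cj, mem_cj] at h1
    rw [mem_cj]
    have e : x⁻¹ * (g⁻¹ * (x * k * x⁻¹) * g) * x = (x⁻¹ * g * x)⁻¹ * k * (x⁻¹ * g * x) := by group
    rwa [e] at h1

theorem PP.tK (h : PP K L A W) : TightAt K := h.base.tight
theorem PP.eK (h : PP K L A W) : Even (Nat.card ↥(centralizer (K : Set G))) := h.base.even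
theorem PP.sK (h : PP K L A W) : SF K := by have := h.base.sf 1; rwa [cj_one] at this
theorem PP.sL (h : PP K L A W) : SF L := by
  obtain ⟨g, _, rfl⟩ := h.fp.conj
  exact h.base.sf g
theorem PP.nc (h : PP K L A W) : ¬ K ≤ centralizer (L : Set G) := by
  obtain ⟨g, _, rfl⟩ := h.fp.conj
  exact h.base.nc g

theorem PP.symm (h : PP K L A W) : PP L K W A where
  fp := h.fp.symm
  base := by
    obtain ⟨g, _, rfl⟩ := h.fp.conj
    exact h.base.cj g

/-- conjugation of pairs -/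
theorem PP.conj (h : PP K L A W) (x : G) : PP (cj x K) (cj x L) (cj x A) (cj x W) where
  base := h.base.cj x
  fp := by
    obtain ⟨g, hg, hL⟩ := h.fp.conj
    refine ⟨⟨x * g * x⁻¹, ?_, ?_⟩, ?_, ?_, ?_⟩
    · intro h1
      rw [normalizer_cj, mem_cj] at h1
      have e : x⁻¹ * (x * g * x⁻¹) * x = g := by group
      rw [e] at h1
      exact hg h1
    · rw [hL, ← cj_mul, ← cj_mul]
      congr 1; group
    · rw [centralizer_cj]; exact h.fp.sylQ.cj x
    · rw [centralizer_cj]; exact h.fp.sylU.cj x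
    · intro q hq u hu
      have h1 := h.fp.comm _ (mem_cj.1 hq) _ (mem_cj.1 hu)
      have e1 : q * u = x * ((x⁻¹ * q * x) * (x⁻¹ * u * x)) * x⁻¹ := by group
      rw [e1, h1]; group

theorem PP.AL (h : PP K L A W) : A ≤ normalizer (L : Set G) := h.fp.leQ h.tK h.eK
theorem PP.WK (h : PP K L A W) : W ≤ normalizer (K : Set G) := h.fp.leU h.tK h.eK

theorem two_zpowers {x : G} (h : ∃ n : ℕ, x ^ 2 ^ n = 1) : IsPGroup 2 ↥(zpowers x) := by
  obtain ⟨n, hn⟩ := h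
  have : Fact (Nat.Prime 2) := ⟨Nat.prime_two⟩
  rw [IsPGroup.iff_card]
  obtain ⟨m, -, hm⟩ := (Nat.dvd_prime_pow Nat.prime_two).mp (orderOf_dvd_of_pow_eq_one hn)
  exact ⟨m, by rw [Nat.card_zpowers, hm]⟩

/-- a 2-element of `C(K)` commuting with `A` lies in `A` -/
theorem mem_syl_of_comm {C T : Subgroup G} (hT : IsSyl T C) {c : G} (hc : c ∈ C) (h2 : ∃ n : ℕ, c ^ 2 ^ n = 1)
    (hcT : ∀ a ∈ T, c * a = a * c) : c ∈ T := by
  have hnor : zpowers c ≤ normalizer (T : Set G) := by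
    rw [zpowers_le, mem_normalizer_iff]
    intro x
    have h0 : ∀ a ∈ T, c * a * c⁻¹ = a := fun a ha => by rw [hcT a ha]; group
    constructor
    · intro hx; rw [h0 x hx]; exact hx
    · intro hx
      have h1 := h0 _ hx
      have e : x = c * x * c⁻¹ := by
        calc x = c⁻¹ * (c * x * c⁻¹) * c := by group
          _ = c⁻¹ * (c * (c * x * c⁻¹) * c⁻¹) * c := by rw [h1]
          _ = c * x * c⁻¹ := by group
      rw [e]; exact hx
  have h3 : IsPGroup 2 ↥(T ⊔ zpowers c) := hT.two.to_sup_of_normal_left' (two_zpowers h2) hnor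
  exact hT.max _ h3 le_sup_left (sup_le hT.le (by rw [zpowers_le]; exact hc)) (mem_sup_right (mem_zpowers c))

/-- an involution as a power of a 2-element -/
theorem exists_pow_inv {x : G} (h2 : ∃ n : ℕ, x ^ 2 ^ n = 1) (hx : x ≠ 1) :
    ∃ m : ℕ, x ^ m ≠ 1 ∧ x ^ m * x ^ m = 1 := by
  obtain ⟨n, hn⟩ := h2
  induction n with
  | zero => exact absurd (by simpa using hn) hx
  | succ n ih =>
    by_cases h : x ^ 2 ^ n = 1
    · exact ih h
    · exact ⟨2 ^ n, h, by rw [← pow_add, ← two_mul, ← pow_succ']; exact hn⟩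

theorem orderOf_two {x : G} (h1 : x ≠ 1) (h2 : x * x = 1) : orderOf x = 2 :=
  orderOf_eq_prime (by rw [pow_two]; exact h2) h1

/-- no 2-element `≠ 1` lies in `C(K) ∩ C(L)` -/
theorem PP.two_trivial (h : PP K L A W) {u : G} (hu : u ∈ centralizer (K : Set G))
    (huL : u ∈ centralizer (L : Set G)) (h2 : ∃ n : ℕ, u ^ 2 ^ n = 1) : u = 1 := by
  by_contra hne
  obtain ⟨m, h3, h4⟩ := exists_pow_inv h2 hne
  exact h.fp.noInv h.tK (pow_mem hu m) (pow_mem huL m) (orderOf_two h3 h4)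

/-- decomposition of a 2-element of `N(K)` commuting with `A` -/
theorem PP.decomp (h : PP K L A W) {y : G} (hy : y ∈ normalizer (K : Set G)) (h2 : ∃ n : ℕ, y ^ 2 ^ n = 1)
    (hA : ∀ a ∈ A, y * a = a * y) : ∃ k ∈ K, ∃ z ∈ A, (∀ a ∈ A, z * a = a * z) ∧ y = k * z := by
  obtain ⟨k, hk, c, hc, e⟩ := exists_decomp (h.sK.inner y hy h2)
  have hcA : ∀ a ∈ A, c * a = a * c := fun a ha => comm_of_decomp hk e (h.fp.sylQ.le ha) (hA a ha)
  obtain ⟨n, hn⟩ := h2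
  exact ⟨k, hk, c, mem_syl_of_comm h.fp.sylQ hc ⟨n, pow_eq_one_of_decomp h.sK.cen hk hc e hn⟩ hcA, hcA, e⟩

/-- the centre of `A` -/
def ZA (A : Subgroup G) : Subgroup G := A ⊓ centralizer (A : Set G)

theorem mem_ZA {A : Subgroup G} {z : G} : z ∈ ZA A ↔ z ∈ A ∧ ∀ a ∈ A, z * a = a * z := by
  unfold ZA
  rw [mem_inf, mem_centralizer_iff]
  exact ⟨fun h => ⟨h.1, fun a ha => (h.2 a ha).symm⟩, fun h => ⟨h.1, fun a ha => (h.2 a ha).symm⟩⟩

/-- the elements of the join of commuting subgroups -/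
theorem mem_sup_comm {K Z : Subgroup G} (hKZ : ∀ k ∈ K, ∀ z ∈ Z, k * z = z * k) {x : G} (hx : x ∈ K ⊔ Z) :
    ∃ k ∈ K, ∃ z ∈ Z, x = k * z := by
  have h1 : x ∈ ((K ⊔ Z : Subgroup G) : Set G) := hx
  rw [coe_mul_of_right_le_normalizer_left] at h1
  · obtain ⟨k, hk, z, hz, e⟩ := h1
    exact ⟨k, hk, z, hz, e.symm⟩
  · refine le_trans ?_ (centralizer_le_normalizer_self K)
    intro z hz
    rw [mem_centralizer_iff]
    exact fun k hk => hKZ k hk z hz

/-- **(1)** -/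
theorem PP.step1 (h : PP K L A W) {E : Subgroup G} (hEK : E ≤ K) (hEL : E ≤ normalizer (L : Set G))
    (hEE : ⁅E, E⁆ = E) (hE2 : ∀ M : Subgroup G, (∀ x ∈ E, (∃ n : ℕ, x ^ 2 ^ n = 1) → x ∈ M) → E ≤ M) :
    ∃ P : Subgroup G, P ≤ K ⊓ centralizer (L : Set G) ∧ ⁅P, P⁆ = P ∧
      (∀ c ∈ P, ∃ e ∈ E, ∃ l ∈ L, e = l * c) ∧ (∀ e ∈ E, ∃ l ∈ L, ∃ c ∈ P, e = l * c) := by
  have hinL : E ≤ L ⊔ centralizer (L : Set G) := hE2 _ fun x hx h2 => h.sL.inner x (hEL hx) h2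
  obtain ⟨π, hπ, hπ'⟩ := exists_proj h.sL.cen
  let P : Subgroup G := (E.subgroupOf (L ⊔ centralizer (L : Set G))).map π
  have hPP : ⁅P, P⁆ = P := by
    have h3 : ⁅E.subgroupOf (L ⊔ centralizer (L : Set G)), E.subgroupOf (L ⊔ centralizer (L : Set G))⁆
        = E.subgroupOf (L ⊔ centralizer (L : Set G)) := by
      apply Subgroup.map_injective (Subgroup.subtype_injective _)
      rw [Subgroup.map_commutator, subgroupOf_map_subtype, inf_eq_left.mpr hinL, hEE]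
    show ⁅(E.subgroupOf _).map π, (E.subgroupOf _).map π⁆ = _
    rw [← Subgroup.map_commutator, h3]
  have hPC : P ≤ centralizer (L : Set G) := by
    rintro _ ⟨e, _, rfl⟩
    exact hπ e
  have hPe : ∀ c ∈ P, ∃ e ∈ E, ∃ l ∈ L, e = l * c := by
    rintro _ ⟨e, he, rfl⟩
    obtain ⟨k, hk, e'⟩ := hπ' e
    exact ⟨e, mem_subgroupOf.1 he, k, hk, e'⟩
  have heP : ∀ e ∈ E, ∃ l ∈ L, ∃ c ∈ P, e = l * c := by
    intro e he
    obtain ⟨k, hk, e'⟩ := hπ' ⟨e, hinL he⟩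
    exact ⟨k, hk, _, ⟨⟨e, hinL he⟩, mem_subgroupOf.2 he, rfl⟩, e'⟩
  have hPmem : ∀ l ∈ L, ∀ c ∈ centralizer (L : Set G), l * c ∈ E → c ∈ P := by
    intro l hl c hc he
    obtain ⟨l', hl', c', hc', e⟩ := heP _ he
    have := (decomp_unique h.sL.cen hl hc hl' (hPC hc') e).2
    rwa [this]
  -- `P` commutes with `A`
  have hPA : ∀ c ∈ P, ∀ a ∈ A, c * a = a * c := by
    intro c hc a ha
    obtain ⟨e, he, l, hl, rfl⟩ := hPe c hc
    have haN := h.AL ha
    have h1 : a * l * a⁻¹ ∈ L := (mem_normalizer_iff.1 haN l).1 hl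
    have h2 : a * c * a⁻¹ ∈ centralizer (L : Set G) := centralizer_conj_mem haN (hPC hc)
    have h3 : (l * c) * a = a * (l * c) := mem_centralizer_iff.1 (h.fp.sylQ.le ha) _ (hEK he)
    have h4 : (a * l * a⁻¹) * (a * c * a⁻¹) = l * c := by
      calc (a * l * a⁻¹) * (a * c * a⁻¹) = (a * (l * c)) * a⁻¹ := by group
        _ = l * c := by rw [← h3]; group
    have h5 := (decomp_unique h.sL.cen h1 h2 hl (hPC hc) h4).2
    calc c * a = (a * c * a⁻¹) * a := by rw [h5]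
      _ = a * c := by group
  -- `P ≤ N(K)`
  obtain ⟨t, htA, ht2⟩ := exists_inv_syl h.fp.sylQ h.eK
  have hPN : P ≤ normalizer (K : Set G) := fun c hc => h.tK.mem (h.fp.sylQ.le htA) ht2 (hPA c hc t htA)
  have hKZ : ∀ k ∈ K, ∀ z ∈ ZA A, k * z = z * k := fun k hk z hz =>
    comm_of_cen hk (h.fp.sylQ.le (mem_ZA.1 hz).1)
  -- `P ≤ K Z(A)`
  have hP2 : ∀ M : Subgroup G, (∀ c ∈ P, (∃ n : ℕ, c ^ 2 ^ n = 1) → c ∈ M) → P ≤ M := by
    intro M hM
    have h3 : E ≤ L ⊔ (M ⊓ centralizer (L : Set G)) := by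
      refine hE2 _ ?_
      rintro x hx ⟨n, hn⟩
      obtain ⟨l, hl, c, hc, rfl⟩ := heP x hx
      have hc2 := pow_eq_one_of_decomp h.sL.cen hl (hPC hc) rfl hn
      exact mul_mem (mem_sup_left hl) (mem_sup_right ⟨hM c hc ⟨n, hc2⟩, hPC hc⟩)
    intro c hc
    obtain ⟨e, he, l, hl, rfl⟩ := hPe c hc
    obtain ⟨l', hl', c', hc', e'⟩ := mem_sup_comm (K := L) (Z := M ⊓ centralizer (L : Set G))
      (fun k hk z hz => comm_of_cen hk (mem_inf.1 hz).2) (h3 he)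
    rw [(decomp_unique h.sL.cen hl (hPC hc) hl' hc'.2 e').2]
    exact hc'.1
  have hPKZ : P ≤ K ⊔ ZA A := by
    refine hP2 _ fun c hc h2 => ?_
    obtain ⟨k, hk, z, hz, hzA, rfl⟩ := h.decomp (hPN hc) h2 (hPA c hc)
    exact mul_mem (mem_sup_left hk) (mem_sup_right (mem_ZA.2 ⟨hz, hzA⟩))
  have hPK : P ≤ K := by
    rw [← hPP, commutator_le]
    intro x hx y hy
    obtain ⟨k, hk, z, hz, rfl⟩ := mem_sup_comm hKZ (hPKZ hx)
    obtain ⟨k', hk', z', hz', rfl⟩ := mem_sup_comm hKZ (hPKZ hy)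
    have h1 := hKZ k hk z' hz'
    have h2 := hKZ k' hk' z hz
    have h3 := hKZ k hk z hz
    have h4 := hKZ k' hk' z' hz'
    have h5 : z * z' = z' * z := (mem_ZA.1 hz).2 _ (mem_ZA.1 hz').1
    have e : ⁅k * z, k' * z'⁆ = ⁅k, k'⁆ := by
      rw [commutatorElement_def, commutatorElement_def]
      have e1 : k * z * (k' * z') = (k * k') * (z * z') := by
        calc k * z * (k' * z') = k * (z * k') * z' := by group
          _ = _ := by rw [← h2]; group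
      have e2 : k' * z' * (k * z) = (k' * k) * (z * z') := by
        calc k' * z' * (k * z) = k' * (z' * k) * z := by group
          _ = k' * k * (z' * z) := by rw [← h1]; group
          _ = _ := by rw [← h5]
      calc k * z * (k' * z') * (k * z)⁻¹ * (k' * z')⁻¹ = k * z * (k' * z') * (k' * z' * (k * z))⁻¹ := by group
        _ = _ := by rw [e1, e2]; group
    rw [e, commutatorElement_def]
    exact mul_mem (mul_mem (mul_mem hk hk') (inv_mem hk)) (inv_mem hk')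
  exact ⟨P, le_inf hPK hPC, hPP, hPe, heP⟩

/-- the elements of `C_K(w)` -/
theorem mem_Cw {K : Subgroup G} {w x : G} : x ∈ K ⊓ centralizer {w} ↔ x ∈ K ∧ x * w = w * x := by
  rw [mem_inf, mem_centralizer_singleton_iff]

theorem self_mem_Cw {K : Subgroup G} {w : G} (hw : w ∈ K) : w ∈ K ⊓ centralizer {w} := mem_Cw.2 ⟨hw, rfl⟩

/-- **(2)** -/
theorem PP.no_inv (h : PP K L A W) {w : G} (hw : w ∈ K) (hwL : w ∈ centralizer (L : Set G)) (hww : w * w = 1) :
    w = 1 := by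
  by_contra hw1
  have key : ∀ v ∈ K ⊓ centralizer (L : Set G), v ≠ 1 → v * v = 1 → K ⊓ centralizer {v} ≤
      K ⊓ centralizer (L : Set G) := by
    rintro v ⟨hv, hvL⟩ hv1 hvv
    have hEL : K ⊓ centralizer {v} ≤ normalizer (L : Set G) := fun x hx =>
      (h.fp.tightL h.tK).mem hvL (orderOf_two hv1 hvv) (mem_Cw.1 hx).2
    obtain ⟨P, hP, hPP, hPe, heP⟩ := h.step1 (E := K ⊓ centralizer {v}) inf_le_left hEL (h.sK.perf v hv hv1 hvv)
      (fun M hM => h.sK.gen2 v hv hv1 hvv M fun x hx hxv h2 => hM x (mem_Cw.2 ⟨hx, hxv⟩) h2)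
    have hPv : P ≤ K ⊓ centralizer {v} := by
      intro c hc
      obtain ⟨e, he, l, hl, rfl⟩ := hPe c hc
      exact mem_Cw.2 ⟨(hP hc).1, comm_of_decomp hl rfl hvL (mem_Cw.1 he).2⟩
    have hn : ∀ e ∈ K ⊓ centralizer {v}, ∀ x ∈ P, e * x * e⁻¹ ∈ P := by
      intro e he x hx
      obtain ⟨l, hl, c, hc, rfl⟩ := heP e he
      have h1 : c * x * c⁻¹ ∈ P := mul_mem (mul_mem hc hx) (inv_mem hc)
      have h2 := comm_of_cen hl (hP h1).2
      have e1 : l * c * x * (l * c)⁻¹ = c * x * c⁻¹ := by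
        calc l * c * x * (l * c)⁻¹ = (l * (c * x * c⁻¹)) * l⁻¹ := by group
          _ = c * x * c⁻¹ := by rw [h2]; group
      rw [e1]; exact h1
    have hvP : v ∈ P := by
      obtain ⟨l, hl, c, hc, e⟩ := heP v (self_mem_Cw hv)
      have := (decomp_unique h.sL.cen (one_mem L) hvL hl (hP hc).2 (by rw [one_mul]; exact e)).2
      rwa [this]
    rcases h.sK.norm v hv hv1 hvv P hPv hn hPP with h1 | h1
    · rw [h1, mem_bot] at hvP
      exact absurd hvP hv1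
    · rw [← h1]; exact hP
  have h1 := h.sK.gen (K ⊓ centralizer (L : Set G)) inf_le_left ⟨w, ⟨hw, hwL⟩, hw1, hww⟩ key
  exact h.nc (by rw [← h1]; exact inf_le_right)

theorem PP.no_two (h : PP K L A W) {w : G} (hw : w ∈ K) (hwL : w ∈ centralizer (L : Set G))
    (h2 : ∃ n : ℕ, w ^ 2 ^ n = 1) : w = 1 := by
  by_contra hne
  obtain ⟨m, h3, h4⟩ := exists_pow_inv h2 hne
  exact h3 (h.no_inv (pow_mem hw m) (pow_mem hwL m) h4)

theorem IsSyl.pow_two {T C : Subgroup G} (h : IsSyl T C) {x : G} (hx : x ∈ T) : ∃ n : ℕ, x ^ 2 ^ n = 1 := by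
  obtain ⟨n, hn⟩ := h.two ⟨x, hx⟩
  exact ⟨n, congrArg Subtype.val hn⟩

/-- decomposition of the elements of `W` -/
theorem PP.dec (h : PP K L A W) {u : G} (hu : u ∈ W) :
    ∃ k ∈ K, ∃ z ∈ A, (∀ a ∈ A, z * a = a * z) ∧ u = k * z :=
  h.decomp (h.WK hu) (IsSyl.pow_two h.fp.sylU hu) fun a ha => (h.fp.comm a ha u hu).symm

/-- **(3)** -/
theorem PP.cent_le (h : PP K L A W) {u k z : G} (hu : u ∈ W) (hu1 : u ≠ 1) (huu : u * u = 1) (hk : k ∈ K)
    (hz : z ∈ A) (e : u = k * z) : k ≠ 1 ∧ k * k = 1 ∧ K ⊓ centralizer {k} ≤ L := by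
  have hzC := h.fp.sylQ.le hz
  have hk1 : k ≠ 1 := by
    rintro rfl
    rw [one_mul] at e
    rw [← e] at hzC
    exact hu1 (h.two_trivial hzC (h.fp.sylU.le hu) (IsSyl.pow_two h.fp.sylU hu))
  have hkz : Commute k z := comm_of_cen hk hzC
  have hkk : k * k = 1 := by
    have h1 : (k * k) * (z * z) = 1 * 1 := by
      rw [one_mul, ← huu, e]
      calc k * k * (z * z) = k * (k * z) * z := by group
        _ = k * (z * k) * z := by rw [hkz.eq]
        _ = _ := by group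
    exact (decomp_unique h.sK.cen (mul_mem hk hk) (mul_mem hzC hzC) (one_mem _) (one_mem _) h1).1
  have hEL : K ⊓ centralizer {k} ≤ normalizer (L : Set G) := by
    intro x hx
    refine (h.fp.tightL h.tK).mem (h.fp.sylU.le hu) (orderOf_two hu1 huu) ?_
    have h1 := comm_of_cen (mem_Cw.1 hx).1 hzC
    rw [e]
    calc x * (k * z) = (x * k) * z := by group
      _ = k * (x * z) := by rw [(mem_Cw.1 hx).2]; group
      _ = _ := by rw [h1]; group
  obtain ⟨P, hP, hPP, hPe, heP⟩ := h.step1 (E := K ⊓ centralizer {k}) inf_le_left hEL (h.sK.perf k hk hk1 hkk)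
    (fun M hM => h.sK.gen2 k hk hk1 hkk M fun x hx hxv h2 => hM x (mem_Cw.2 ⟨hx, hxv⟩) h2)
  refine ⟨hk1, hkk, ?_⟩
  refine h.sK.gen2 k hk hk1 hkk L ?_
  rintro x hx hxk ⟨n, hn⟩
  obtain ⟨l, hl, c, hc, e'⟩ := heP x (mem_Cw.2 ⟨hx, hxk⟩)
  have hc2 := pow_eq_one_of_decomp h.sL.cen hl (hP hc).2 e' hn
  have hc1 := h.no_two (hP hc).1 (hP hc).2 ⟨n, hc2⟩
  rw [e', hc1, mul_one]; exact hl

/-- the involutions of `W` exist -/
theorem PP.exists_inv (h : PP K L A W) : ∃ u ∈ W, u ≠ 1 ∧ u * u = 1 := by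
  obtain ⟨u, hu, hu2⟩ := exists_inv_syl h.fp.sylU h.symm.eK
  refine ⟨u, hu, fun h1 => ?_, ?_⟩
  · rw [h1, orderOf_one] at hu2; norm_num at hu2
  · rw [← _root_.pow_two, ← hu2, pow_orderOf_eq_one]

/-- the K-part of an element of `W` centralises `C_K(k)` for the K-part `k` of an involution of `W` -/
theorem PP.part_comm (h : PP K L A W) {u k z v k' z' : G} (hu : u ∈ W) (hu1 : u ≠ 1) (huu : u * u = 1) (hk : k ∈ K)
    (hz : z ∈ A) (e : u = k * z) (hv : v ∈ W) (hz' : z' ∈ A) (e' : v = k' * z') :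
    ∀ x ∈ K, x * k = k * x → x * k' = k' * x := by
  intro x hx hxk
  have hxL := (h.cent_le hu hu1 huu hk hz e).2.2 (mem_Cw.2 ⟨hx, hxk⟩)
  have h1 : x * v = v * x := comm_of_cen hxL (h.fp.sylU.le hv)
  have h2 : x * z' = z' * x := comm_of_cen hx (h.fp.sylQ.le hz')
  rw [e'] at h1
  have h3 : (x * k') * z' = (k' * x) * z' := by
    calc (x * k') * z' = x * (k' * z') := by group
      _ = k' * (z' * x) := by rw [h1]; group
      _ = _ := by rw [← h2]; group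
  exact mul_right_cancel h3

/-- `W` is elementary abelian -/
theorem PP.sq (h : PP K L A W) {v : G} (hv : v ∈ W) : v * v = 1 := by
  obtain ⟨u, hu, hu1, huu⟩ := h.exists_inv
  obtain ⟨k, hk, z, hz, hzA, e⟩ := h.dec hu
  obtain ⟨k', hk', z', hz', hzA', e'⟩ := h.dec hv
  obtain ⟨hk1, hkk, -⟩ := h.cent_le hu hu1 huu hk hz e
  have h1 : k' * k' = 1 := h.sK.zc k hk hk1 hkk k' hk' fun x hx hxk =>
    (h.part_comm hu hu1 huu hk hz e hv hz' e' x hx hxk)
  have h2 : k' * z' = z' * k' := comm_of_cen hk' (h.fp.sylQ.le hz')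
  have h3 : v * v = z' * z' := by
    rw [e']
    calc k' * z' * (k' * z') = k' * (z' * k') * z' := by group
      _ = (k' * k') * (z' * z') := by rw [← h2]; group
      _ = _ := by rw [h1, one_mul]
  refine h.two_trivial ?_ (h.fp.sylU.le (mul_mem hv hv)) (IsSyl.pow_two h.fp.sylU (mul_mem hv hv))
  rw [h3]
  exact h.fp.sylQ.le (mul_mem hz' hz')

/-- `K ∩ W = 1` -/
theorem PP.K_W (h : PP K L A W) {v : G} (hv : v ∈ W) (hvK : v ∈ K) : v = 1 :=
  h.no_inv hvK (h.fp.sylU.le hv) (h.sq hv)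

/-- `A ∩ W = 1` -/
theorem PP.A_W (h : PP K L A W) {v : G} (hv : v ∈ W) (hvA : v ∈ A) : v = 1 :=
  h.two_trivial (h.fp.sylQ.le hvA) (h.fp.sylU.le hv) ⟨1, by rw [pow_one, _root_.pow_two]; exact h.sq hv⟩

/-- every element of `A` is the `C(K)`-part of an element of `W` -/
theorem PP.surj (h : PP K L A W) : ∀ r ∈ A, ∃ v ∈ W, ∃ k ∈ K, v = k * r := by
  classical
  have hex : ∀ v : W, ∃ z : A, ∃ k ∈ K, (v : G) = k * z := by
    rintro ⟨v, hv⟩
    obtain ⟨k, hk, z, hz, -, e⟩ := h.dec hv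
    exact ⟨⟨z, hz⟩, k, hk, e⟩
  choose f k hk he using hex
  have hinj : Function.Injective f := by
    intro v v' hvv
    have h1 : (v : G) * (v' : G)⁻¹ = k v * (k v')⁻¹ := by
      rw [he v, he v', hvv]; group
    have h2 := h.K_W (mul_mem v.2 (inv_mem v'.2)) (by rw [h1]; exact mul_mem (hk v) (inv_mem (hk v')))
    exact Subtype.ext (mul_inv_eq_one.1 h2)
  have hcard : Nat.card W = Nat.card A := by
    obtain ⟨g, _, hL⟩ := h.fp.conj
    -- `cj g A` is a Sylow subgroup of `C(L)`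
    have h1 : IsSyl (cj g A) (centralizer (L : Set G)) := by
      rw [hL, centralizer_cj]; exact h.fp.sylQ.cj g
    obtain ⟨m, _, hm⟩ := h1.conj_into h.fp.sylU.two h.fp.sylU.le
    obtain ⟨m', _, hm'⟩ := h.fp.sylU.conj_into h1.two h1.le
    have e1 : Nat.card W ≤ Nat.card (cj g A) := by
      rw [← card_cj (g := m) (X := W)]
      apply Nat.card_le_card_of_injective (fun x : cj m W => (⟨x, by
        have h2 := hm _ (mem_cj.1 x.2)
        have e : m * (m⁻¹ * (x : G) * m) * m⁻¹ = x := by group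
        rwa [e] at h2⟩ : cj g A))
      intro x y hxy
      exact Subtype.ext (congrArg (fun z : cj g A => (z : G)) hxy)
    have e2 : Nat.card (cj g A) ≤ Nat.card W := by
      rw [← card_cj (g := m') (X := cj g A)]
      apply Nat.card_le_card_of_injective (fun x : cj m' (cj g A) => (⟨x, by
        have h2 := hm' _ (mem_cj.1 x.2)
        have e : m' * (m'⁻¹ * (x : G) * m') * m'⁻¹ = x := by group
        rwa [e] at h2⟩ : W))
      intro x y hxy
      exact Subtype.ext (congrArg (fun z : W => (z : G)) hxy)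
    rw [card_cj] at e1 e2
    omega
  have hbij : Function.Bijective f := (Nat.bijective_iff_injective_and_card f).2 ⟨hinj, hcard⟩
  intro r hr
  obtain ⟨v, hv⟩ := hbij.2 ⟨r, hr⟩
  exact ⟨v, v.2, k v, hk v, by rw [he v, hv]⟩

theorem cj_self {P : Subgroup G} {x : G} (hx : ∀ y ∈ P, x * y * x⁻¹ ∈ P) : cj x P = P := by
  have h1 : cj x P ≤ P := by
    intro y hy
    have h2 := hx _ (mem_cj.1 hy)
    have e : x * (x⁻¹ * y * x) * x⁻¹ = y := by group
    rwa [e] at h2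
  exact eq_of_le_of_card_ge h1 (by rw [card_cj])

theorem cj_of_comm {P : Subgroup G} {x : G} (hx : ∀ y ∈ P, x * y = y * x) : cj x P = P :=
  cj_self fun y hy => by rw [hx y hy]; simpa using hy

theorem PP.exists_g (h : PP K L A W) : ∃ g, L = cj g K ∧ W = cj g A := by
  obtain ⟨g, _, hL⟩ := h.fp.conj
  have h1 : IsSyl (cj g A) (centralizer (L : Set G)) := by
    rw [hL, centralizer_cj]; exact h.fp.sylQ.cj g
  obtain ⟨m, hmC, hm⟩ := h1.conj_into h.fp.sylU.two h.fp.sylU.le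
  -- `cj m W` is Sylow, contained in `cj g A`
  have h2 : cj m W ≤ cj g A := by
    intro x hx
    have h2 := hm _ (mem_cj.1 hx)
    have e : m * (m⁻¹ * x * m) * m⁻¹ = x := by group
    rwa [e] at h2
  have h3 : cj m (centralizer (L : Set G)) = centralizer (L : Set G) := cj_self fun y hy =>
    mul_mem (mul_mem hmC hy) (inv_mem hmC)
  have h4 : IsSyl (cj m W) (centralizer (L : Set G)) := by
    have := h.fp.sylU.cj m
    rwa [h3] at this
  have h5 : cj g A = cj m W := le_antisymm (h4.max _ h1.two h2 h1.le) h2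
  refine ⟨m⁻¹ * g, ?_, ?_⟩
  · rw [cj_mul, ← hL]
    exact (cj_of_comm fun y hy => (mem_centralizer_iff.1 (inv_mem hmC) y hy).symm).symm
  · rw [cj_mul, h5, cj_inv_cj]

/-- conjugation by an element of `K` -/
theorem PP.conjK (h : PP K L A W) {x : G} (hx : x ∈ K) : PP K (cj x L) A (cj x W) := by
  have h1 := h.conj x
  rwa [cj_self fun y hy => mul_mem (mul_mem hx hy) (inv_mem hx),
    cj_of_comm (P := A) fun y hy => comm_of_cen hx (h.fp.sylQ.le hy)] at h1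

end pair

end Cfsg.Agent.OddHalf.D4.TwF.Pair

end

-- merged: Cfsg.Agent.OddHalf.D4.TwF.XFacts
section

/-!
# ODD D4, `K = ²F₄(q)`: the facts `XF`
-/

set_option autoImplicit false
set_option linter.unusedSectionVars false

namespace Cfsg.Agent.OddHalf.D4.TwF.XFacts

open Subgroup Cfsg.Agent.KFacts.TwF4 Cfsg.Agent.OddHalf.D4.TwF.Pair
open Cfsg.Agent.SplitTwo Cfsg.Agent.SplitTwo.ZS Cfsg.Agent.TitsThree.RankTwoZ Cfsg.Agent.TitsThree.RankTwoRGD
open Cfsg.Agent.SplitTwo.RootSysZ Cfsg.Agent.KFacts.TwF4.Inv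
open Cfsg.Agent.OddHalf.D4.CommConj (cj mem_cj cj_mul card_cj mem_cj_mul)

universe u

variable {F : Type*} [Field F] {σ : F →+* F} {X : Type u} [Group X]

/-- the facts at `w` -/
structure Good (w : X) : Prop where
  perf : ⁅centralizer {w}, centralizer {w}⁆ = centralizer {w}
  gen2 : ∀ M : Subgroup X, (∀ x, x * w = w * x → (∃ n : ℕ, x ^ 2 ^ n = 1) → x ∈ M) → centralizer {w} ≤ M
  norm : ∀ P ≤ centralizer {w}, (∀ e ∈ centralizer {w}, ∀ x ∈ P, e * x * e⁻¹ ∈ P) → ⁅P, P⁆ = P →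
    P = ⊥ ∨ P = centralizer {w}
  zc : ∀ x : X, (∀ e, e * w = w * e → e * x = x * e) → x * x = 1

theorem cent_conj (k w : X) : centralizer {k * w * k⁻¹} = cj k (centralizer {w}) := by
  ext x
  rw [mem_cj, mem_centralizer_singleton_iff, mem_centralizer_singleton_iff]
  constructor
  · intro h
    calc k⁻¹ * x * k * w = k⁻¹ * (x * (k * w * k⁻¹)) * k := by group
      _ = _ := by rw [h]; group
  · intro h
    calc x * (k * w * k⁻¹) = k * ((k⁻¹ * x * k) * w) * k⁻¹ := by group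
      _ = _ := by rw [h]; group

theorem Good.conj {w : X} (h : Good w) (k : X) : Good (k * w * k⁻¹) where
  perf := by
    rw [cent_conj]
    show ⁅(centralizer {w}).map _, (centralizer {w}).map _⁆ = (centralizer {w}).map _
    rw [← map_commutator, h.perf]
  gen2 := by
    intro M hM
    rw [cent_conj]
    have h1 : centralizer {w} ≤ cj k⁻¹ M := by
      refine h.gen2 _ ?_
      rintro x hx ⟨n, hn⟩
      rw [mem_cj, inv_inv]
      refine hM _ ?_ ⟨n, ?_⟩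
      · calc k * x * k⁻¹ * (k * w * k⁻¹) = k * (x * w) * k⁻¹ := by group
          _ = _ := by rw [hx]; group
      · rw [conj_pow, hn]; group
    intro x hx
    have h2 := h1 (mem_cj.1 hx)
    rw [mem_cj, inv_inv] at h2
    have e : k * (k⁻¹ * x * k) * k⁻¹ = x := by group
    rwa [e] at h2
  norm := by
    intro P hP hn hPP
    rw [cent_conj] at hP hn ⊢
    have h1 := h.norm (cj k⁻¹ P) (by
      intro x hx
      rw [mem_cj, inv_inv] at hx
      have h2 := mem_cj.1 (hP hx)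
      have e : k⁻¹ * (k * x * k⁻¹) * k = x := by group
      rwa [e] at h2) (by
      intro e he x hx
      rw [mem_cj, inv_inv] at hx ⊢
      have h2 := hn _ (mem_cj_mul (g := k) he) _ hx
      have e : k * e * k⁻¹ * (k * x * k⁻¹) * (k * e * k⁻¹)⁻¹ = k * (e * x * e⁻¹) * k⁻¹ := by group
      rwa [e] at h2) (by
      show ⁅P.map _, P.map _⁆ = P.map _
      rw [← map_commutator, hPP])
    have e : P = cj k (cj k⁻¹ P) := by
      rw [← cj_mul, mul_inv_cancel]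
      ext x
      rw [mem_cj]; simp
    rcases h1 with h1 | h1
    · left; rw [e, h1]; exact Subgroup.map_bot _
    · right; rw [e, h1]
  zc := by
    intro x hx
    have h1 := h.zc (k⁻¹ * x * k) (by
      intro e he
      have h2 := hx (k * e * k⁻¹) (by
        calc k * e * k⁻¹ * (k * w * k⁻¹) = k * (e * w) * k⁻¹ := by group
          _ = _ := by rw [he]; group)
      calc e * (k⁻¹ * x * k) = k⁻¹ * ((k * e * k⁻¹) * x) * k := by group
        _ = _ := by rw [h2]; group)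
    calc x * x = k * (k⁻¹ * x * k * (k⁻¹ * x * k)) * k⁻¹ := by group
      _ = 1 := by rw [h1]; group

variable (S : Full σ X) [Finite F] [Finite X]

theorem PL_le {M : Subgroup X} (hR : S.R.p = 2) (hM : ∀ x ∈ S.PL, (∃ n : ℕ, x ^ 2 ^ n = 1) → x ∈ M) : S.PL ≤ M := by
  refine J_le fun k h1 h2 x hx => hM x (mem_J hx h1 h2) ?_
  obtain ⟨n, hn⟩ := two_X S hR k ⟨x, hx⟩
  exact ⟨n, congrArg Subtype.val hn⟩

theorem HO_le {M : Subgroup X} (hR : S.R.p = 2) (hM : ∀ x ∈ S.HO, (∃ n : ℕ, x ^ 2 ^ n = 1) → x ∈ M) : S.HO ≤ M := by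
  refine sup_le (sup_le ?_ ?_) ?_
  · intro x hx
    refine hM x (Perf.X1_HO S hx) ?_
    obtain ⟨n, hn⟩ := two_X S hR 1 ⟨x, hx⟩
    exact ⟨n, congrArg Subtype.val hn⟩
  · intro x hx
    refine hM x (Perf.X9_HO S hx) ?_
    obtain ⟨n, hn⟩ := two_X S hR 9 ⟨x, hx⟩
    exact ⟨n, congrArg Subtype.val hn⟩
  · intro x hx
    refine hM x (Perf.NO_HO S hx) ?_
    obtain ⟨n, hn⟩ := Perf.two_NO S hR ⟨x, hx⟩
    exact ⟨n, congrArg Subtype.val hn⟩

theorem good_z (hF : ∃ c : Fˣ, c ≠ 1) (hR : S.R.p = 2) {z : X} (hz : z ∈ S.Zc 2) (hz1 : z ≠ 1) : Good z := by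
  have hc := S.centralizer_z hz hz1
  refine ⟨?_, ?_, ?_, ?_⟩
  · rw [hc]; exact Perf.PL_perfect S hF
  · intro M hM
    rw [hc]
    refine PL_le S hR fun x hx h2 => hM x ?_ h2
    rw [← hc] at hx
    exact mem_centralizer_singleton_iff.1 hx
  · rw [hc]; exact fun P h1 h2 h3 => Perf.PL_normal S hF hR h1 h2 h3
  · intro x hx
    have h1 : x ∈ S.Zc 2 := S.center_PL fun y hy => (hx y (by
      rw [← hc] at hy
      exact mem_centralizer_singleton_iff.1 hy)).symm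
    obtain ⟨u, rfl⟩ := h1
    exact z_sq S _ _

theorem good_o (hF : ∃ c : Fˣ, c ≠ 1) (hR : S.R.p = 2) {s : F} (hs : s ≠ 0) : Good (S.o 2 s) := by
  have hc := S.centralizer_o hs
  refine ⟨?_, ?_, ?_, ?_⟩
  · rw [hc]; exact Perf.HO_perfect S hF
  · intro M hM
    rw [hc]
    refine HO_le S hR fun x hx h2 => hM x ?_ h2
    rw [← hc] at hx
    exact mem_centralizer_singleton_iff.1 hx
  · rw [hc]; exact fun P h1 h2 h3 => Perf.HO_normal S hF hR h1 h2 h3
  · intro x hx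
    have h0 : x ∈ S.HO := by
      rw [← hc, mem_centralizer_singleton_iff]
      exact (hx _ rfl).symm
    have h1 : x ∈ S.XZ 5 := S.center_HO h0 fun y hy => (hx y (by
      rw [← hc] at hy
      exact mem_centralizer_singleton_iff.1 hy)).symm
    obtain ⟨u, rfl⟩ := S.X5 h1
    exact o_sq S _ _

/-- the two types of involutions -/
theorem types (hF : ∃ c : Fˣ, c ≠ 1) (hR : S.R.p = 2) {w : X} (hw : w ≠ 1) (hww : w * w = 1) :
    (∃ k : X, ∃ u : F, u ≠ 0 ∧ w = k * S.e 2 0 u * k⁻¹) ∨ (∃ k : X, ∃ s : F, s ≠ 0 ∧ w = k * S.o 2 s * k⁻¹) := by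
  rcases SylU.classes S hF hR hww hw with ⟨u, hu, k, hk⟩ | ⟨t, ht, k, hk⟩
  · left
    have h1 := S.rotk_e 2 0 0 u
    refine ⟨(S.rot ^ (2 : ℤ) * k)⁻¹, u, hu, ?_⟩
    have h2 : S.rot ^ (2 : ℤ) * S.e 0 0 u * (S.rot ^ (2 : ℤ))⁻¹ = S.e 2 0 u := h1
    rw [← h2, ← hk]; group
  · right
    have h1 := S.rotk_o 2 0 t
    refine ⟨(S.rot ^ (2 : ℤ) * k)⁻¹, t, ht, ?_⟩
    have h2 : S.rot ^ (2 : ℤ) * S.o 0 t * (S.rot ^ (2 : ℤ))⁻¹ = S.o 2 t := h1
    rw [← h2, ← hk]; group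

theorem good (hF : ∃ c : Fˣ, c ≠ 1) (hR : S.R.p = 2) {w : X} (hw : w ≠ 1) (hww : w * w = 1) : Good w := by
  rcases types S hF hR hw hww with ⟨k, u, hu, rfl⟩ | ⟨k, s, hs, rfl⟩
  · exact (good_z S hF hR ⟨u, rfl⟩ fun h => hu (S.e_eq_one h).2).conj k
  · exact (good_o S hF hR hs).conj k

/-- a subgroup containing an involution and the centralizers of its involutions -/
theorem eq_top_aux {N : Subgroup X} (hN : ∀ w ∈ N, w ≠ 1 → w * w = 1 → centralizer {w} ≤ N) (hP : S.PL ≤ N) : N = ⊤ := by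
  have h3 : S.e 3 0 1 ∈ N := hP (mem_J (S.mX6 0 1) (by norm_num) (by norm_num))
  have h31 : S.e 3 0 1 ≠ 1 := fun h => one_ne_zero (S.e_eq_one h).2
  have h4 := hN _ h3 h31 (z_sq S _ _)
  have h5 : centralizer {S.e 3 0 1} = J S.XZ (2 * 3 - 4) (2 * 3 + 4) := S.centralizer_Zc 3 ⟨1, rfl⟩ h31
  rw [h5] at h4
  exact eq_top_of S (fun x hx => hP (mem_J hx (by norm_num) (by norm_num)))
    (fun x hx => hP (mem_J hx (by norm_num) (by norm_num))) (fun x hx => hP (mem_J hx (by norm_num) (by norm_num)))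
    (fun x hx => h4 (mem_J hx (by norm_num) (by norm_num)))

theorem eq_top_gen (hF : ∃ c : Fˣ, c ≠ 1) (hR : S.R.p = 2) {N : Subgroup X} (hex : ∃ w ∈ N, w ≠ 1 ∧ w * w = 1)
    (hN : ∀ w ∈ N, w ≠ 1 → w * w = 1 → centralizer {w} ≤ N) : N = ⊤ := by
  obtain ⟨w, hw, hw1, hww⟩ := hex
  have key : ∀ k : X, S.PL ≤ cj k⁻¹ N → N = ⊤ := by
    intro k hk
    have h1 : cj k⁻¹ N = ⊤ := by
      refine eq_top_aux S ?_ hk
      intro w hw hw1 hww
      rw [mem_cj, inv_inv] at hw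
      have h2 := hN _ hw (by
        intro h
        apply hw1
        calc w = k⁻¹ * (k * w * k⁻¹) * k := by group
          _ = 1 := by rw [h]; group) (by
        calc k * w * k⁻¹ * (k * w * k⁻¹) = k * (w * w) * k⁻¹ := by group
          _ = 1 := by rw [hww]; group)
      rw [cent_conj] at h2
      intro x hx
      rw [mem_cj, inv_inv]
      exact h2 (mem_cj_mul hx)
    rw [eq_top_iff]
    intro x _
    have h3 : k⁻¹ * x * k ∈ cj k⁻¹ N := by rw [h1]; trivial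
    rw [mem_cj, inv_inv] at h3
    have e : k * (k⁻¹ * x * k) * k⁻¹ = x := by group
    rwa [e] at h3
  have key2 : ∀ k : X, ∀ u : F, u ≠ 0 → k * S.e 2 0 u * k⁻¹ ∈ N → N = ⊤ := by
    intro k u hu hm
    have hu1 : S.e 2 0 u ≠ 1 := fun h => hu (S.e_eq_one h).2
    refine key k ?_
    have h1 := hN _ hm (by
      intro h
      apply hu1
      calc S.e 2 0 u = k⁻¹ * (k * S.e 2 0 u * k⁻¹) * k := by group
        _ = 1 := by rw [h]; group) (by
      calc k * S.e 2 0 u * k⁻¹ * (k * S.e 2 0 u * k⁻¹) = k * (S.e 2 0 u * S.e 2 0 u) * k⁻¹ := by group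
        _ = 1 := by rw [z_sq S]; group)
    rw [cent_conj, S.centralizer_z ⟨u, rfl⟩ hu1] at h1
    intro x hx
    rw [mem_cj, inv_inv]
    exact h1 (mem_cj_mul hx)
  rcases types S hF hR hw1 hww with ⟨k, u, hu, rfl⟩ | ⟨k, s, hs, rfl⟩
  · exact key2 k u hu hw
  · have h1 := hN _ hw hw1 hww
    rw [cent_conj, S.centralizer_o hs] at h1
    refine key2 k 1 one_ne_zero (h1 (mem_cj_mul ?_))
    exact Perf.J37_HO S (mem_J (S.mX4 0 1) (by norm_num) (by norm_num))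

/-- **the facts `XF`** -/
theorem xf {m : ℕ} (hcard : Nat.card F = 2 ^ (2 * m + 1)) (hF : ∃ c : Fˣ, c ≠ 1) (hR : S.R.p = 2) : XF X where
  cen _ hx := OutTwo.center_eq_bot S hF fun g => (hx g).symm
  inner _ _ hn := OutTwo.inner S hcard hF hR hn
  perf _ hw hww := (good S hF hR hw hww).perf
  gen2 _ hw hww := (good S hF hR hw hww).gen2
  norm _ hw hww := (good S hF hR hw hww).norm
  gen _ := eq_top_gen S hF hR
  zc _ hw hww := (good S hF hR hw hww).zc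

end Cfsg.Agent.OddHalf.D4.TwF.XFacts

end

-- merged: Cfsg.Agent.OddHalf.D4.TwF.Types
section

/-!
# ODD D4, `K = ²F₄(q)`: pairs of type `Z` and of type `O` do not exist
-/

set_option autoImplicit false
set_option linter.unusedSectionVars false

namespace Cfsg.Agent.OddHalf.D4.TwF.Types

open Subgroup Cfsg.Agent.KFacts.TwF4 Cfsg.Agent.OddHalf.D4.TwF.Pair Cfsg.Agent.OddHalf.D4.TwF.XFacts
open Cfsg.Agent.SplitTwo Cfsg.Agent.SplitTwo.ZS Cfsg.Agent.TitsThree.RankTwoZ Cfsg.Agent.TitsThree.RankTwoRGD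
open Cfsg.Agent.SplitTwo.RootSysZ Cfsg.Agent.KFacts.TwF4.Inv Cfsg.Agent.OddHalf.D4 Cfsg.Agent.OddHalf.D4.Basic
open Cfsg.Agent.OddHalf.D4.TwF.Gnorm (conj_inv_mem)
open Cfsg.Agent.OddHalf.D4.CommConj (cj mem_cj cj_mul card_cj mem_cj_mul)

universe u

section X

variable {F : Type*} [Field F] {σ : F →+* F} {X : Type u} [Group X]
variable (S : Full σ X) [Finite F] [Finite X]

theorem isSyl_U (hF : ∃ c : Fˣ, c ≠ 1) (hR : S.R.p = 2) : IsSyl (J S.XZ 1 8) (⊤ : Subgroup X) := by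
  obtain ⟨P, hP⟩ := SylU.exists_sylow S hF hR
  refine ⟨?_, le_top, ?_⟩
  · rw [← hP]; exact P.2
  · intro Q hQ hle _
    rw [← hP] at hle ⊢
    exact (P.3 hQ hle).le

/-- `|C(Z_4)| ≠ |C(X_5)|` -/
theorem card_ne (hF : ∃ c : Fˣ, c ≠ 1) (hR : S.R.p = 2) : Nat.card S.PL ≠ Nat.card S.HO := by
  intro hcard
  have : Fact (Nat.Prime 2) := ⟨Nat.prime_two⟩
  have hU := isSyl_U S hF hR
  obtain ⟨n, hn⟩ := IsPGroup.iff_card.1 hU.two
  have hdvd : 2 ^ n ∣ Nat.card S.HO := by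
    rw [← hcard, ← hn]
    exact card_dvd_of_le (J_mono (by norm_num) le_rfl)
  obtain ⟨V, hV⟩ := Sylow.exists_subgroup_card_pow_prime 2 hdvd
  have hV2 : Nat.card (V.map S.HO.subtype) = 2 ^ n := by
    rw [card_map_of_injective (subtype_injective _), hV]
  obtain ⟨x, -, hx⟩ := hU.conj_into (Q := V.map S.HO.subtype) (IsPGroup.iff_card.2 ⟨n, hV2⟩) le_top
  have h1 : cj x (V.map S.HO.subtype) ≤ J S.XZ 1 8 := by
    intro y hy
    have h2 := hx _ (mem_cj.1 hy)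
    have e : x * (x⁻¹ * y * x) * x⁻¹ = y := by group
    rwa [e] at h2
  have h2 : cj x (V.map S.HO.subtype) = J S.XZ 1 8 := eq_of_le_of_card_ge h1 (by rw [card_cj, hV2, hn])
  have h3 : x * S.o 2 1 * x⁻¹ ∈ S.Zc 2 := by
    rw [← S.centralizer_Q, mem_centralizer_iff]
    intro q hq
    have hq8 : q ∈ J S.XZ 1 8 := J_mono le_rfl (by norm_num) hq
    rw [← h2, mem_cj] at hq8
    obtain ⟨v, hv, e⟩ := hq8
    have e' : x⁻¹ * q * x = v := e.symm
    have h4 : S.o 2 1 * (v : X) = v * S.o 2 1 := mem_centralizer_iff.1 (S.HO_le_cent v.2) _ (S.mX5 1)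
    calc q * (x * S.o 2 1 * x⁻¹) = x * ((x⁻¹ * q * x) * S.o 2 1) * x⁻¹ := by group
      _ = x * (S.o 2 1 * (x⁻¹ * q * x)) * x⁻¹ := by rw [e', h4]
      _ = _ := by group
  exact S.not_conj h3 one_ne_zero x⁻¹ (by group)

/-- `[V, C(X_5)] ≤ Z_4 Z_6` -/
theorem V5_comm {v h : X} (hv : v ∈ S.V5) (hh : h ∈ S.HO) : v⁻¹ * (h * v * h⁻¹) ∈ S.W46 := by
  obtain ⟨a, s, b, rfl⟩ := S.mem_V5.1 hv
  have hy : S.o 2 s ∈ J S.XZ 1 9 := mem_J (S.mX5 s) (by norm_num) (by norm_num)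
  have hs : h * S.o 2 s * h⁻¹ = S.o 2 s := by
    have h4 : S.o 2 s * h = h * S.o 2 s := mem_centralizer_iff.1 (S.HO_le_cent hh) _ (S.mX5 s)
    rw [← h4]; group
  have hW := Perf.HO_le_J S hh
  have h1 := S.W46_conj hW (S.Z4_W46 a)
  have h2 := S.W46_conj hW (S.Z6_W46 b)
  have h3 : (S.e 2 0 a)⁻¹ * (h * S.e 2 0 a * h⁻¹) ∈ S.W46 := mul_mem (inv_mem (S.Z4_W46 a)) h1
  have h4 := S.W46_conj (inv_mem hy) h3
  rw [inv_inv] at h4
  have e : (S.e 2 0 a * S.o 2 s * S.e 3 0 b)⁻¹ * (h * (S.e 2 0 a * S.o 2 s * S.e 3 0 b) * h⁻¹) =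
      (S.e 3 0 b)⁻¹ * ((S.o 2 s)⁻¹ * ((S.e 2 0 a)⁻¹ * (h * S.e 2 0 a * h⁻¹)) * S.o 2 s) *
        (h * S.e 3 0 b * h⁻¹) := by
    calc _ = (S.e 3 0 b)⁻¹ * ((S.o 2 s)⁻¹ * ((S.e 2 0 a)⁻¹ * (h * S.e 2 0 a * h⁻¹)) * (h * S.o 2 s * h⁻¹)) *
        (h * S.e 3 0 b * h⁻¹) := by group
      _ = _ := by rw [hs]
  rw [e]
  exact mul_mem (mul_mem (inv_mem (S.Z6_W46 b)) h4) h2

omit [Finite F] [Finite X] in
theorem o0_z3 (t v : F) : S.o 0 t * S.e 3 0 v * (S.o 0 t)⁻¹ = S.e 3 0 v * S.e 2 0 (t * v) := by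
  have h1 : S.o 0 t * S.e 3 0 v = S.e 3 0 v * S.o 0 t * S.e 2 0 (t * v) := by
    have h := S.o_e3 0 t 0 v
    rw [map_zero, mul_zero, mul_zero, mul_zero, zero_add (t * v)] at h
    have h' : S.o 0 t * S.e 3 0 v = S.e 3 0 v * S.o 0 t * S.e 1 0 0 * S.o 1 0 * S.e 2 0 (t * v) := h
    rw [S.e_zero, S.o_zero, mul_one, mul_one] at h'
    exact h'
  have h2 : S.o 0 t * S.e 2 0 (t * v) = S.e 2 0 (t * v) * S.o 0 t :=
    S.comm_Z4 (k := 1) (by norm_num) (by norm_num) (S.mX1 t) _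
  rw [h1, mul_assoc (S.e 3 0 v), h2]; group

omit [Finite F] [Finite X] in
/-- the elements of `Z_4 Z_6` are conjugate to elements of `Z_4` -/
theorem W46_type {x : X} (hx : x ∈ S.W46) (hx1 : x ≠ 1) : ∃ k : X, ∃ u : F, u ≠ 0 ∧ x = k * S.e 2 0 u * k⁻¹ := by
  obtain ⟨u, v, rfl⟩ := hx
  by_cases hv : v = 0
  · subst hv
    rw [S.e_zero, mul_one] at hx1 ⊢
    refine ⟨1, u, ?_, by simp⟩
    rintro rfl
    exact hx1 (S.e_zero _)
  · have h1 := o0_z3 S (u / v) v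
    rw [div_mul_cancel₀ _ hv] at h1
    have h2 : S.n1 * S.e 2 0 v * S.n1⁻¹ = S.e 3 0 v := S.n1_e 2 0 v
    have h3 : S.e 2 0 u * S.e 3 0 v = S.e 3 0 v * S.e 2 0 u :=
      (S.comm_Z4 (k := 6) (by norm_num) (by norm_num) (S.mX6 0 v) u).symm
    refine ⟨S.o 0 (u / v) * S.n1, v, hv, ?_⟩
    rw [h3, ← h1, ← h2]; group

omit [Finite F] [Finite X] in
/-- `e_1(1, 0)` moves `X_5` -/
theorem e1_o2 (s : F) : S.e 1 1 0 * S.o 2 s * (S.e 1 1 0)⁻¹ = S.o 2 s * S.e 2 0 s := by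
  have h1 : S.e 1 1 0 * S.o 2 s = S.o 2 s * S.e 1 1 0 * S.e 2 0 s := by
    have h := S.e_o1 1 1 0 s
    rw [one_mul] at h
    exact h
  have h2 : S.e 1 1 0 * S.e 2 0 s = S.e 2 0 s * S.e 1 1 0 :=
    S.comm_Z4 (k := 2) (by norm_num) (by norm_num) (S.mX2 1 0) _
  rw [h1, mul_assoc (S.o 2 s), h2]; group

omit [Finite F] [Finite X] in
/-- `z_2(s) = z_3(1)⁻¹ o_0(s) z_3(1) o_0(s)⁻¹` -/
theorem z2_comm (s : F) : S.e 2 0 s = (S.e 3 0 1)⁻¹ * (S.o 0 s * S.e 3 0 1 * (S.o 0 s)⁻¹) := by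
  rw [o0_z3, mul_one]; group

end X

section G

variable {F : Type*} [Field F] [CharP F 2] {σ : F →+* F} {X : Type u} [Group X]
variable (S : Full σ X) [Finite F] [Finite X]
variable {G : Type*} [Group G] [Finite G] {j : X →* G} (hj : Function.Injective j) {L A W : Subgroup G}

include hj in
/-- **the second centralizer**: `C_K(k) = C_L(l)` -/
theorem match_cent (h : PP j.range L A W) {x0 : X} {z : G} (hu : j x0 * z ∈ W) (hu1 : j x0 * z ≠ 1) (hz : z ∈ A) :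
    ∃ (g : G) (x' : X), L = cj g j.range ∧ W = cj g A ∧ x' ≠ 1 ∧ x' * x' = 1 ∧
      cj g ((centralizer {x'}).map j) = (centralizer {x0}).map j := by
  obtain ⟨g, hL, hW⟩ := h.exists_g
  have hc := h.cent_le hu hu1 (h.sq hu) ⟨x0, rfl⟩ hz rfl
  obtain ⟨t, ht, ht1, htt⟩ := h.symm.exists_inv
  obtain ⟨l, hl, w, hw, -, e⟩ := h.symm.dec ht
  have hc' := h.symm.cent_le ht ht1 htt hl hw e
  have hl' := hl
  rw [hL, mem_cj] at hl'
  obtain ⟨x', hx'⟩ := hl'
  have hl1 : l = g * j x' * g⁻¹ := by rw [hx']; group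
  refine ⟨g, x', hL, hW, ?_, ?_, ?_⟩
  · rintro rfl
    apply hc'.1
    rw [hl1, map_one]; group
  · apply hj
    rw [map_mul, map_one]
    calc j x' * j x' = g⁻¹ * (l * l) * g := by rw [hl1]; group
      _ = 1 := by rw [hc'.2.1]; group
  · rw [← range_inf_cent hj, ← range_inf_cent hj]
    have h1 : cj g (j.range ⊓ centralizer {j x'}) = L ⊓ centralizer {l} := by
      ext y
      rw [mem_cj, mem_Cw, mem_Cw, hL, mem_cj]
      refine and_congr_right fun _ => ?_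
      rw [hl1]
      constructor
      · intro h1
        calc y * (g * j x' * g⁻¹) = g * (g⁻¹ * y * g * j x') * g⁻¹ := by group
          _ = _ := by rw [h1]; group
      · intro h1
        calc g⁻¹ * y * g * j x' = g⁻¹ * (y * (g * j x' * g⁻¹)) * g := by group
          _ = _ := by rw [h1]; group
    rw [h1]
    apply le_antisymm
    · intro y hy
      have hyK := hc'.2.2 hy
      have hyL := (mem_Cw.1 hy).1
      refine mem_Cw.2 ⟨hyK, ?_⟩
      have h2 : y * (j x0 * z) = (j x0 * z) * y := comm_of_cen hyL (h.fp.sylU.le hu)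
      have h3 : y * z = z * y := comm_of_cen hyK (h.fp.sylQ.le hz)
      have h4 : (y * j x0) * z = (j x0 * y) * z := by
        calc (y * j x0) * z = y * (j x0 * z) := by group
          _ = j x0 * (z * y) := by rw [h2]; group
          _ = _ := by rw [← h3]; group
      exact mul_right_cancel h4
    · intro y hy
      have hyL := hc.2.2 hy
      have hyK := (mem_Cw.1 hy).1
      refine mem_Cw.2 ⟨hyL, ?_⟩
      have h2 : y * t = t * y := comm_of_cen hyK (h.fp.sylQ.le ht)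
      have h3 : y * w = w * y := comm_of_cen hyL (h.fp.sylU.le hw)
      rw [e] at h2
      have h4 : (y * l) * w = (l * y) * w := by
        calc (y * l) * w = y * (l * w) := by group
          _ = l * (w * y) := by rw [h2]; group
          _ = _ := by rw [← h3]; group
      exact mul_right_cancel h4

/-- the `K`-parts of the elements of `W` -/
theorem part (h : PP j.range L A W) {x0 : X} {z : G} (hu : j x0 * z ∈ W) (hu1 : j x0 * z ≠ 1) (hz : z ∈ A) {r : G}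
    (hr : r ∈ A) : ∃ y : X, r * j y ∈ W ∧ ∀ x, x * x0 = x0 * x → j (x * y) = j (y * x) := by
  obtain ⟨v, hv, k, ⟨y, rfl⟩, e⟩ := h.surj r hr
  refine ⟨y, ?_, ?_⟩
  · have h1 : j y * r = r * j y := comm_of_cen (K := j.range) ⟨y, rfl⟩ (h.fp.sylQ.le hr)
    rw [← h1, ← e]; exact hv
  · intro x hx
    rw [map_mul, map_mul]
    refine h.part_comm hu hu1 (h.sq hu) ⟨x0, rfl⟩ hz rfl hv hr e _ ⟨x, rfl⟩ ?_
    rw [← map_mul, hx, map_mul]

theorem amb (h : PP j.range L A W) : DblR.Amb j.range A where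
  tt _ ht := h.symm.sq ht
  comm _ ht _ hk := (comm_of_cen hk (h.fp.sylQ.le ht)).symm
  nor _ ht ht1 _ hg k hk :=
    (mem_normalizer_iff.1 (h.tK.mem (h.fp.sylQ.le ht) (orderOf_two ht1 (h.symm.sq ht)) hg) k).1 hk
  ctr k hk hc := h.sK.cen k hk (mem_centralizer_iff.2 fun x hx => (hc x hx).symm)

include hj in
/-- **type `Z`** -/
theorem false_Z1 (hxf : XF X) (hF : ∃ c : Fˣ, c ≠ 1) (hR : S.R.p = 2) (h : PP j.range L A W)
    (hA : ∀ t ∈ A, t ≠ 1 → ∃ r ∈ A, r ≠ 1 ∧ r ≠ t) {b : F} {z : G} (hb : b ≠ 0)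
    (hu : j (S.e 2 0 b) * z ∈ W) (hz : z ∈ A) : False := by
  have hb1 : S.e 2 0 b ≠ 1 := fun h => hb (S.e_eq_one h).2
  have hcb := S.centralizer_z ⟨b, rfl⟩ hb1
  have hu1 : j (S.e 2 0 b) * z ≠ 1 := by
    intro h1
    have h2 := (decomp_unique h.sK.cen (k := j (S.e 2 0 b)) (c := z) (k' := 1) (c' := 1) ⟨_, rfl⟩ (h.fp.sylQ.le hz)
      (one_mem _) (one_mem _) (by rw [h1, one_mul])).1
    exact hb1 (hj (by rw [h2, map_one]))
  obtain ⟨g, x', hL, hW, hx1, hxx, hm⟩ := match_cent hj h hu hu1 hz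
  rw [hcb] at hm
  rcases types S hF hR hx1 hxx with ⟨y, b', hb', rfl⟩ | ⟨y, s, hs, rfl⟩
  · rw [cent_conj, S.centralizer_z ⟨b', rfl⟩ fun h => hb' (S.e_eq_one h).2] at hm
    have hyA : cj (j y) A = A := cj_of_comm fun a ha => comm_of_cen (K := j.range) ⟨y, rfl⟩ (h.fp.sylQ.le ha)
    have hyP : (cj y S.PL).map j = cj (j y) (S.PL.map j) := by
      ext w
      rw [mem_cj]
      constructor
      · rintro ⟨x, hx, rfl⟩
        rw [SetLike.mem_coe, mem_cj] at hx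
        exact ⟨_, hx, by simp only [_root_.map_mul, _root_.map_inv]⟩
      · rintro ⟨x, hx, e⟩
        refine ⟨y * x * y⁻¹, ?_, ?_⟩
        · exact mem_cj_mul hx
        · rw [map_mul, map_mul, map_inv, e]; group
    rw [hyP, ← cj_mul] at hm
    have hg : ∀ x ∈ S.PL.map j, (g * j y) * x * (g * j y)⁻¹ ∈ S.PL.map j := by
      intro x hx
      rw [← hm]
      exact mem_cj_mul hx
    have hW' : W = cj (g * j y) A := by rw [cj_mul, hyA, hW]
    have hu' := hu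
    obtain ⟨t, ht, ht1, -⟩ := h.symm.exists_inv
    obtain ⟨r, hr, hr1, hrt⟩ := hA t ht ht1
    have hkill := Kill.kill S hj hF hR hxf.inner (amb h) hg (fun r hr => by
      obtain ⟨y', hy', hc⟩ := part h hu hu1 hz hr
      have h3 : y' ∈ S.Zc 2 := S.center_PL fun x hx => hj (hc x (by
        rw [← hcb] at hx
        exact mem_centralizer_singleton_iff.1 hx)).symm
      obtain ⟨b', rfl⟩ := h3
      exact ⟨b', by rw [← hW']; exact hy'⟩) (fun r hr hrW => h.A_W (by rw [hW']; exact hrW) hr)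
      (fun b' hb' => by
        have h3 := h.K_W (by rw [hW']; exact hb') ⟨_, rfl⟩
        exact (S.e_eq_one (hj (h3.trans (map_one j).symm))).2) ht ht1
    rcases hkill r hr with h4 | h4
    · exact hr1 h4
    · exact hrt h4
  · rw [cent_conj, S.centralizer_o hs] at hm
    have h1 : Nat.card S.PL = Nat.card S.HO := by
      rw [← card_map_of_injective hj (K := S.PL), ← hm, card_cj, card_map_of_injective (f := j) hj, card_cj]
    exact card_ne S hF hR h1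

theorem conj_part {y x0 : X} {z : G} (h : PP j.range L A W) (hu : j (y * x0 * y⁻¹) * z ∈ W) (hz : z ∈ A) :
    PP j.range (cj (j y)⁻¹ L) A (cj (j y)⁻¹ W) ∧ j x0 * z ∈ cj (j y)⁻¹ W := by
  refine ⟨h.conjK (inv_mem ⟨y, rfl⟩), ?_⟩
  rw [mem_cj, inv_inv]
  have h1 : j y * z = z * j y := comm_of_cen (K := j.range) ⟨y, rfl⟩ (h.fp.sylQ.le hz)
  have e : j y * (j x0 * z) * (j y)⁻¹ = j (y * x0 * y⁻¹) * z := by
    rw [map_mul, map_mul, map_inv]
    have h2 : (j y)⁻¹ * z = z * (j y)⁻¹ := (show Commute (j y) z from h1).inv_left.eq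
    calc j y * (j x0 * z) * (j y)⁻¹ = j y * j x0 * (z * (j y)⁻¹) := by group
      _ = _ := by rw [← h2]; group
  rw [e]; exact hu

include hj in
/-- **type `Z`** -/
theorem false_Z (hxf : XF X) (hF : ∃ c : Fˣ, c ≠ 1) (hR : S.R.p = 2) (h : PP j.range L A W)
    (hA : ∀ t ∈ A, t ≠ 1 → ∃ r ∈ A, r ≠ 1 ∧ r ≠ t) {y : X} {b : F} {z : G} (hb : b ≠ 0)
    (hu : j (y * S.e 2 0 b * y⁻¹) * z ∈ W) (hz : z ∈ A) : False := by
  obtain ⟨h1, h2⟩ := conj_part h hu hz
  exact false_Z1 S hj hxf hF hR h1 hA hb h2 hz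

include hj in
/-- **type `O`** -/
theorem false_O1 (hxf : XF X) (hF : ∃ c : Fˣ, c ≠ 1) (hR : S.R.p = 2) (h : PP j.range L A W)
    (hA : ∀ t ∈ A, t ≠ 1 → ∃ r ∈ A, r ≠ 1 ∧ r ≠ t) {s : F} {z : G} (hs : s ≠ 0)
    (hu : j (S.o 2 s) * z ∈ W) (hz : z ∈ A) : False := by
  have hs1 : S.o 2 s ≠ 1 := fun h => hs (S.o_eq_one h)
  have hcs := S.centralizer_o hs
  have hu1 : j (S.o 2 s) * z ≠ 1 := by
    intro h1
    have h2 := (decomp_unique h.sK.cen (k := j (S.o 2 s)) (c := z) (k' := 1) (c' := 1) ⟨_, rfl⟩ (h.fp.sylQ.le hz)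
      (one_mem _) (one_mem _) (by rw [h1, one_mul])).1
    exact hs1 (hj (by rw [h2, map_one]))
  obtain ⟨g, x', hL, hW, hx1, hxx, hm⟩ := match_cent hj h hu hu1 hz
  rw [hcs] at hm
  rcases types S hF hR hx1 hxx with ⟨y, b', hb', rfl⟩ | ⟨y, s', hs', rfl⟩
  · rw [cent_conj, S.centralizer_z ⟨b', rfl⟩ fun h => hb' (S.e_eq_one h).2] at hm
    have h1 : Nat.card S.PL = Nat.card S.HO := by
      rw [← card_map_of_injective hj (K := S.HO), ← hm, card_cj, card_map_of_injective (f := j) hj, card_cj]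
    exact card_ne S hF hR h1
  rw [cent_conj, S.centralizer_o hs'] at hm
  have hyA : cj (j y) A = A := cj_of_comm fun a ha => comm_of_cen (K := j.range) ⟨y, rfl⟩ (h.fp.sylQ.le ha)
  have hyP : (cj y S.HO).map j = cj (j y) (S.HO.map j) := by
    ext w
    rw [mem_cj]
    constructor
    · rintro ⟨x, hx, rfl⟩
      rw [SetLike.mem_coe, mem_cj] at hx
      exact ⟨_, hx, by simp only [_root_.map_mul, _root_.map_inv]⟩
    · rintro ⟨x, hx, e⟩
      refine ⟨y * x * y⁻¹, ?_, ?_⟩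
      · exact mem_cj_mul hx
      · rw [map_mul, map_mul, map_inv, e]; group
  rw [hyP, ← cj_mul] at hm
  have hyK : cj (j y) j.range = j.range := cj_self fun w hw =>
    mul_mem (mul_mem ⟨y, rfl⟩ hw) (inv_mem ⟨y, rfl⟩)
  set g' := g * j y with hg'
  have hW' : W = cj g' A := by rw [hg', cj_mul, hyA, hW]
  have hL' : L = cj g' j.range := by rw [hg', cj_mul, hyK, hL]
  have hgH : ∀ x ∈ S.HO.map j, g' * x * g'⁻¹ ∈ S.HO.map j := by
    intro x hx
    have h3 : g' * x * g'⁻¹ ∈ cj g' (S.HO.map j) := mem_cj_mul hx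
    rwa [hm] at h3
  -- the elements of `W`
  set c := j (S.e 1 1 0) with hc
  have hpart : ∀ v ∈ W, ∃ s' : F, c * v * c⁻¹ = v * j (S.e 2 0 s') := by
    intro v hv
    obtain ⟨k, ⟨y', rfl⟩, r, hr, -, e⟩ := h.dec hv
    have hcomm : ∀ x, x * S.o 2 s = S.o 2 s * x → x * y' = y' * x := by
      intro x hx
      apply hj
      rw [map_mul, map_mul]
      refine h.part_comm hu hu1 (h.sq hu) ⟨_, rfl⟩ hz rfl hv hr e _ ⟨x, rfl⟩ ?_
      rw [← map_mul, hx, map_mul]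
    have h3 : y' ∈ S.HO := by
      rw [← hcs, mem_centralizer_singleton_iff]
      exact (hcomm _ rfl).symm
    have h4 : y' ∈ S.XZ 5 := S.center_HO h3 fun x hx => (hcomm x (by
      rw [← hcs] at hx
      exact mem_centralizer_singleton_iff.1 hx)).symm
    obtain ⟨s', rfl⟩ := S.X5 h4
    refine ⟨s', ?_⟩
    have h5 : c * r = r * c := comm_of_cen (K := j.range) ⟨_, rfl⟩ (h.fp.sylQ.le hr)
    have h6 : r * j (S.e 2 0 s') = j (S.e 2 0 s') * r :=
      (comm_of_cen (K := j.range) ⟨_, rfl⟩ (h.fp.sylQ.le hr)).symm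
    have h7 : c * j (S.o 2 s') * c⁻¹ = j (S.o 2 s') * j (S.e 2 0 s') := by
      rw [hc, ← map_inv, ← map_mul, ← map_mul, e1_o2, map_mul]
    rw [e]
    calc c * (j (S.o 2 s') * r) * c⁻¹ = c * j (S.o 2 s') * (r * c) * c⁻¹ * c⁻¹ := by group
      _ = (c * j (S.o 2 s') * c⁻¹) * (c * (c * r * c⁻¹) * c⁻¹) := by rw [← h5]; group
      _ = (c * j (S.o 2 s') * c⁻¹) * r := by
          have e9 : c * r * c⁻¹ = r := by rw [h5]; group
          rw [e9, e9]
      _ = j (S.o 2 s') * (r * j (S.e 2 0 s')) := by rw [h7, h6]; group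
      _ = _ := by group
  have hc_s : c * (j (S.o 2 s) * z) * c⁻¹ = j (S.o 2 s) * z * j (S.e 2 0 s) := by
    have h5 : c * z * c⁻¹ = z := by
      rw [comm_of_cen (K := j.range) (k := c) ⟨_, rfl⟩ (h.fp.sylQ.le hz)]; group
    have h6 : z * j (S.e 2 0 s) = j (S.e 2 0 s) * z :=
      (comm_of_cen (K := j.range) ⟨_, rfl⟩ (h.fp.sylQ.le hz)).symm
    have h7 : c * j (S.o 2 s) * c⁻¹ = j (S.o 2 s) * j (S.e 2 0 s) := by
      rw [hc, ← map_inv, ← map_mul, ← map_mul, e1_o2, map_mul]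
    calc c * (j (S.o 2 s) * z) * c⁻¹ = (c * j (S.o 2 s) * c⁻¹) * (c * z * c⁻¹) := by group
      _ = j (S.o 2 s) * (j (S.e 2 0 s) * z) := by rw [h5, h7]; group
      _ = _ := by rw [← h6]; group
  -- `j (Z_4) ≤ L`
  have hZL : ∀ s' : F, j (S.e 2 0 s') ∈ L := by
    intro s'
    refine (h.cent_le hu hu1 (h.sq hu) ⟨_, rfl⟩ hz rfl).2.2 ?_
    rw [range_inf_cent hj, hcs]
    exact ⟨_, Perf.J37_HO S (mem_J (S.mX4 0 s') (by norm_num) (by norm_num)), rfl⟩
  -- `c ∉ N(L)`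
  have hcL : c ∉ normalizer (L : Set G) := by
    intro hcn
    have h3 := centralizer_conj_mem hcn (h.fp.sylU.le hu)
    rw [hc_s] at h3
    have h4 : j (S.e 2 0 s) ∈ centralizer (L : Set G) := by
      have h5 := mul_mem (inv_mem (h.fp.sylU.le hu)) h3
      have e : (j (S.o 2 s) * z)⁻¹ * (j (S.o 2 s) * z * j (S.e 2 0 s)) = j (S.e 2 0 s) := by group
      rwa [e] at h5
    have h5 := h.no_inv ⟨_, rfl⟩ h4 (by rw [← map_mul, z_sq S, map_one])
    exact hs (S.e_eq_one (hj (h5.trans (map_one j).symm))).2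
  have hWab : ∀ v ∈ W, ∀ w ∈ W, v * w = w * v := by
    intro v hv w hw
    have h3 := h.sq (mul_mem hv hw)
    have h4 := h.sq hv
    have h5 := h.sq hw
    calc v * w = v * (v * w * (v * w)) * w := by rw [h3]; group
      _ = (v * v) * w * v * (w * w) := by group
      _ = w * v := by rw [h4, h5]; group
  have hPP : PP L (cj c L) W (cj c W) := by
    refine ⟨h.symm.base, ⟨⟨c, hcL, rfl⟩, h.fp.sylU, ?_, ?_⟩⟩
    · rw [centralizer_cj]; exact h.fp.sylU.cj c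
    · intro q hq w hw
      rw [mem_cj] at hw
      obtain ⟨s', e⟩ := hpart _ hw
      have e1 : w = c⁻¹ * w * c * j (S.e 2 0 s') := by rw [← e]; group
      have h3 := hWab q hq _ hw
      have h4 : j (S.e 2 0 s') * q = q * j (S.e 2 0 s') := comm_of_cen (hZL s') (h.fp.sylU.le hq)
      rw [e1]
      calc q * (c⁻¹ * w * c * j (S.e 2 0 s')) = (q * (c⁻¹ * w * c)) * j (S.e 2 0 s') := by group
        _ = c⁻¹ * w * c * (q * j (S.e 2 0 s')) := by rw [h3]; group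
        _ = _ := by rw [← h4]; group
  have hP2 := hPP.conj g'⁻¹
  have eL : cj g'⁻¹ L = j.range := by rw [hL', ← cj_mul, inv_mul_cancel, cj_one]
  have eW : cj g'⁻¹ W = A := by rw [hW', ← cj_mul, inv_mul_cancel, cj_one]
  rw [eL, eW] at hP2
  -- the element `g'⁻¹ z_2(s) g'`
  have hgH' := conj_inv_mem hgH
  have hNO : ∀ x ∈ S.NO.map j, g'⁻¹ * x * g' ∈ S.NO.map j := by
    have h3 : (cj g'⁻¹ (S.NO.map j)).comap j ≤ S.NO := by
      refine Perf.O2_HO S hF hR ?_ ?_ ?_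
      · intro x hx
        rw [mem_comap, mem_cj, inv_inv] at hx
        have h4 := hgH' _ (map_mono (Perf.NO_HO S) hx)
        have e : g'⁻¹ * (g' * j x * g'⁻¹) * g' = j x := by group
        rw [e] at h4
        obtain ⟨x1, hx1, e1⟩ := h4
        rw [← hj e1]; exact hx1
      · exact (((Perf.two_NO S hR).map j).map _).comap_of_injective j hj
      · intro y hy x hx
        rw [mem_comap, mem_cj, inv_inv] at hx ⊢
        obtain ⟨y1, hy1, e1⟩ := hgH (j y) ⟨y, hy, rfl⟩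
        obtain ⟨x1, hx1, e2⟩ := hx
        refine ⟨y1 * x1 * y1⁻¹, Perf.NO_norm S hy1 hx1, ?_⟩
        rw [map_mul, map_mul, map_inv, e1, e2, map_mul, map_mul, map_inv]; group
    intro x hx
    obtain ⟨x1, hx1, e1⟩ := hgH' x (map_mono (Perf.NO_HO S) hx)
    refine ⟨x1, h3 ?_, e1⟩
    rw [mem_comap, mem_cj, inv_inv, e1]
    have e : g' * (g'⁻¹ * x * g') * g'⁻¹ = x := by group
    rw [e]; exact hx
  have hNO' : ∀ x ∈ S.NO.map j, g' * x * g'⁻¹ ∈ S.NO.map j := by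
    have h3 := conj_inv_mem (U := S.NO.map j) (g := g'⁻¹) (fun x hx => by rw [inv_inv]; exact hNO x hx)
    intro x hx
    have h4 := h3 x hx
    rwa [inv_inv] at h4
  have hV5 : ∀ x ∈ S.V5.map j, g'⁻¹ * x * g' ∈ S.V5.map j := by
    rintro _ ⟨v, hv, rfl⟩
    obtain ⟨x1, hx1, e1⟩ := hNO (j v) ⟨v, S.V5_le_NO hv, rfl⟩
    refine ⟨x1, ?_, e1⟩
    rw [SetLike.mem_coe, ← S.centralizer_NO, mem_centralizer_iff]
    intro y hy
    obtain ⟨y1, hy1, e2⟩ := hNO' (j y) ⟨y, hy, rfl⟩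
    rw [SetLike.mem_coe, ← S.centralizer_NO] at hv
    have h4 := congrArg j (mem_centralizer_iff.1 hv y1 hy1)
    rw [map_mul, map_mul] at h4
    apply hj
    rw [map_mul, map_mul, e1]
    calc j y * (g'⁻¹ * j v * g') = g'⁻¹ * ((g' * j y * g'⁻¹) * j v) * g' := by group
      _ = g'⁻¹ * (j v * (g' * j y * g'⁻¹)) * g' := by rw [← e2, h4]
      _ = _ := by group
  obtain ⟨x2, hx2, e2⟩ : ∃ x2 ∈ S.W46, j x2 = g'⁻¹ * j (S.e 2 0 s) * g' := by
    obtain ⟨v1, hv1, e3⟩ := hV5 (j (S.e 3 0 1)) ⟨_, S.mem_V5.2 ⟨0, 0, 1, by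
      rw [S.e_zero, S.o_zero, one_mul, one_mul]⟩, rfl⟩
    obtain ⟨h1, hh1, e4⟩ := hgH' (j (S.o 0 s)) ⟨_, Perf.X1_HO S (S.mX1 s), rfl⟩
    refine ⟨_, V5_comm S hv1 hh1, ?_⟩
    rw [z2_comm S s]
    simp only [map_mul, map_inv, e3, e4]
    group
  have hx21 : x2 ≠ 1 := by
    rintro rfl
    rw [map_one] at e2
    apply hs
    have h3 : j (S.e 2 0 s) = 1 := by
      calc j (S.e 2 0 s) = g' * (g'⁻¹ * j (S.e 2 0 s) * g') * g'⁻¹ := by group
        _ = 1 := by rw [← e2]; group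
    exact (S.e_eq_one (hj (h3.trans (map_one j).symm))).2
  obtain ⟨k, b, hb, rfl⟩ := W46_type S hx2 hx21
  have ha : g'⁻¹ * (j (S.o 2 s) * z) * g' ∈ A := by
    rw [← eW, mem_cj, inv_inv]
    have e : g' * (g'⁻¹ * (j (S.o 2 s) * z) * g') * g'⁻¹ = j (S.o 2 s) * z := by group
    rw [e]; exact hu
  refine false_Z S hj hxf hF hR hP2 hA hb (y := k) (z := g'⁻¹ * (j (S.o 2 s) * z) * g') ?_ ha
  rw [comm_of_cen (K := j.range) (k := j (k * S.e 2 0 b * k⁻¹)) ⟨_, rfl⟩ (h.fp.sylQ.le ha), e2, mem_cj, inv_inv, mem_cj]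
  have e : c⁻¹ * (g' * (g'⁻¹ * (j (S.o 2 s) * z) * g' * (g'⁻¹ * j (S.e 2 0 s) * g')) * g'⁻¹) * c =
      j (S.o 2 s) * z := by
    calc _ = c⁻¹ * (j (S.o 2 s) * z * j (S.e 2 0 s)) * c := by group
      _ = _ := by rw [← hc_s]; group
  rw [e]; exact hu

include hj in
/-- **no pair** -/
theorem false_of_PP (hxf : XF X) (hF : ∃ c : Fˣ, c ≠ 1) (hR : S.R.p = 2) (h : PP j.range L A W)
    (hA : ∀ t ∈ A, t ≠ 1 → ∃ r ∈ A, r ≠ 1 ∧ r ≠ t) : False := by
  obtain ⟨u, hu, hu1, huu⟩ := h.exists_inv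
  obtain ⟨k, ⟨x, rfl⟩, z, hz, -, rfl⟩ := h.dec hu
  obtain ⟨h1, h2, -⟩ := h.cent_le hu hu1 huu ⟨x, rfl⟩ hz rfl
  rcases types S hF hR (w := x) (fun h => h1 (by rw [h, map_one])) (hj (by rw [map_mul, h2, map_one])) with
    ⟨y, b, hb, rfl⟩ | ⟨y, s, hs, rfl⟩
  · exact false_Z S hj hxf hF hR h hA hb hu hz
  · obtain ⟨h3, h4⟩ := conj_part h hu hz
    exact false_O1 S hj hxf hF hR h3 hA hs h4 hz

end G

end Cfsg.Agent.OddHalf.D4.TwF.Types

end
end

private theorem dce_1b5fea8f8a82 : _root_.True := by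
  try have : _root_.True := by simp only [_root_.Cfsg.Agent.OddHalf.D4.TwF.Mir.mapS.congr_simp]
  try have : _root_.True := by simp only [_root_.Cfsg.Agent.OddHalf.D4.En2.PO.eq_1]
  exact _root_.True.intro
end

-- part: TitsK/KtChkB
section
set_option linter.all false
open scoped Cfsg.Agent.FastGrp

-- part: TitsK/KtDef
section
/-!
# Definitions for the checks of KtWA (helper795)
-/

set_option autoImplicit false
set_option Elab.async false

namespace Cfsg.Agent.TitsK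

open Cfsg.Lie Cfsg.Agent.ChevalleyStructure.TwF4.Tables
open Cfsg.Agent.FourTwo.Base hiding bar bar_lt
open Cfsg.Agent.FourTwo.BN Cfsg.Agent.FourTwo.Comm Cfsg.Agent.FourTwo.Classes
open Cfsg.Agent.FourTwo.UCode (mulU invU conjU lets colW colF force force_eq mem_lets wel_lets wel_mem)

/-- number of different entries -/
def dst (l : List ℕ) : ℕ := List.rec 0 (fun a l ih => cond (memB a l) ih (Nat.succ ih)) l

theorem dst_cons (a : ℕ) (l : List ℕ) : dst (a :: l) = cond (memB a l) (dst l) (Nat.succ (dst l)) := rfl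

/-- `k` of the list of the values, each value is evaluated -/
def mapF {α : Type} (f : α → ℕ) (l : List α) (k : List ℕ → Bool) : Bool :=
  List.rec (motive := fun _ => List ℕ → Bool) (fun acc => k acc)
    (fun a _ ih acc => force (f a) fun v => ih (v :: acc)) l []

/-! ### the lists -/

/-- `(h⁻¹, h)` -/
def LF1 : List (ℕ × ℕ) := [(0, 0), (16376064, 16376064), (16213284, 13350180), (13567012, 5461028), (1967140, 8541220)]

/-- `(h⁻¹, f h)` -/
def LF2 : List (ℕ × ℕ) := [(0, 0), (12180612, 72836), (14887328, 8563104), (7566628, 14906660), (12923136, 7713024),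
  (8098852, 15438884), (14503936, 14503936)]

/-- `(h⁻¹, h)` -/
def LF3 : List (ℕ × ℕ) := [(0, 0), (2135230, 11512910), (8357236, 14906484), (11942378, 15620282), (15428000, 13363616),
  (10646942, 2461038), (13059108, 5968932)]

/-- the exceptional involutions -/
def X8 : List ℕ := [0, 9437184, 4259840, 13697024, 2129920, 6389760, 11567104, 15826944]

end Cfsg.Agent.TitsK
end

-- part: TitsK/KtChkB
section
/-!
Check for KtWA: (F2) (helper795).
-/

set_option autoImplicit false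
set_option Elab.async false

namespace Cfsg.Agent.TitsK

open Cfsg.Lie Cfsg.Agent.ChevalleyStructure.TwF4.Tables
open Cfsg.Agent.FourTwo.Base hiding bar bar_lt
open Cfsg.Agent.FourTwo.BN Cfsg.Agent.FourTwo.Comm Cfsg.Agent.FourTwo.Classes
open Cfsg.Agent.FourTwo.UCode (mulU invU conjU lets colW colF force force_eq mem_lets wel_lets wel_mem)

theorem chkF2 : allU (fun e => cond (Nat.beq (mulU e 4259840) (mulU 4259840 e))
    (mapF (fun p : ℕ × ℕ => mulU (mulU p.1 e) p.2) LF2 fun l => Nat.ble 5 (dst l)) true) = true := by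
  delta allU allP
  rw [Ix.mulU_eq]
  decide +kernel

end Cfsg.Agent.TitsK
end
end

-- part: TitsK/KtWB
section
prune_inst 0x200054244122020000000002600020204000010200608001d1600b000b4e71200d0221004c8009100800aa800004002813100050420000000a000000000505218022520093180d0c66000f801107100000000000000000000000000000041000200000000
set_option linter.all false
open scoped Cfsg.Agent.FastGrp

-- part: TitsK/KtChkA
section
/-!
Check for KtWA: (F1) (helper795).
-/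

set_option autoImplicit false
set_option Elab.async false

namespace Cfsg.Agent.TitsK

open Cfsg.Lie Cfsg.Agent.ChevalleyStructure.TwF4.Tables
open Cfsg.Agent.FourTwo.Base hiding bar bar_lt
open Cfsg.Agent.FourTwo.BN Cfsg.Agent.FourTwo.Comm Cfsg.Agent.FourTwo.Classes
open Cfsg.Agent.FourTwo.UCode (mulU invU conjU lets colW colF force force_eq mem_lets wel_lets wel_mem)

theorem chkF1 : allU (fun e => cond (Nat.beq (mulU e 4259840) (mulU 4259840 e)) true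
    (mapF (fun p : ℕ × ℕ => mulU (mulU p.1 e) p.2) LF1 fun l => Nat.ble 5 (dst l))) = true := by
  delta allU allP
  rw [Ix.mulU_eq]
  decide +kernel

end Cfsg.Agent.TitsK
end

-- part: TitsK/KtChkC
section
/-!
Check for KtWA: (F3) (helper795).
-/

set_option autoImplicit false
set_option Elab.async false

namespace Cfsg.Agent.TitsK

open Cfsg.Lie Cfsg.Agent.ChevalleyStructure.TwF4.Tables
open Cfsg.Agent.FourTwo.Base hiding bar bar_lt
open Cfsg.Agent.FourTwo.BN Cfsg.Agent.FourTwo.Comm Cfsg.Agent.FourTwo.Classes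
open Cfsg.Agent.FourTwo.UCode (mulU invU conjU lets colW colF force force_eq mem_lets wel_lets wel_mem)

theorem chkF3 : allU (fun e => cond (Nat.beq (mulU e e) 0) (memB e X8 ||
    mapF (fun p : ℕ × ℕ => mulU (mulU p.1 e) p.2) LF3 fun l => Nat.ble 5 (dst l)) true) = true := by
  delta allU allP
  rw [Ix.mulU_eq]
  decide +kernel

end Cfsg.Agent.TitsK
end

-- part: TitsK/KtWB
section
-- merged: Cfsg.Agent.TitsK.KtWA
section

/-!
# K-facts for type W (helper868's list `KTW`), enumerations (helper795)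

* `dst`: the number of different entries of a list; `mapF`; `five_of_codes`;
* `F1_codes`, `F2_codes`, `F3_codes`: five different values;
* `orb_spec`: the `C_HT(z)`-orbit of `q₀ q₄` in `AA`.
-/

set_option autoImplicit false
set_option Elab.async false

namespace Cfsg.Agent.TitsK

open Cfsg.Lie Cfsg.Agent.ChevalleyStructure.TwF4.Tables
open Cfsg.Agent.FourTwo.Base hiding bar bar_lt
open Cfsg.Agent.FourTwo.BN Cfsg.Agent.FourTwo.Comm Cfsg.Agent.FourTwo.Classes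
open Cfsg.Agent.FourTwo.UCode (mulU invU conjU lets colW colF force force_eq mem_lets wel_lets wel_mem)

/-! ### different entries -/

theorem dst_le (l : List ℕ) : dst l ≤ l.toFinset.card := by
  induction l with
  | nil => exact le_rfl
  | cons a l ih =>
    rw [dst_cons, List.toFinset_cons]
    cases h : memB a l
    · rw [cond_false]
      by_cases ha : a ∈ l
      · exfalso
        have h1 : memB a l = true := by
          clear ih h
          induction l with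
          | nil => exact absurd ha (by simp)
          | cons b l ih =>
            show cond (Nat.beq a b) true (memB a l) = true
            rcases List.mem_cons.1 ha with rfl | h1
            · rw [Nat.beq_refl, cond_true]
            · rw [ih h1]
              cases Nat.beq a b <;> rfl
        rw [h] at h1
        exact absurd h1 (by decide)
      · rw [Finset.card_insert_of_notMem (by rwa [List.mem_toFinset])]
        exact Nat.succ_le_succ ih
    · rw [cond_true]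
      exact ih.trans (Finset.card_le_card (Finset.subset_insert _ _))

theorem mapF_eq {α : Type} (f : α → ℕ) (l : List α) (k : List ℕ → Bool) : mapF f l k = k ((l.map f).reverse) := by
  have key : ∀ (l : List α) (acc : List ℕ),
      List.rec (motive := fun _ => List ℕ → Bool) (fun acc => k acc)
        (fun a _ ih acc => force (f a) fun v => ih (v :: acc)) l acc = k ((l.map f).reverse ++ acc) := by
    intro l
    induction l with
    | nil => intro acc; simp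
    | cons a l ih =>
      intro acc
      show force (f a) (fun v => _) = _
      rw [force_eq, ih, List.map_cons, List.reverse_cons, List.append_assoc]
      rfl
  have h := key l []
  rw [List.append_nil] at h
  exact h

theorem five_of_codes {Y : Type*} [DecidableEq Y] (l : List Y) (φ : Y → LL) (C : List ℕ) (h : l.map φ = C.map ec)
    (hC : ∀ c ∈ C, c < 2 ^ 24) (h5 : 5 ≤ dst C) : 5 ≤ l.toFinset.card := by
  classical
  have h1 : ((C.map ec).toFinset).card = C.toFinset.card := by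
    have e : (C.map ec).toFinset = C.toFinset.image ec := by
      ext g
      simp [List.mem_toFinset]
    rw [e]
    apply Finset.card_image_of_injOn
    intro a ha b hb hab
    rw [Finset.mem_coe, List.mem_toFinset] at ha hb
    exact ec_inj (hC a ha) (hC b hb) hab
  have h2 : ((l.map φ).toFinset).card ≤ l.toFinset.card := by
    have e : (l.map φ).toFinset = l.toFinset.image φ := by
      ext g
      simp [List.mem_toFinset]
    rw [e]
    exact Finset.card_image_le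
  rw [h, h1] at h2
  exact (h5.trans (dst_le C)).trans h2

theorem rev_map_aux {α β : Type*} (l : List α) (f : α → β) (g : α → ℕ) (e : ℕ → β) (h : ∀ p ∈ l, f p = e (g p)) :
    (l.map f).reverse = ((l.map g).reverse).map e := by
  rw [List.map_reverse, List.map_map]
  congr 1
  exact List.map_congr_left h

/-! ### (F1) -/

/-- words for the elements of `LF1` -/
def WF1 : List (List ℕ) := [[], [8448, 540672, 2129920, 4259840, 9437184], [1459236, 8448, 266240, 540672, 2129920],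
  [1459236, 266240, 4259840], [1459236, 266240, 9437184]]

theorem LF1_words : (LF1.all fun p => WF1.any fun w => Nat.beq (pwd w) p.2 && w.all (gQ.map Prod.fst).contains) = true := by
  decide +kernel

theorem LF1_inv : (LF1.all fun p => Nat.beq (mulU p.1 p.2) 0 && (Nat.beq (mulU p.2 4259840) (mulU 4259840 p.2) &&
    (Nat.blt p.1 16777216 && Nat.blt p.2 16777216))) = true := by decide +kernel

theorem mem_of_words {H : Subgroup LL} {gs : List ℕ} (hg : ∀ c ∈ gs, ec c ∈ H) {W : List (List ℕ)} {e : ℕ}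
    (h : (W.any fun w => Nat.beq (pwd w) e && w.all gs.contains) = true) : ec e ∈ H := by
  rw [List.any_eq_true] at h
  obtain ⟨w, -, h1⟩ := h
  rw [Bool.and_eq_true, List.all_eq_true] at h1
  rw [← Nat.eq_of_beq_eq_true h1.1]
  exact pwd_mem fun c hc => hg c (List.contains_iff_mem.1 (h1.2 c hc))

theorem gQ_fst_mem : ∀ c ∈ gQ.map Prod.fst, ec c ∈ QQ := by
  intro c hc
  rw [List.mem_map] at hc
  obtain ⟨g, hg, rfl⟩ := hc
  exact gQ_mem g hg

theorem g12_fst_mem : ∀ c ∈ gens12.map Prod.fst, ec c ∈ UT := by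
  intro c hc
  rw [List.mem_map] at hc
  obtain ⟨g, hg, rfl⟩ := hc
  exact gens_mem g hg

theorem eq_inv_aux2 {G : Type*} [Group G] {a b : G} (h : a * b = 1) : a = b⁻¹ := eq_inv_of_mul_eq_one_left h

theorem ec_inv_of {a b : ℕ} (h : Nat.beq (mulU a b) 0 = true) : ec a = (ec b)⁻¹ := by
  apply eq_inv_aux2
  rw [← ec_mulU, Nat.eq_of_beq_eq_true h, ec_zero]

theorem LF1_spec : ∀ p ∈ LF1, ec p.2 ∈ QQ ∧ ec p.2 * z1 = z1 * ec p.2 ∧ ec p.1 = (ec p.2)⁻¹ ∧ p.1 < 2 ^ 24 ∧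
    p.2 < 2 ^ 24 := by
  intro p hp
  have h1 := LF1_words
  have h2 := LF1_inv
  rw [List.all_eq_true] at h1 h2
  have h3 := h2 p hp
  rw [Bool.and_eq_true, Bool.and_eq_true, Bool.and_eq_true, Nat.blt_eq, Nat.blt_eq] at h3
  refine ⟨mem_of_words gQ_fst_mem (h1 p hp), ?_, ec_inv_of h3.1, h3.2.2.1, h3.2.2.2⟩
  unfold z1
  rw [← ec_mulU, ← ec_mulU, Nat.eq_of_beq_eq_true h3.2.1]

theorem F1_codes {u : LL} (hu : u ∈ UT) (h : u * z1 ≠ z1 * u) :
    ∃ C : List ℕ, (LF1.map fun p => (ec p.2)⁻¹ * u * ec p.2).reverse = C.map ec ∧ (∀ c ∈ C, c < 2 ^ 24) ∧ 5 ≤ dst C := by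
  obtain ⟨e, he, rfl, -, h2⟩ := UT_all chkF1 hu
  have h3 : Nat.beq (mulU e 4259840) (mulU 4259840 e) = false := by
    rw [← Bool.not_eq_true]
    intro h4
    apply h
    unfold z1
    rw [← ec_mulU, ← ec_mulU, Nat.eq_of_beq_eq_true h4]
  rw [h3, cond_false, mapF_eq, Nat.ble_eq] at h2
  refine ⟨_, ?_, ?_, h2⟩
  · apply rev_map_aux
    intro p hp
    have h5 := (LF1_spec p hp).2.2.1
    show (ec p.2)⁻¹ * ec e * ec p.2 = ec (mulU (mulU p.1 e) p.2)
    rw [ec_mulU, ec_mulU, h5]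
  · intro c hc
    rw [List.mem_reverse, List.mem_map] at hc
    obtain ⟨p, hp, rfl⟩ := hc
    exact mulU_lt (mulU_lt (LF1_spec p hp).2.2.2.1 _) _

/-! ### (F2) -/

theorem LF2_lt : ∀ p ∈ LF2, p.1 < 2 ^ 24 := by decide

theorem F2_codes {m : LL} (hm : m ∈ UT) (h : m * z1 = z1 * m) :
    ∃ C : List ℕ, (LF2.map fun p => ec p.1 * m * ec p.2).reverse = C.map ec ∧ (∀ c ∈ C, c < 2 ^ 24) ∧ 5 ≤ dst C := by
  obtain ⟨e, he, rfl, -, h2⟩ := UT_all chkF2 hm
  have h3 : Nat.beq (mulU e 4259840) (mulU 4259840 e) = true := by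
    unfold z1 at h
    rw [← ec_mulU, ← ec_mulU] at h
    rw [ec_inj (mulU_lt he _) (mulU_lt (by norm_num) e) h]
    exact Nat.beq_refl _
  rw [h3, cond_true, mapF_eq, Nat.ble_eq] at h2
  refine ⟨_, ?_, ?_, h2⟩
  · apply rev_map_aux
    intro p _
    show ec p.1 * ec e * ec p.2 = ec (mulU (mulU p.1 e) p.2)
    rw [ec_mulU, ec_mulU]
  · intro c hc
    rw [List.mem_reverse, List.mem_map] at hc
    obtain ⟨p, hp, rfl⟩ := hc
    exact mulU_lt (mulU_lt (LF2_lt p hp) _) _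

/-! ### (F3) -/

/-- words for the elements of `LF3` -/
def WF3 : List (List ℕ) := [[], [74, 263172, 1179680, 4196480, 8448, 540672, 2129920],
  [263172, 80, 1179680, 266240, 9437184], [74, 80, 1179680, 4196480, 266240, 540672, 9437184],
  [1179680, 4196480, 8448, 540672, 2129920, 4259840, 9437184], [74, 263172, 4196480, 2129920, 4259840],
  [263172, 1179680, 266240, 540672, 4259840]]

theorem LF3_words : (LF3.all fun p => WF3.any fun w => Nat.beq (pwd w) p.2 && w.all (gens12.map Prod.fst).contains) =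
    true := by decide +kernel

theorem LF3_inv : (LF3.all fun p => Nat.beq (mulU p.1 p.2) 0 && (Nat.beq (mulU p.2 4259840) (mulU 4259840 p.2) &&
    (Nat.blt p.1 16777216 && Nat.blt p.2 16777216))) = true := by decide +kernel

theorem LF3_spec : ∀ p ∈ LF3, ec p.2 ∈ UT ∧ ec p.2 * z1 = z1 * ec p.2 ∧ ec p.1 = (ec p.2)⁻¹ ∧ p.1 < 2 ^ 24 ∧
    p.2 < 2 ^ 24 := by
  intro p hp
  have h1 := LF3_words
  have h2 := LF3_inv
  rw [List.all_eq_true] at h1 h2
  have h3 := h2 p hp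
  rw [Bool.and_eq_true, Bool.and_eq_true, Bool.and_eq_true, Nat.blt_eq, Nat.blt_eq] at h3
  refine ⟨mem_of_words g12_fst_mem (h1 p hp), ?_, ec_inv_of h3.1, h3.2.2.1, h3.2.2.2⟩
  unfold z1
  rw [← ec_mulU, ← ec_mulU, Nat.eq_of_beq_eq_true h3.2.1]

theorem F3_codes {m : LL} (hm : m ∈ UT) (h : m * m = 1) : (∃ e ∈ X8, m = ec e) ∨
    ∃ C : List ℕ, (LF3.map fun p => (ec p.2)⁻¹ * m * ec p.2).reverse = C.map ec ∧ (∀ c ∈ C, c < 2 ^ 24) ∧ 5 ≤ dst C := by
  obtain ⟨e, he, rfl, -, h2⟩ := UT_all chkF3 hm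
  have h4 : ec (mulU e e) = ec 0 := by rw [ec_mulU, h, ec_zero]
  have h6 : Nat.beq (mulU e e) 0 = true := by rw [ec_inj (mulU_lt he e) (by norm_num) h4]; rfl
  rw [h6, cond_true, Bool.or_eq_true, mapF_eq, Nat.ble_eq] at h2
  rcases h2 with h2 | h2
  · exact Or.inl ⟨e, memB_spec h2, rfl⟩
  · right
    refine ⟨_, ?_, ?_, h2⟩
    · apply rev_map_aux
      intro p hp
      have h5 := (LF3_spec p hp).2.2.1
      show (ec p.2)⁻¹ * ec e * ec p.2 = ec (mulU (mulU p.1 e) p.2)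
      rw [ec_mulU, ec_mulU, h5]
    · intro c hc
      rw [List.mem_reverse, List.mem_map] at hc
      obtain ⟨p, hp, rfl⟩ := hc
      exact mulU_lt (mulU_lt (LF3_spec p hp).2.2.2.1 _) _

/-! ### the orbit of `q₀ q₄` -/

/-- one step of a table: `(e, k, f)` -/
def stepP (q : ℕ × ℕ × ℕ) : Bool :=
  (Nat.beq q.2.1 1 && (posW [1, 2, 1, 2] q.1 && Nat.beq (reflW [1, 2, 1, 2] q.1) q.2.2)) ||
  ((gens12.map Prod.fst).contains q.2.1 && Nat.beq (conjU q.2.1 q.1) q.2.2)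

theorem nb_mem_Pz : nb ∈ Pz := mem_Pz.2 ⟨nb_mem_HT, nb_conj_z⟩

theorem stepP_spec {q : ℕ × ℕ × ℕ} (h : stepP q = true) : ∃ t ∈ Pz, t * ec q.1 * t⁻¹ = ec q.2.2 := by
  unfold stepP at h
  rw [Bool.or_eq_true, Bool.and_eq_true, Bool.and_eq_true, Bool.and_eq_true] at h
  rcases h with ⟨-, h1, h2⟩ | ⟨h1, h2⟩
  · refine ⟨nb, nb_mem_Pz, ?_⟩
    rw [← Nat.eq_of_beq_eq_true h2]
    exact nw_conj_ec (by decide) h1
  · rw [List.contains_iff_mem] at h1
    refine ⟨ec q.2.1, UT_le_Pz (g12_fst_mem _ h1), ?_⟩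
    rw [← Nat.eq_of_beq_eq_true h2, ec_conjU]

/-- check of a table with root `r` -/
def okP (r : ℕ) : List (ℕ × ℕ × ℕ) → Bool
  | [] => true
  | q :: T => okP r T && (stepP q && (Nat.beq q.2.2 r || (T.map Prod.fst).contains q.2.2))

theorem okP_spec {r : ℕ} {T : List (ℕ × ℕ × ℕ)} (h : okP r T = true) :
    ∀ e ∈ T.map Prod.fst, ∃ t ∈ Pz, t * ec e * t⁻¹ = ec r := by
  induction T with
  | nil => intro e he; simp at he
  | cons q T ih =>
    unfold okP at h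
    rw [Bool.and_eq_true, Bool.and_eq_true, Bool.or_eq_true] at h
    obtain ⟨h1, h2, h3⟩ := h
    intro e he
    rw [List.map_cons, List.mem_cons] at he
    rcases he with rfl | he
    · obtain ⟨t, ht, h4⟩ := stepP_spec h2
      rcases h3 with h3 | h3
      · rw [Nat.eq_of_beq_eq_true h3] at h4
        exact ⟨t, ht, h4⟩
      · rw [List.contains_iff_mem] at h3
        obtain ⟨s, hs, h5⟩ := ih h1 _ h3
        refine ⟨s * t, Pz.mul_mem hs ht, ?_⟩
        rw [← h5, ← h4]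
        group
    · exact ih h1 e he

/-- the orbit of `q₀ q₄` under `C_HT(z)` -/
def TP : List (ℕ × ℕ × ℕ) := [(2129920, 74, 6389760), (540672, 80, 4800512), (11567104, 74, 15826944),
  (6389760, 1, 806912), (2396160, 80, 13963264), (9977856, 80, 14237696), (12107776, 80, 16367616),
  (4800512, 74, 16367616), (15826944, 1, 10244096), (806912, 80, 12374016), (11833344, 80, 4526080),
  (13963264, 513, 4526080), (2670592, 80, 6930432), (14237696, 74, 6930432), (16367616, 513, 6930432),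
  (10244096, 80, 2936832), (12374016, 263172, 2936832), (4526080, 74, 2936832), (6930432, 1, 2936832)]

theorem okTP : okP 2936832 TP = true := by decide +kernel

/-- codes of the orbit -/
def O20 : List ℕ := 2936832 :: TP.map Prod.fst

theorem O20_spec : ∀ e ∈ O20, ∃ p ∈ Pz, p⁻¹ * ec 2936832 * p = ec e := by
  intro e he
  unfold O20 at he
  rw [List.mem_cons] at he
  rcases he with rfl | he
  · exact ⟨1, Pz.one_mem, by group⟩
  · obtain ⟨t, ht, h⟩ := okP_spec okTP e he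
    refine ⟨t, ht, ?_⟩
    rw [← h]
    group

theorem A32_orb : (A32.all fun e => Nat.beq e 0 || (Nat.beq e 9437184 || (memB e PT11 || memB e O20))) = true := by
  decide +kernel

/-- the classes of `AA` -/
theorem AA_orb {a : LL} (ha : a ∈ AA) : a = 1 ∨ a = z ∨ (∃ k, a = qf k ∨ a = z * qf k) ∨
    ∃ p ∈ Pz, p⁻¹ * ec 2936832 * p = a := by
  obtain ⟨e, he, rfl⟩ := mem_AA.1 ha
  have h := A32_orb
  rw [List.all_eq_true] at h
  have h1 := h e he
  rw [Bool.or_eq_true, Bool.or_eq_true, Bool.or_eq_true] at h1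
  rcases h1 with h1 | h1 | h1 | h1
  · left
    rw [Nat.eq_of_beq_eq_true h1, ec_zero]
  · right; left
    rw [Nat.eq_of_beq_eq_true h1]
    rfl
  · right
    rcases PT11_spec (memB_spec h1) with h2 | h2
    · exact Or.inl h2
    · exact Or.inr (Or.inl h2)
  · exact Or.inr (Or.inr (Or.inr (O20_spec e (memB_spec h1))))

theorem q0q4_eq : qf 0 * qf 4 = ec 2936832 := by
  have h : mulU 4259840 7196672 = 2936832 := by decide +kernel
  rw [← h, ec_mulU]
  rfl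

end Cfsg.Agent.TitsK

end

-- merged: Cfsg.Agent.OddHalf.D7Tits.WFive
section

/-!
# Five values (helper868)

`H ≤ Q`, `L` a list of elements of `Q`, `c` a function which is constant on the right cosets of `H` (on `L`) and takes
at least five values on `L`: `4 |H| < |Q|`.
-/

set_option autoImplicit false

namespace Cfsg.Agent.OddHalf.D7Tits.WFive

variable {Y : Type*} [Group Y]

theorem card_mul_le [Finite Y] {Q H : Subgroup Y} (hH : H ≤ Q) {Z : Type*} [DecidableEq Z] (L : List Y)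
    (hL : ∀ h ∈ L, h ∈ Q) (c : Y → Z) (hc : ∀ a ∈ L, ∀ b ∈ L, a * b⁻¹ ∈ H → c a = c b) :
    (L.map c).toFinset.card * Nat.card H ≤ Nat.card Q := by
  classical
  have hrep : ∀ v : (L.map c).toFinset, ∃ a ∈ L, c a = v.1 := by
    rintro ⟨v, hv⟩
    rw [List.mem_toFinset, List.mem_map] at hv
    exact hv
  choose rep hrepL hrepc using hrep
  let f : (L.map c).toFinset × H → Q := fun p => ⟨p.2.1 * rep p.1, Q.mul_mem (hH p.2.2) (hL _ (hrepL p.1))⟩
  have hf : Function.Injective f := by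
    rintro ⟨v, h⟩ ⟨v', h'⟩ e
    have e1 : h.1 * rep v = h'.1 * rep v' := congrArg Subtype.val e
    have e2 : rep v * (rep v')⁻¹ = h.1⁻¹ * h'.1 := by
      rw [mul_inv_eq_iff_eq_mul, mul_assoc, ← e1, inv_mul_cancel_left]
    have e3 := hc _ (hrepL v) _ (hrepL v') (by rw [e2]; exact H.mul_mem (H.inv_mem h.2) h'.2)
    rw [hrepc, hrepc] at e3
    have e4 : v = v' := Subtype.ext e3
    subst e4
    have e5 : h = h' := Subtype.ext (mul_right_cancel e1)
    rw [e5]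
  have h1 := Nat.card_le_card_of_injective f hf
  rw [Nat.card_prod, Nat.card_eq_fintype_card, Fintype.card_coe] at h1
  exact h1

theorem four_lt [Finite Y] {Q H : Subgroup Y} (hH : H ≤ Q) {Z : Type*} [DecidableEq Z] (L : List Y)
    (hL : ∀ h ∈ L, h ∈ Q) (c : Y → Z) (hc : ∀ a ∈ L, ∀ b ∈ L, a * b⁻¹ ∈ H → c a = c b)
    (h5 : 5 ≤ (L.map c).toFinset.card) : 4 * Nat.card H < Nat.card Q := by
  have h1 := card_mul_le hH L hL c hc
  have h2 : 0 < Nat.card H := Nat.card_pos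
  nlinarith

/-- for `h⁻¹ u h`, `H` in the centraliser of `u` -/
theorem four_lt_cent [Finite Y] {Q H : Subgroup Y} (hH : H ≤ Q) {u : Y} (hu : ∀ h ∈ H, h * u = u * h) [DecidableEq Y]
    (L : List Y) (hL : ∀ h ∈ L, h ∈ Q) (h5 : 5 ≤ (L.map fun h => h⁻¹ * u * h).toFinset.card) :
    4 * Nat.card H < Nat.card Q := by
  refine four_lt hH L hL _ (fun a _ b _ hab => ?_) h5
  have h1 := hu _ hab
  calc a⁻¹ * u * a = a⁻¹ * (u * (a * b⁻¹)) * b := by group
    _ = a⁻¹ * (a * b⁻¹ * u) * b := by rw [h1]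
    _ = b⁻¹ * u * b := by group

/-- for `h⁻¹ m f(h)` -/
theorem four_lt_twist [Finite Y] {Q H : Subgroup Y} (hH : H ≤ Q) {m : Y} {f : Y → Y}
    (hf : ∀ a ∈ Q, ∀ b ∈ Q, f (a * b) = f a * f b) (hu : ∀ h ∈ H, m * f h * m⁻¹ = h) [DecidableEq Y]
    (L : List Y) (hL : ∀ h ∈ L, h ∈ Q) (h5 : 5 ≤ (L.map fun h => h⁻¹ * m * f h).toFinset.card) :
    4 * Nat.card H < Nat.card Q := by
  have f1 : f 1 = 1 := by
    have h := hf 1 Q.one_mem 1 Q.one_mem
    rw [mul_one] at h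
    exact (mul_eq_left.1 h.symm)
  refine four_lt hH L hL _ (fun a ha b hb hab => ?_) h5
  have h1 := hu _ hab
  have h2 : f (a * b⁻¹) * f b = f a := by
    rw [← hf _ (Q.mul_mem (hL a ha) (Q.inv_mem (hL b hb))) _ (hL b hb), inv_mul_cancel_right]
  calc a⁻¹ * m * f a = a⁻¹ * (m * f (a * b⁻¹) * m⁻¹) * m * f b := by rw [← h2]; group
    _ = a⁻¹ * (a * b⁻¹) * m * f b := by rw [h1]
    _ = b⁻¹ * m * f b := by group

end Cfsg.Agent.OddHalf.D7Tits.WFive

end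

-- merged: Cfsg.Agent.TitsK.KtWB
section

/-!
# K-facts for type W: `KTW K` from the values of `K` (helper795)

* `Vals K φ`: `φ : Y → F₄(2)` is injective with image `HT` and `K` has the values of helper261's instance;
* `ktwOf`: `Vals K φ → KTW K`.
-/

set_option autoImplicit false
set_option Elab.async false
set_option linter.unusedSectionVars false

namespace Cfsg.Agent.TitsK

open Cfsg.Lie Cfsg.Agent.ChevalleyStructure.TwF4.Tables
open Cfsg.Agent.FourTwo.Base hiding bar bar_lt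
open Cfsg.Agent.FourTwo.BN Cfsg.Agent.FourTwo.Comm Cfsg.Agent.FourTwo.Classes
open Cfsg.Agent.FourTwo.UCode (mulU invU conjU lets colW colF force force_eq mem_lets wel_lets wel_mem)
open Cfsg.Agent.OddHalf.D7Tits.Defs Cfsg.Agent.OddHalf.D7Tits.WDefs

universe u

/-! ### conjugation by `ya na` -/

theorem lkE {c e : ℕ} (h : posW [0, 3] c = true) (h2 : conjU 513 (reflW [0, 3] c) = e) :
    ya * na * ec c * (ya * na)⁻¹ = ec e := by
  have h3 : na * ec c * na⁻¹ = ec (reflW [0, 3] c) := nw_conj_ec (by decide) h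
  have e1 : ya * na * ec c * (ya * na)⁻¹ = ya * (na * ec c * na⁻¹) * ya⁻¹ := by group
  rw [e1, h3, ya_eq, ← ec_conjU, h2]

theorem inv_conj_aux {G : Type*} [Group G] {k a b : G} (h : k * a * k⁻¹ = b) : k⁻¹ * b * k = a := by
  rw [← h]
  group

theorem kq_UT (n : ZMod 5) : ya * na * qf n * (ya * na)⁻¹ ∈ UT := by
  have h : ∀ n : ZMod 5, posW [0, 3] (qc n) = true := by decide +kernel
  have h3 : na * qf n * na⁻¹ = ec (reflW [0, 3] (qc n)) := nw_conj_ec (by decide) (h n)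
  have h4 : ec (reflW [0, 3] (qc n)) ∈ UT :=
    ec_mem_UT_of (AA_le_UT (qf_mem n)).2 [0, 3] (by decide) (h n) rfl
  have e1 : ya * na * qf n * (ya * na)⁻¹ = ya * (na * qf n * na⁻¹) * ya⁻¹ := by group
  rw [e1, h3]
  exact UT.mul_mem (UT.mul_mem ya_mem h4) (UT.inv_mem ya_mem)

theorem yana_mem : ya * na ∈ HT := HT.mul_mem ya_mem_HT na_mem_HT

/-! ### conjugation by powers of `xf` -/

theorem xi_Q8 {e : ℕ} (he : ec e ∈ Q8) : ec (xiE e) ∈ Q8 :=
  xf_conj_Q8' (xf_conj_Q8' (xf_conj_Q8' (xf_conj_Q8' he)))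

theorem conj_succ_aux {G : Type*} [Group G] (x a : G) (n : ℕ) :
    (x ^ (n + 1))⁻¹ * a * x ^ (n + 1) = x⁻¹ * ((x ^ n)⁻¹ * a * x ^ n) * x := by
  rw [pow_succ]
  group

theorem xi_pow {e : ℕ} (he : ec e ∈ Q8) : ∀ n : ℕ, (xf ^ n)⁻¹ * ec e * xf ^ n = ec (xiE^[n] e) ∧ ec (xiE^[n] e) ∈ Q8 := by
  intro n
  induction n with
  | zero => exact ⟨by rw [pow_zero, inv_one, one_mul, mul_one]; rfl, he⟩
  | succ n ih =>
    rw [Function.iterate_succ_apply', conj_succ_aux, ih.1, xi_conj ih.2]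
    exact ⟨rfl, xi_Q8 ih.2⟩

/-- codes of the conjugates of `r` -/
def rL : List ℕ := [1463845, 16567428, 5482912, 13495684, 14999173]
/-- codes of the conjugates of `r aw` -/
def rwL : List ℕ := [8537637, 72836, 8563104, 9485700, 8474245]

theorem rL_eq : ((List.range 5).all fun n => Nat.beq (xiE^[n] 1463845) (rL.getD n 0) &&
    Nat.beq (xiE^[n] 8537637) (rwL.getD n 0)) = true := by decide +kernel

theorem r_Q8 : ec 1463845 ∈ Q8 := QQ_le_Q8 rf_mem

theorem raw_eq : ec 1463845 * ec 9703424 = ec 8537637 := by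
  have h : mulU 1463845 9703424 = 8537637 := by decide +kernel
  rw [← h, ec_mulU]

theorem aw_mem : ec 9703424 ∈ AA := ⟨_, by decide, rfl⟩

theorem raw_Q8 : ec 8537637 ∈ Q8 := by
  rw [← raw_eq]
  exact Q8.mul_mem r_Q8 (AA_le_Q8 aw_mem)

theorem r_conj {n : ℕ} (hn : n < 5) : (xf ^ n)⁻¹ * ec 1463845 * xf ^ n = ec (rL.getD n 0) := by
  have h := rL_eq
  rw [List.all_eq_true] at h
  have h1 := h n (List.mem_range.2 hn)
  rw [Bool.and_eq_true] at h1
  rw [← Nat.eq_of_beq_eq_true h1.1]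
  exact (xi_pow r_Q8 n).1

theorem raw_conj {n : ℕ} (hn : n < 5) : (xf ^ n)⁻¹ * (ec 1463845 * ec 9703424) * xf ^ n = ec (rwL.getD n 0) := by
  have h := rL_eq
  rw [List.all_eq_true] at h
  have h1 := h n (List.mem_range.2 hn)
  rw [Bool.and_eq_true] at h1
  rw [raw_eq, ← Nat.eq_of_beq_eq_true h1.2]
  exact (xi_pow raw_Q8 n).1

theorem RK_mem' : ∀ c ∈ rL, ec c ∈ QQ := by
  have h : ∀ c ∈ rL, c ∈ RK := by decide
  exact fun c hc => RK_mem_QQ c (h c hc)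

/-! ### the values -/

/-- `K` has the values of the instance on `²F₄(2)`, `φ : Y → F₄(2)` -/
structure Vals {Y : Type u} [Group Y] (K : KT Y) (φ : Y →* LL) : Prop where
  inj : Function.Injective φ
  sur : ∀ g ∈ HT, ∃ y, φ y = g
  hz : φ K.z = z
  hx : φ K.x = xf
  hs : φ K.s = sf
  hj : φ K.j = jf
  hr : φ K.r = ec 1463845
  haj : φ K.aj = ec 806912
  haw : φ K.aw = ec 9703424
  hq : ∀ n, φ (K.q n) = qf n
  hU : ∀ y, y ∈ K.U ↔ φ y ∈ UT
  hQ : ∀ y, y ∈ K.Q ↔ φ y ∈ QQ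
  hP : ∀ y, y ∈ K.P ↔ φ y ∈ Pz
  hA : ∀ y, y ∈ K.A ↔ φ y ∈ AA

namespace Vals

variable {Y : Type u} [Group Y] {K : KT Y} {φ : Y →* LL} (V : Vals K φ)

include V

theorem jj : K.j * K.j = K.z := V.inj (by rw [map_mul, V.hj, V.hz, jf_sq])

theorem exk : ∃ k : Y, φ k = ya * na := V.sur _ yana_mem

theorem map3 (a b c : Y) : φ (a * b * c⁻¹) = φ a * φ b * (φ c)⁻¹ := by rw [map_mul, map_mul, map_inv]

theorem map3' (a b c : Y) : φ (a⁻¹ * b * c) = (φ a)⁻¹ * φ b * φ c := by rw [map_mul, map_mul, map_inv]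

/-- `k⁻¹ a k` from codes -/
theorem conj_k {k : Y} (hk : φ k = ya * na) {a b : Y} {c e : ℕ} (ha : φ a = ec e) (hb : φ b = ec c)
    (h : (posW [0, 3] c && Nat.beq (conjU 513 (reflW [0, 3] c)) e) = true) : k⁻¹ * a * k = b := by
  rw [Bool.and_eq_true] at h
  apply V.inj
  rw [V.map3', hk, ha, hb]
  exact inv_conj_aux (lkE h.1 (Nat.eq_of_beq_eq_true h.2))

theorem hq0 : φ (K.q 0) = z1 := V.hq 0

theorem hzq (n : ZMod 5) : φ (K.z * K.q n) = z * qf n := by rw [map_mul, V.hz, V.hq]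

theorem r_val {n : ℕ} (hn : n < 5) : φ ((K.x ^ n)⁻¹ * K.r * K.x ^ n) = ec (rL.getD n 0) := by
  rw [V.map3', map_pow, V.hx, V.hr]
  exact r_conj hn

theorem rw_val {n : ℕ} (hn : n < 5) : φ ((K.x ^ n)⁻¹ * (K.r * K.aw) * K.x ^ n) = ec (rwL.getD n 0) := by
  rw [V.map3', map_pow, V.hx, map_mul, V.hr, V.haw]
  exact raw_conj hn

theorem mem_Mm_iff {y : Y} : y ∈ Mm K ↔ φ y ∈ UT ∧ φ y * z1 = z1 * φ y := by
  rw [mem_Mm, V.hU, ← V.hq0, ← map_mul, ← map_mul]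
  exact ⟨fun h => ⟨h.1, by rw [h.2]⟩, fun h => ⟨h.1, V.inj h.2⟩⟩

theorem mem_Qz_iff {y : Y} : y ∈ Qz K ↔ φ y ∈ QQ ∧ φ y * z1 = z1 * φ y := by
  rw [mem_Qz, V.hQ, ← V.hq0, ← map_mul, ← map_mul]
  exact ⟨fun h => ⟨h.1, by rw [h.2]⟩, fun h => ⟨h.1, V.inj h.2⟩⟩

/-- a code with a preimage in `Y` -/
theorem exA {e : ℕ} (he : e ∈ A32) : ∃ a ∈ K.A, φ a = ec e := by
  have h : ec e ∈ AA := ⟨e, he, rfl⟩
  obtain ⟨a, ha⟩ := V.sur (ec e) (AA_le_UT h).2
  exact ⟨a, (V.hA a).2 (by rw [ha]; exact h), ha⟩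

theorem ss_val : φ (K.s * K.s) = ec 9437264 := by
  have h : mulU 1179754 1179754 = 9437264 := by decide +kernel
  rw [map_mul, V.hs, sf_eq, ← ec_mulU, h]

theorem x_conj_Q {n : ℕ} (hn : n < 5) : (K.x ^ n)⁻¹ * K.r * K.x ^ n ∈ K.Q := by
  rw [V.hQ, V.r_val hn]
  apply RK_mem'
  interval_cases n <;> decide

theorem A_le_U {a : Y} (ha : a ∈ K.A) : a ∈ K.U := K.Q_le_U (K.A_le_Q ha)

theorem ss_U : K.s * K.s ∈ K.U := K.U.mul_mem K.s_U K.s_U

/-- the value of `f` on `a R_m R_n s²` -/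
theorem f4 {f : Y → Y} (hf : Psi K f) {a : Y} (ha : a ∈ K.A) {m n : ℕ} (hm : m < 5) (hn : n < 5) :
    f (a * ((K.x ^ m)⁻¹ * K.r * K.x ^ m) * ((K.x ^ n)⁻¹ * K.r * K.x ^ n) * (K.s * K.s)) =
      a * ((K.x ^ m)⁻¹ * (K.r * K.aw) * K.x ^ m) * ((K.x ^ n)⁻¹ * (K.r * K.aw) * K.x ^ n) * (K.s * K.s * K.z) := by
  have h1 := K.Q_le_U (V.x_conj_Q hm)
  have h2 := K.Q_le_U (V.x_conj_Q hn)
  have h3 := V.A_le_U ha
  rw [hf.mul _ (K.U.mul_mem (K.U.mul_mem h3 h1) h2) _ V.ss_U, hf.mul _ (K.U.mul_mem h3 h1) _ h2, hf.mul _ h3 _ h1,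
    hf.fA a ha, hf.fr, hf.fr, hf.fss]

/-- the value of `f` on `a R_n s²` -/
theorem f3 {f : Y → Y} (hf : Psi K f) {a : Y} (ha : a ∈ K.A) {n : ℕ} (hn : n < 5) :
    f (a * ((K.x ^ n)⁻¹ * K.r * K.x ^ n) * (K.s * K.s)) =
      a * ((K.x ^ n)⁻¹ * (K.r * K.aw) * K.x ^ n) * (K.s * K.s * K.z) := by
  have h2 := K.Q_le_U (V.x_conj_Q hn)
  have h3 := V.A_le_U ha
  rw [hf.mul _ (K.U.mul_mem h3 h2) _ V.ss_U, hf.mul _ h3 _ h2, hf.fA a ha, hf.fr, hf.fss]

theorem zc : z = ec 9437184 := rfl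

/-- the fields `k1`, `k4` -/
theorem k_two {k : Y} (hk : φ k = ya * na) {f : Y → Y} (hf : Psi K f) {q b : Y} {qe be ae m n : ℕ}
    (hq : φ q = ec qe) (hb : φ b = ec be) (hae : ae ∈ A32) (hm : m < 5) (hn : n < 5)
    (h1 : (posW [0, 3] qe && Nat.beq (conjU 513 (reflW [0, 3] qe))
      (mulU (mulU (mulU ae (rL.getD m 0)) (rL.getD n 0)) 9437264)) = true)
    (h2 : (posW [0, 3] be && Nat.beq (conjU 513 (reflW [0, 3] be))
      (mulU (mulU (mulU ae (rwL.getD m 0)) (rwL.getD n 0)) (mulU 9437264 9437184))) = true) :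
    k⁻¹ * f (k * q * k⁻¹) * k = b := by
  obtain ⟨a, ha, hae'⟩ := V.exA hae
  rw [Bool.and_eq_true] at h1
  have e1 : k * q * k⁻¹ = a * ((K.x ^ m)⁻¹ * K.r * K.x ^ m) * ((K.x ^ n)⁻¹ * K.r * K.x ^ n) * (K.s * K.s) := by
    apply V.inj
    rw [V.map3, hk, hq, lkE h1.1 (Nat.eq_of_beq_eq_true h1.2), map_mul, map_mul, map_mul, hae', V.r_val hm, V.r_val hn,
      V.ss_val, ← ec_mulU, ← ec_mulU, ← ec_mulU]
  rw [e1, V.f4 hf ha hm hn]
  refine V.conj_k hk ?_ hb h2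
  rw [map_mul, map_mul, map_mul, hae', V.rw_val hm, V.rw_val hn, map_mul, V.ss_val, V.hz, V.zc, ← ec_mulU, ← ec_mulU,
    ← ec_mulU, ← ec_mulU]

/-- the fields `k2`, `k3` -/
theorem k_one {k : Y} (hk : φ k = ya * na) {f : Y → Y} (hf : Psi K f) {q b : Y} {qe be ae n : ℕ}
    (hq : φ q = ec qe) (hb : φ b = ec be) (hae : ae ∈ A32) (hn : n < 5)
    (h1 : (posW [0, 3] qe && Nat.beq (conjU 513 (reflW [0, 3] qe)) (mulU (mulU ae (rL.getD n 0)) 9437264)) = true)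
    (h2 : (posW [0, 3] be && Nat.beq (conjU 513 (reflW [0, 3] be))
      (mulU (mulU ae (rwL.getD n 0)) (mulU 9437264 9437184))) = true) :
    k⁻¹ * f (k * q * k⁻¹) * k = b := by
  obtain ⟨a, ha, hae'⟩ := V.exA hae
  rw [Bool.and_eq_true] at h1
  have e1 : k * q * k⁻¹ = a * ((K.x ^ n)⁻¹ * K.r * K.x ^ n) * (K.s * K.s) := by
    apply V.inj
    rw [V.map3, hk, hq, lkE h1.1 (Nat.eq_of_beq_eq_true h1.2), map_mul, map_mul, hae', V.r_val hn,
      V.ss_val, ← ec_mulU, ← ec_mulU]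
  rw [e1, V.f3 hf ha hn]
  refine V.conj_k hk ?_ hb h2
  rw [map_mul, map_mul, hae', V.rw_val hn, map_mul, V.ss_val, V.hz, V.zc, ← ec_mulU, ← ec_mulU, ← ec_mulU]

theorem hqc (n : ZMod 5) : φ (K.q n) = ec (qc n) := V.hq n

theorem mul_val {a b : Y} {c d e : ℕ} (ha : φ a = ec c) (hb : φ b = ec d) (h : mulU c d = e) : φ (a * b) = ec e := by
  rw [map_mul, ha, hb, ← ec_mulU, h]

theorem conj_val {a b : Y} {c d e : ℕ} (ha : φ a = ec c) (hb : φ b = ec d) (h : conjU c d = e) :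
    φ (a * b * a⁻¹) = ec e := by
  rw [V.map3, ha, hb, ← ec_conjU, h]

theorem hsc : φ K.s = ec 1179754 := by rw [V.hs, sf_eq]

theorem hzc : φ K.z = ec 9437184 := V.hz

/-- `KS₂` -/
theorem KS2 : (K.x ^ 3)⁻¹ * (K.r * K.aw) * K.x ^ 3 * ((K.x ^ 4)⁻¹ * (K.r * K.aw) * K.x ^ 4) * (K.s * K.aw * K.s⁻¹) =
    (K.x ^ 3)⁻¹ * K.r * K.x ^ 3 * ((K.x ^ 4)⁻¹ * K.r * K.x ^ 4) * (K.s * K.aj * K.s⁻¹) := by
  apply V.inj
  have h1 : φ ((K.x ^ 3)⁻¹ * (K.r * K.aw) * K.x ^ 3 * ((K.x ^ 4)⁻¹ * (K.r * K.aw) * K.x ^ 4) *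
      (K.s * K.aw * K.s⁻¹)) = ec 13755137 := by
    refine V.mul_val (V.mul_val (V.rw_val (by norm_num)) (V.rw_val (by norm_num)) rfl)
      (V.conj_val V.hsc V.haw rfl) ?_
    decide +kernel
  have h2 : φ ((K.x ^ 3)⁻¹ * K.r * K.x ^ 3 * ((K.x ^ 4)⁻¹ * K.r * K.x ^ 4) * (K.s * K.aj * K.s⁻¹)) =
      ec 13755137 := by
    refine V.mul_val (V.mul_val (V.r_val (by norm_num)) (V.r_val (by norm_num)) rfl)
      (V.conj_val V.hsc V.haj rfl) ?_
    decide +kernel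
  rw [h1, h2]

theorem q04 : φ (K.q 0 * K.q 4) = ec 2936832 := by
  rw [map_mul, V.hq, V.hq, q0q4_eq]

/-- from the orbit in `LL` to the orbit in `Y` -/
theorem orb {a : Y} (h : ∃ p ∈ Pz, p⁻¹ * ec 2936832 * p = φ a) : ∃ p ∈ K.P, p⁻¹ * (K.q 0 * K.q 4) * p = a := by
  obtain ⟨p, hp, h1⟩ := h
  obtain ⟨p', hp'⟩ := V.sur p (mem_Pz.1 hp).1
  refine ⟨p', (V.hP p').2 (by rw [hp']; exact hp), V.inj ?_⟩
  rw [V.map3', hp', V.q04, h1]

theorem A_cases {a : Y} (ha : a ∈ K.A) : a = 1 ∨ a = K.z ∨ (∃ n, a = K.q n ∨ a = K.z * K.q n) ∨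
    ∃ p ∈ K.P, p⁻¹ * (K.q 0 * K.q 4) * p = a := by
  rcases AA_orb ((V.hA a).1 ha) with h | h | ⟨n, h | h⟩ | h
  · exact Or.inl (V.inj (by rw [h, map_one]))
  · exact Or.inr (Or.inl (V.inj (by rw [h, V.hz])))
  · exact Or.inr (Or.inr (Or.inl ⟨n, Or.inl (V.inj (by rw [h, V.hq]))⟩))
  · exact Or.inr (Or.inr (Or.inl ⟨n, Or.inr (V.inj (by rw [h, V.hzq]))⟩))
  · exact Or.inr (Or.inr (Or.inr (V.orb h)))

/-! ### (F1) -/

theorem F1 (u : Y) (hu : u ∈ K.U) (hM : u ∉ Mm K) (H : Subgroup Y) (hH : H ≤ Qz K) (hc : ∀ h ∈ H, h * u = u * h) :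
    4 * Nat.card H < Nat.card (Qz K) := by
  classical
  have := K.fin
  have hu' : φ u ∈ UT := (V.hU u).1 hu
  have hne : φ u * z1 ≠ z1 * φ u := fun h => hM (V.mem_Mm_iff.2 ⟨hu', h⟩)
  obtain ⟨C, h1, h2, h3⟩ := F1_codes hu' hne
  have hpre : ∀ p ∈ LF1, ∃ y : Y, φ y = ec p.2 := fun p hp => V.sur _ (QQ_le_UT (LF1_spec p hp).1).2
  choose! pre hpre using hpre
  refine Cfsg.Agent.OddHalf.D7Tits.WFive.four_lt_cent hH hc (LF1.map pre) ?_ ?_
  · intro h hh
    rw [List.mem_map] at hh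
    obtain ⟨p, hp, rfl⟩ := hh
    rw [V.mem_Qz_iff, hpre p hp]
    exact ⟨(LF1_spec p hp).1, (LF1_spec p hp).2.1⟩
  · have h5 := five_of_codes (((LF1.map pre).map fun h => h⁻¹ * u * h).reverse) φ C ?_ h2 h3
    · rwa [List.toFinset_reverse] at h5
    · rw [← h1, List.map_reverse, List.map_map, List.map_map]
      refine congrArg List.reverse ?_
      apply List.map_congr_left
      intro p hp
      show φ ((pre p)⁻¹ * u * pre p) = _
      rw [V.map3', hpre p hp]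

/-! ### (F2) -/

theorem Qz_of {y : Y} {c : ℕ} (h : φ y = ec c) (hQ : ec c ∈ QQ)
    (hc : Nat.beq (mulU c 4259840) (mulU 4259840 c) = true) : y ∈ Qz K := by
  rw [V.mem_Qz_iff, h]
  refine ⟨hQ, ?_⟩
  unfold z1
  rw [← ec_mulU, ← ec_mulU, Nat.eq_of_beq_eq_true hc]

theorem twist_val {a fa m : Y} {c c' d : ℕ} (ha : φ a = ec c) (h : Nat.beq (mulU c' c) 0 = true)
    (hfa : φ fa = ec d) : φ (a⁻¹ * m * fa) = ec c' * φ m * ec d := by
  rw [V.map3', ha, hfa, ec_inv_of h]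

theorem F2 (f : Y → Y) (hf : Psi K f) (m : Y) (hm : m ∈ Mm K) (H : Subgroup Y) (hH : H ≤ Qz K)
    (hc : ∀ h ∈ H, m * f h * m⁻¹ = h) : 4 * Nat.card H < Nat.card (Qz K) := by
  classical
  have := K.fin
  have hm' := V.mem_Mm_iff.1 hm
  obtain ⟨C, h1, h2, h3⟩ := F2_codes hm'.1 hm'.2
  have hQU : Qz K ≤ K.U := fun a ha => K.Q_le_U (mem_Qz.1 ha).1
  -- the elements
  obtain ⟨R1, hR1⟩ : ∃ R, R = (K.x ^ 1)⁻¹ * K.r * K.x ^ 1 := ⟨_, rfl⟩
  obtain ⟨R2, hR2⟩ : ∃ R, R = (K.x ^ 2)⁻¹ * K.r * K.x ^ 2 := ⟨_, rfl⟩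
  obtain ⟨R3, hR3⟩ : ∃ R, R = (K.x ^ 3)⁻¹ * K.r * K.x ^ 3 := ⟨_, rfl⟩
  have v1 : φ R1 = ec 16567428 := by rw [hR1]; exact V.r_val (n := 1) (by norm_num)
  have v2 : φ R2 = ec 5482912 := by rw [hR2]; exact V.r_val (n := 2) (by norm_num)
  have v3 : φ R3 = ec 13495684 := by rw [hR3]; exact V.r_val (n := 3) (by norm_num)
  have w1 : φ (f R1) = ec 72836 := by rw [hR1, hf.fr]; exact V.rw_val (n := 1) (by norm_num)
  have w2 : φ (f R2) = ec 8563104 := by rw [hR2, hf.fr]; exact V.rw_val (n := 2) (by norm_num)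
  have w3 : φ (f R3) = ec 9485700 := by rw [hR3, hf.fr]; exact V.rw_val (n := 3) (by norm_num)
  have u1 : R1 ∈ K.U := by rw [hR1]; exact K.Q_le_U (V.x_conj_Q (by norm_num))
  have u2 : R2 ∈ K.U := by rw [hR2]; exact K.Q_le_U (V.x_conj_Q (by norm_num))
  have u3 : R3 ∈ K.U := by rw [hR3]; exact K.Q_le_U (V.x_conj_Q (by norm_num))
  have q1 : ec 16567428 ∈ QQ := RK_mem' _ (by decide)
  have q2 : ec 5482912 ∈ QQ := RK_mem' _ (by decide)
  have q3 : ec 13495684 ∈ QQ := RK_mem' _ (by decide)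
  have v12 : φ (R1 * R2) = ec 14656804 := V.mul_val v1 v2 (by decide +kernel)
  have v13 : φ (R1 * R3) = ec 5583104 := V.mul_val v1 v3 (by decide +kernel)
  have v23 : φ (R2 * R3) = ec 7848996 := V.mul_val v2 v3 (by decide +kernel)
  have w12 : φ (f (R1 * R2)) = ec 14906660 := by rw [hf.mul _ u1 _ u2]; exact V.mul_val w1 w2 (by decide +kernel)
  have w13 : φ (f (R1 * R3)) = ec 7713024 := by rw [hf.mul _ u1 _ u3]; exact V.mul_val w1 w3 (by decide +kernel)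
  have w23 : φ (f (R2 * R3)) = ec 15438884 := by rw [hf.mul _ u2 _ u3]; exact V.mul_val w2 w3 (by decide +kernel)
  have vq : φ (K.q 1) = ec 14503936 := V.hqc 1
  have wq : φ (f (K.q 1)) = ec 14503936 := by rw [hf.fA _ (K.q_A 1)]; exact vq
  have v0 : φ (1 : Y) = ec 0 := by rw [map_one, ec_zero]
  have w0 : φ (f (1 : Y)) = ec 0 := by rw [hf.fA _ K.A.one_mem]; exact v0
  refine Cfsg.Agent.OddHalf.D7Tits.WFive.four_lt_twist hH (m := m) (f := f)
    (fun a ha b hb => hf.mul a (hQU ha) b (hQU hb)) hc [1, R1, R2, R1 * R2, R1 * R3, R2 * R3, K.q 1] ?_ ?_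
  · intro h hh
    simp only [List.mem_cons, List.not_mem_nil, or_false] at hh
    rcases hh with rfl | rfl | rfl | rfl | rfl | rfl | rfl
    · exact Subgroup.one_mem _
    · exact V.Qz_of v1 q1 (by decide +kernel)
    · exact V.Qz_of v2 q2 (by decide +kernel)
    · exact V.Qz_of v12 (by rw [← v12, map_mul, v1, v2]; exact QQ.mul_mem q1 q2) (by decide +kernel)
    · exact V.Qz_of v13 (by rw [← v13, map_mul, v1, v3]; exact QQ.mul_mem q1 q3) (by decide +kernel)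
    · exact V.Qz_of v23 (by rw [← v23, map_mul, v2, v3]; exact QQ.mul_mem q2 q3) (by decide +kernel)
    · exact V.Qz_of vq (by rw [← vq]; exact (V.hQ _).1 (K.A_le_Q (K.q_A 1))) (by decide +kernel)
  · have h5 := five_of_codes (([1, R1, R2, R1 * R2, R1 * R3, R2 * R3, K.q 1].map fun h => h⁻¹ * m * f h).reverse)
      φ C ?_ h2 h3
    · rwa [List.toFinset_reverse] at h5
    · rw [← h1, List.map_reverse, List.map_map]
      refine congrArg List.reverse ?_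
      show [φ (1⁻¹ * m * f 1), φ (R1⁻¹ * m * f R1), φ (R2⁻¹ * m * f R2), φ ((R1 * R2)⁻¹ * m * f (R1 * R2)),
        φ ((R1 * R3)⁻¹ * m * f (R1 * R3)), φ ((R2 * R3)⁻¹ * m * f (R2 * R3)),
        φ ((K.q 1)⁻¹ * m * f (K.q 1))] = [ec 0 * φ m * ec 0, ec 12180612 * φ m * ec 72836,
        ec 14887328 * φ m * ec 8563104, ec 7566628 * φ m * ec 14906660, ec 12923136 * φ m * ec 7713024,
        ec 8098852 * φ m * ec 15438884, ec 14503936 * φ m * ec 14503936]
      rw [V.twist_val (c' := 0) v0 (by decide +kernel) w0, V.twist_val (c' := 12180612) v1 (by decide +kernel) w1,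
        V.twist_val (c' := 14887328) v2 (by decide +kernel) w2, V.twist_val (c' := 7566628) v12 (by decide +kernel) w12,
        V.twist_val (c' := 12923136) v13 (by decide +kernel) w13, V.twist_val (c' := 8098852) v23 (by decide +kernel) w23,
        V.twist_val (c' := 14503936) vq (by decide +kernel) wq]

/-! ### (F3) -/

theorem F3 (m : Y) (hm : m ∈ Mm K) (hmm : m * m = 1) (H : Subgroup Y) (hH : H ≤ Mm K)
    (hc : ∀ h ∈ H, h * m = m * h) (hcard : Nat.card (Mm K) ≤ 4 * Nat.card H) :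
    m = 1 ∨ m = K.z ∨ m = K.q 0 ∨ m = K.z * K.q 0 ∨ ∃ p ∈ K.P, p⁻¹ * (K.q 0 * K.q 4) * p = m := by
  classical
  have := K.fin
  have hm' := V.mem_Mm_iff.1 hm
  rcases F3_codes hm'.1 (by rw [← map_mul, hmm, map_one]) with ⟨e, he, h⟩ | ⟨C, h1, h2, h3⟩
  · have ho : ∀ e ∈ [2129920, 6389760, 11567104, 15826944], φ m = ec e →
        ∃ p ∈ K.P, p⁻¹ * (K.q 0 * K.q 4) * p = m := by
      intro e he h
      apply V.orb
      rw [h]
      refine O20_spec e ?_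
      simp only [List.mem_cons, List.not_mem_nil, or_false] at he
      rcases he with rfl | rfl | rfl | rfl <;> decide
    unfold X8 at he
    simp only [List.mem_cons, List.not_mem_nil, or_false] at he
    rcases he with rfl | rfl | rfl | rfl | rfl | rfl | rfl | rfl
    · exact Or.inl (V.inj (by rw [h, map_one, ec_zero]))
    · exact Or.inr (Or.inl (V.inj (by rw [h, V.hzc])))
    · exact Or.inr (Or.inr (Or.inl (V.inj (by rw [h, V.hq0]; rfl))))
    · refine Or.inr (Or.inr (Or.inr (Or.inl (V.inj ?_))))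
      rw [h, V.mul_val (e := 13697024) V.hzc (V.hqc 0) (by decide +kernel)]
    · exact Or.inr (Or.inr (Or.inr (Or.inr (ho _ (by simp) h))))
    · exact Or.inr (Or.inr (Or.inr (Or.inr (ho _ (by simp) h))))
    · exact Or.inr (Or.inr (Or.inr (Or.inr (ho _ (by simp) h))))
    · exact Or.inr (Or.inr (Or.inr (Or.inr (ho _ (by simp) h))))
  · exfalso
    have hpre : ∀ p ∈ LF3, ∃ y : Y, φ y = ec p.2 := fun p hp => V.sur _ (LF3_spec p hp).1.2
    choose! pre hpre using hpre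
    have h4 := Cfsg.Agent.OddHalf.D7Tits.WFive.four_lt_cent hH hc (LF3.map pre) (by
      intro h hh
      rw [List.mem_map] at hh
      obtain ⟨p, hp, rfl⟩ := hh
      rw [V.mem_Mm_iff, hpre p hp]
      exact ⟨(LF3_spec p hp).1, (LF3_spec p hp).2.1⟩) (by
      have h5 := five_of_codes (((LF3.map pre).map fun h => h⁻¹ * m * h).reverse) φ C (by
        rw [← h1, List.map_reverse, List.map_map, List.map_map]
        refine congrArg List.reverse ?_
        apply List.map_congr_left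
        intro p hp
        show φ ((pre p)⁻¹ * m * pre p) = _
        rw [V.map3', hpre p hp]) h2 h3
      rwa [List.toFinset_reverse] at h5)
    omega

end Vals

/-- **The K-facts for type W.** -/
noncomputable def ktwOf {Y : Type u} [Group Y] {K : KT Y} {φ : Y →* LL} (V : Vals K φ) : KTW K where
  jj := V.jj
  k := Classical.choose V.exk
  kz := V.conj_k (Classical.choose_spec V.exk) V.hzc (V.hqc 0) (by decide +kernel)
  kq := V.conj_k (Classical.choose_spec V.exk) (V.hqc 0)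
    (V.mul_val (e := 13697024) V.hzc (V.hqc 0) (by decide +kernel)) (by decide +kernel)
  kU n := by
    rw [V.hU, V.map3, Classical.choose_spec V.exk, V.hq]
    exact kq_UT n
  k1 f hf := V.k_two (Classical.choose_spec V.exk) hf (V.hqc 1) V.q04 (ae := 2670592) (m := 0) (n := 4) (by decide)
    (by norm_num) (by norm_num) (by decide +kernel) (by decide +kernel)
  k2 f hf := V.k_one (Classical.choose_spec V.exk) hf (V.hqc 2)
    (V.mul_val (e := 2396160) (V.mul_val (e := 13697024) V.hzc (V.hqc 0) (by decide +kernel)) (V.hqc 2)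
      (by decide +kernel)) (ae := 2936832) (n := 2) (by decide) (by norm_num) (by decide +kernel) (by decide +kernel)
  k3 f hf := V.k_one (Classical.choose_spec V.exk) hf (V.hqc 3)
    (V.mul_val (e := 13963264) (V.mul_val (e := 13697024) V.hzc (V.hqc 0) (by decide +kernel)) (V.hqc 3)
      (by decide +kernel)) (ae := 5066752) (n := 2) (by decide) (by norm_num) (by decide +kernel) (by decide +kernel)
  k4 f hf := V.k_two (Classical.choose_spec V.exk) hf (V.hqc 4)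
    (V.mul_val (e := 10244096) (V.hqc 0) (V.hqc 1) (by decide +kernel)) (ae := 14237696) (m := 0) (n := 4) (by decide)
    (by norm_num) (by norm_num) (by decide +kernel) (by decide +kernel)
  KS₂ := V.KS2
  A_cases a ha := V.A_cases ha
  F1 := V.F1
  F2 := V.F2
  F3 := V.F3

end Cfsg.Agent.TitsK

end
end

private theorem dce_5fbfb15716e5 : _root_.True := by
  try have : _root_.True := by simp only [_root_.Cfsg.Agent.TitsK.okP.eq_def]
  exact _root_.True.intro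
end

-- part: OddHalf/D4/Small/RowG23
section
set_option linter.all false
open scoped Cfsg.Agent.FastGrp

-- merged: Cfsg.Agent.OddHalf.D4.Small.RowG23Abs
section

/-!
# ODD, D4, small Lie odd: the facts on `G₂(3)`, from the coordinates `Case9c` of `C(z)` (helper618)

`S = R ⟨y⟩`, `A = ⟨z, i k, j l⟩`.
-/

set_option autoImplicit false

namespace Cfsg.Agent.OddHalf.D4.Small.KG23

open Cfsg.Agent.Co2Type.Quad Cfsg.Agent.LargeExtra.Model Cfsg.Agent.LargeExtra.Pres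
open Cfsg.Agent.LargeExtra.W2 Cfsg.Agent.LargeExtra.W2.PlusHom
open Cfsg.Agent.GTwoThree.Cent
open Cfsg.Agent.OddHalf.D6.QThree.G23Abs Cfsg.Agent.OddHalf.D6.QThree.G23Aut

/-- the code commutes with `i k` and `j l` -/
def cA (m : M) : Prop := m * (mi * mk) = mi * mk * m ∧ m * (mj * ml) = mj * ml * m

instance (m : M) : Decidable (cA m) := by unfold cA; infer_instance

/-- the elements of `⟨z, i k, j l⟩` -/
def LA : List M := [1, mi * mk, mj * ml, mi * mk * (mj * ml), zz, zz * (mi * mk), zz * (mj * ml),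
  zz * (mi * mk * (mj * ml))]

set_option maxRecDepth 100000 in
theorem mem_LA : ∀ m : M, cA m → m ∈ LA := by decide +kernel

theorem of_LA : ∀ m ∈ LA, cA m := by decide +kernel

theorem comm_LA : ∀ m ∈ LA, ∀ n ∈ LA, m * n = n * m := by decide +kernel

set_option maxRecDepth 100000 in
theorem dec_S : ∀ m' : M, ∀ e : Fin 2, ∀ m ∈ LA, cA (m' * act 0 0 e m * m'⁻¹) := by
  have hL : LA = [gzD 0, gzD 5, gzD 10, gzD 15, gzD 16, gzD 21, gzD 26, gzD 31] := by decide +kernel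
  have h1 : mi * mk = gzD 5 := by decide +kernel
  have h2 : mj * ml = gzD 10 := by decide +kernel
  delta cA
  rw [hL, h1, h2, act_eq_gz]
  simp only [mul_eq_gzM]
  decide +kernel

set_option maxRecDepth 100000 in
theorem dec_CA : ∀ u : K, mul false u (kq (mi * mk)) = mul false (kq (mi * mk)) u →
    mul false u (kq (mj * ml)) = mul false (kq (mj * ml)) u → u.2 = (0, 0, 0) ∧ cA u.1 := by
  rw [mul_eq_gz]
  decide +kernel

theorem dec_mul2 : ∀ u v : Fin 3 × Fin 3 × Fin 2, u.1 = 0 → u.2.1 = 0 → v.1 = 0 → v.2.1 = 0 →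
    (mul2 u v).1 = 0 ∧ (mul2 u v).2.1 = 0 := by decide +kernel

theorem dec_inv2 : ∀ u v : Fin 3 × Fin 3 × Fin 2, u.1 = 0 → u.2.1 = 0 → mul2 u v = (0, 0, 0) →
    v.1 = 0 ∧ v.2.1 = 0 := by decide +kernel

theorem dec_sq2 : ∀ u : Fin 3 × Fin 3 × Fin 2, u.1 = 0 → u.2.1 = 0 → mul2 u u = (0, 0, 0) := by decide +kernel

theorem dec_core : ∀ u : Fin 3 × Fin 3 × Fin 2, u.1 = 0 → u.2.1 = 0 →
    (mul2 (mul2 (1, 0, 0) u) (mul2 (1, 0, 0) (1, 0, 0))).1 = 0 → u = (0, 0, 0) := by decide +kernel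

theorem dec_mem : ∀ m : M, ∃ a ∈ LI, ∃ b ∈ LK, m = a * b := by decide +kernel

theorem dec_c1 : ∀ m ∈ LI, c1 m := by decide +kernel
theorem dec_c2 : ∀ m ∈ LK, c2 m := by decide +kernel
theorem dec_com : ∀ m ∈ LI, ∀ n ∈ LK, m * n = n * m := by decide +kernel
theorem dec_s1 : ∀ m ∈ LI, m ≠ 1 → m ≠ zz → s1 m ≠ m ∧ s1 m ≠ m * zz := by decide +kernel

variable {G : Type*} [Group G] {Q : Subgroup G} {z i j k l x₁ x₂ y : G}

section

variable (h : Case9c Q z i j k l x₁ x₂ y) (hy : y * y = 1)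

/-- the Sylow 2-subgroup `Q ⟨y⟩` -/
def S : Subgroup G where
  carrier := {x | ∃ u : K, toG h u = x ∧ u.2.1 = 0 ∧ u.2.2.1 = 0}
  one_mem' := ⟨k1, toG_k1 h, rfl, rfl⟩
  mul_mem' := by
    rintro _ _ ⟨u, rfl, hu1, hu2⟩ ⟨w, rfl, hw1, hw2⟩
    exact ⟨mul false u w, mulG h hy u w, dec_mul2 u.2 w.2 hu1 hu2 hw1 hw2⟩
  inv_mem' := by
    rintro _ ⟨u, rfl, hu1, hu2⟩
    obtain ⟨w, hw⟩ := exists_code h (c := (toG h u)⁻¹) (by
      have h1 : Commute (toG h u) z := toG_comm h u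
      exact h1.inv_left.eq)
    refine ⟨w, hw, dec_inv2 u.2 w.2 hu1 hu2 ?_⟩
    have h2 : mul false u w = k1 := by
      rw [← toG_inj h, mulG h hy, hw, mul_inv_cancel, toG_k1]
    exact congrArg Prod.snd h2

theorem mem_S {x : G} : x ∈ S h hy ↔ ∃ u : K, toG h u = x ∧ u.2.1 = 0 ∧ u.2.2.1 = 0 := Iff.rfl

theorem S_comm {x : G} (hx : x ∈ S h hy) : x * z = z * x := by
  obtain ⟨u, rfl, -, -⟩ := (mem_S h hy).1 hx
  exact toG_comm h u

theorem Q_le_S : Q ≤ S h hy := by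
  intro x hx
  obtain ⟨m, rfl⟩ := exists_hom h.toPlus hx
  exact ⟨kq m, toG_kq h m, rfl, rfl⟩

theorem S_sq {x : G} (hx : x ∈ S h hy) : x * x ∈ Q := by
  obtain ⟨u, rfl, h1, h2⟩ := (mem_S h hy).1 hx
  rw [← mulG h hy, mem_Q]
  exact dec_sq2 u.2 h1 h2

theorem isPGroup_S : IsPGroup 2 ↥(S h hy) := by
  rintro ⟨x, hx⟩
  refine ⟨3, Subtype.ext ?_⟩
  show x ^ 8 = 1
  have h1 : x ^ 8 = x * x * (x * x) * (x * x * (x * x)) := by
    simp only [pow_succ, pow_zero, one_mul, mul_assoc]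
  rw [h1]
  rcases h.large.sq _ (S_sq h hy hx) with h2 | h2 <;> rw [h2]
  · rw [one_mul]
  · exact h.large.z_sq

theorem card_S [Finite G] : 2 ^ 6 ≤ Nat.card ↥(S h hy) := by
  let f : M × Fin 2 → ↥(S h hy) := fun p => ⟨toG h (p.1, 0, 0, p.2), (p.1, 0, 0, p.2), rfl, rfl, rfl⟩
  have hf : Function.Injective f := by
    rintro ⟨m, e⟩ ⟨m', e'⟩ hh
    have h1 := congrArg Subtype.val hh
    have h2 : toG h (m, 0, 0, e) = toG h (m', 0, 0, e') := h1
    rw [toG_inj] at h2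
    have h3 : m = m' := congrArg Prod.fst h2
    have h4 : e = e' := congrArg (fun u : K => u.2.2.2) h2
    rw [h3, h4]
  have h1 := Nat.card_le_card_of_injective f hf
  rw [Nat.card_prod, card_XG, Nat.card_eq_fintype_card, Fintype.card_fin] at h1
  exact h1

theorem odd_index [Finite G] {m : ℕ} (hc : Nat.card G = 2 ^ 6 * m) (hm : Odd m) : Odd (S h hy).index := by
  obtain ⟨a, ha⟩ := IsPGroup.iff_card.mp (isPGroup_S h hy)
  have h1 := (S h hy).card_mul_index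
  have h2 := card_S h hy
  rw [ha] at h1 h2
  rw [hc] at h1
  have h3 : 6 ≤ a := (Nat.pow_le_pow_iff_right (by norm_num)).mp h2
  obtain ⟨b, rfl⟩ := Nat.exists_eq_add_of_le h3
  rw [pow_add, mul_assoc] at h1
  have h4 : 2 ^ b * (S h hy).index = m := Nat.eq_of_mul_eq_mul_left (by positivity) h1
  exact hm.of_dvd_nat (Dvd.intro_left _ h4)

/-! ### the sheet -/

include h hy in
theorem cR (hodd : Odd (Subgroup.centralizer ({z} : Set G)).index) {g : G} (hg : g * z = z * g)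
    (hgR : ∀ r ∈ Q, g * r = r * g) : g = 1 ∨ g = z := (base h hy hodd).cR g hg hgR

theorem core [Finite G] (hodd : Odd (Subgroup.centralizer ({z} : Set G)).index)
    {m : ℕ} (hc : Nat.card G = 2 ^ 6 * m) (hm : Odd m) : Core G (S h hy) Q z where
  two := isPGroup_S h hy
  odd := odd_index h hy hc hm
  z2 := h.large.z_sq
  z1 := h.large.z_ne
  zR := h.large.z_mem
  RS := Q_le_S h hy
  zc := fun s hs => S_comm h hy hs
  uniq := by
    intro x hx _ hx1 hc'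
    exact (cR h hy hodd (S_comm h hy hx) (fun r hr => (hc' r (Q_le_S h hy hr)).symm)).resolve_left hx1
  Rn := fun p hp r hr => h.large.conj_mem p hp r hr
  core := by
    intro x hx hh
    obtain ⟨u, rfl, h1, h2⟩ := (mem_S h hy).1 hx
    obtain ⟨w, hw, hw1, -⟩ := (mem_S h hy).1 (hh x₁ (x1_z h))
    rw [mem_Q]
    apply dec_core u.2 h1 h2
    have h3 : w = mul false (mul false kx u) (mul false kx kx) := by
      rw [← toG_inj h, mulG h hy, mulG h hy, mulG h hy, toG_kx, ← x1_inv h]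
      exact hw
    rw [h3] at hw1
    exact hw1

/-- `⟨i, j⟩` -/
def Q1 : Subgroup G := (Subgroup.centralizer ({mk, ml} : Set M)).map (hom h.toPlus)
/-- `⟨k, l⟩` -/
def Q2 : Subgroup G := (Subgroup.centralizer ({mi, mj} : Set M)).map (hom h.toPlus)
/-- `⟨z, i k, j l⟩` -/
def A : Subgroup G := (Subgroup.centralizer ({mi * mk, mj * ml} : Set M)).map (hom h.toPlus)

omit [Group G] h hy in
theorem mem_cent_two {a b m : M} : m ∈ Subgroup.centralizer ({a, b} : Set M) ↔ m * a = a * m ∧ m * b = b * m := by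
  rw [Subgroup.mem_centralizer_iff]
  constructor
  · intro h
    exact ⟨(h a (Or.inl rfl)).symm, (h b (Or.inr rfl)).symm⟩
  · rintro ⟨h1, h2⟩ x (rfl | hx)
    · exact h1.symm
    · have hx' : x = b := hx
      rw [hx']; exact h2.symm

omit hy in
theorem mem_Q1 {x : G} : x ∈ Q1 h ↔ ∃ m, m ∈ LI ∧ hom h.toPlus m = x := by
  constructor
  · rintro ⟨m, hm, rfl⟩
    exact ⟨m, mem_LI m (mem_cent_two.1 hm), rfl⟩
  · rintro ⟨m, hm, rfl⟩
    exact ⟨m, mem_cent_two.2 (dec_c1 m hm), rfl⟩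

omit hy in
theorem mem_Q2 {x : G} : x ∈ Q2 h ↔ ∃ m, m ∈ LK ∧ hom h.toPlus m = x := by
  constructor
  · rintro ⟨m, hm, rfl⟩
    exact ⟨m, mem_LK m (mem_cent_two.1 hm), rfl⟩
  · rintro ⟨m, hm, rfl⟩
    exact ⟨m, mem_cent_two.2 (dec_c2 m hm), rfl⟩

omit hy in
theorem mem_A {x : G} : x ∈ A h ↔ ∃ m, m ∈ LA ∧ hom h.toPlus m = x := by
  constructor
  · rintro ⟨m, hm, rfl⟩
    exact ⟨m, mem_LA m (mem_cent_two.1 hm), rfl⟩
  · rintro ⟨m, hm, rfl⟩
    exact ⟨m, mem_cent_two.2 (of_LA m hm), rfl⟩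

omit hy in
theorem isQ1 : IsQ z (Q1 h) := by
  refine IsQ.mk' (i := i) (j := j) h.large.z_sq h.large.z_ne ((mem_Q1 h).2 ⟨mi, by decide, hom_i _⟩)
    ((mem_Q1 h).2 ⟨mj, by decide, hom_j _⟩) h.ii h.jj h.ji ?_
  intro q hq
  obtain ⟨m, hm, rfl⟩ := (mem_Q1 h).1 hq
  have hm' : m = 1 ∨ m = mi ∨ m = mj ∨ m = mi * mj ∨ m = zz ∨ m = mi * zz ∨ m = mj * zz ∨ m = mi * mj * zz := by
    simpa [LI] using hm
  rcases hm' with rfl | rfl | rfl | rfl | rfl | rfl | rfl | rfl <;>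
    simp only [map_mul, map_one, hom_i, hom_j, hom_zz, true_or, or_true]

omit hy in
theorem isQ2 : IsQ z (Q2 h) := by
  refine IsQ.mk' (i := k) (j := l) h.large.z_sq h.large.z_ne ((mem_Q2 h).2 ⟨mk, by decide, hom_k _⟩)
    ((mem_Q2 h).2 ⟨ml, by decide, hom_l _⟩) h.kk h.ll h.lk ?_
  intro q hq
  obtain ⟨m, hm, rfl⟩ := (mem_Q2 h).1 hq
  have hm' : m = 1 ∨ m = mk ∨ m = ml ∨ m = mk * ml ∨ m = zz ∨ m = mk * zz ∨ m = ml * zz ∨ m = mk * ml * zz := by
    simpa [LK] using hm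
  rcases hm' with rfl | rfl | rfl | rfl | rfl | rfl | rfl | rfl <;>
    simp only [map_mul, map_one, hom_k, hom_l, hom_zz, true_or, or_true]

omit hy in
theorem isQQ : IsQQ z (Q1 h) (Q2 h) Q where
  q1 := isQ1 h
  q2 := isQ2 h
  le1 := by
    intro x hx
    obtain ⟨m, -, rfl⟩ := (mem_Q1 h).1 hx
    exact hom_mem _ _
  le2 := by
    intro x hx
    obtain ⟨m, -, rfl⟩ := (mem_Q2 h).1 hx
    exact hom_mem _ _
  com := by
    intro x hx w hw
    obtain ⟨m, hm, rfl⟩ := (mem_Q1 h).1 hx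
    obtain ⟨n, hn, rfl⟩ := (mem_Q2 h).1 hw
    rw [← map_mul, ← map_mul, dec_com m hm n hn]
  inf := by
    intro x hx hw
    obtain ⟨m, hm, rfl⟩ := (mem_Q1 h).1 hx
    obtain ⟨n, hn, e⟩ := (mem_Q2 h).1 hw
    rw [hom_eq_iff] at e
    subst e
    rcases dZ _ (dec_c1 _ hm) (dec_c2 _ hn) with rfl | rfl
    · left; rw [map_one]
    · right; rw [hom_zz]
  mem := by
    intro r hr
    obtain ⟨m, rfl⟩ := exists_hom h.toPlus hr
    obtain ⟨a, ha, b, hb, e⟩ := dec_mem m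
    exact ⟨_, (mem_Q1 h).2 ⟨a, ha, rfl⟩, _, (mem_Q2 h).2 ⟨b, hb, rfl⟩, by rw [e, map_mul]⟩

theorem sheet [Finite G] (hodd : Odd (Subgroup.centralizer ({z} : Set G)).index)
    {m : ℕ} (hc : Nat.card G = 2 ^ 6 * m) (hm : Odd m) : Sheet G (S h hy) Q z := by
  refine Sheet.of_QQ (core h hy hodd hc hm).sheet0 (isQQ h) (fun p hp hr => cR h hy hodd hp hr) (d := x₁) (x1_z h)
    ?_ ?_ ?_
  · have := h.x₁3
    rwa [pow_succ, pow_two] at this
  · intro w hw
    obtain ⟨n, hn, rfl⟩ := (mem_Q2 h).1 hw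
    rw [x1_hom h, dX n (dec_c2 n hn)]
  · intro x hx hx1 hxz
    obtain ⟨n, hn, rfl⟩ := (mem_Q1 h).1 hx
    have h1 : n ≠ 1 := by
      rintro rfl
      exact hx1 (map_one _)
    have h2 : n ≠ zz := by
      rintro rfl
      exact hxz (hom_zz _)
    rw [x1_hom h, mul_inv_cancel_right, Ne, hom_eq_iff, Ne]
    refine ⟨(dec_s1 n hn h1 h2).1, ?_⟩
    intro e
    apply (dec_s1 n hn h1 h2).2
    rw [← hom_eq_iff h.toPlus, e, map_mul, hom_zz]

/-! ### the second local subgroup -/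

theorem A_le_S : A h ≤ S h hy := by
  intro x hx
  obtain ⟨m, -, rfl⟩ := (mem_A h).1 hx
  exact Q_le_S h hy (hom_mem _ _)

include hy in
theorem cent_A (x : G) : (∀ a ∈ A h, x * a = a * x) ↔ x ∈ A h := by
  constructor
  · intro hx
    have h1 : x * z = z * x := hx z ((mem_A h).2 ⟨zz, by decide, hom_zz _⟩)
    obtain ⟨u, rfl⟩ := exists_code h h1
    have h2 := hx _ ((mem_A h).2 ⟨mi * mk, by decide, rfl⟩)
    have h3 := hx _ ((mem_A h).2 ⟨mj * ml, by decide, rfl⟩)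
    rw [← toG_kq h, comm_iff_code h hy] at h2 h3
    obtain ⟨h4, h5⟩ := dec_CA u h2 h3
    refine (mem_A h).2 ⟨u.1, mem_LA _ h5, ?_⟩
    rw [← toG_kq h, toG_inj]
    obtain ⟨m, w⟩ := u
    have hw : w = (0, 0, 0) := h4
    rw [hw]; rfl
  · intro hx a ha
    obtain ⟨m, hm, rfl⟩ := (mem_A h).1 hx
    obtain ⟨n, hn, rfl⟩ := (mem_A h).1 ha
    rw [← map_mul, ← map_mul, comm_LA m hm n hn]

theorem S_A {s : G} (hs : s ∈ S h hy) {a : G} (ha : a ∈ A h) : s * a * s⁻¹ ∈ A h := by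
  obtain ⟨⟨m', a', b', e⟩, rfl, h1, h2⟩ := (mem_S h hy).1 hs
  have h1' : a' = 0 := h1
  have h2' : b' = 0 := h2
  subst h1' h2'
  obtain ⟨m, hm, rfl⟩ := (mem_A h).1 ha
  refine (mem_A h).2 ⟨m' * act 0 0 e m * m'⁻¹, mem_LA _ (dec_S m' e m hm), ?_⟩
  rw [eq_mul_inv_iff_mul_eq, ← toG_kq h, ← toG_kq h, ← mulG h hy, ← mulG h hy, toG_inj]
  simp [mul, kq, act, it, tw, sg]

theorem S_cent (hodd : Odd (Subgroup.centralizer ({z} : Set G)).index) {a : G} (ha : a ∈ A h)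
    (hs : ∀ s ∈ S h hy, s * a = a * s) : ∀ p, p * z = z * p → a * p = p * a := by
  intro p hp
  rcases cR h hy hodd (S_comm h hy (A_le_S h hy ha)) (fun r hr => (hs r (Q_le_S h hy hr)).symm) with rfl | rfl
  · rw [one_mul, mul_one]
  · exact hp.symm

include h hy in
/-- **The row** from `Case9c`, an element `g` of `N(A)` moving `z` and generation. -/
theorem row [Finite G] (hodd : Odd (Subgroup.centralizer ({z} : Set G)).index)
    {m : ℕ} (hc : Nat.card G = 2 ^ 6 * m) (hm : Odd m) {g : G} (hgz : g * z * g⁻¹ = i * k * (j * l))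
    (hg1 : g * (i * k) * g⁻¹ = z * (j * l)) (hg2 : g * (j * l) * g⁻¹ = i * k)
    (hgen : ∀ H : Subgroup G, (∀ p, p * z = z * p → p ∈ H) →
      (∀ p, p * (i * k * (j * l)) = i * k * (j * l) * p → p ∈ H) → H = ⊤) : Row G := by
  have m1 : i * k ∈ A h := (mem_A h).2 ⟨mi * mk, by decide, by rw [map_mul, hom_i, hom_k]⟩
  have m2 : j * l ∈ A h := (mem_A h).2 ⟨mj * ml, by decide, by rw [map_mul, hom_j, hom_l]⟩
  have m3 : z ∈ A h := (mem_A h).2 ⟨zz, by decide, hom_zz _⟩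
  refine (core h hy hodd hc hm).row (sheet h hy hodd hc hm) ?_ (A_le_S h hy) (cent_A h hy)
    (fun s hs a ha => S_A h hy hs ha) (fun a ha hs => S_cent h hy hodd ha hs) (g := g) ?_ hgz
    (A_le_S h hy ((A h).mul_mem m1 m2)) hgen
  · intro x hx hr
    rcases cR h hy hodd hx hr with rfl | rfl
    · exact ⟨Q.one_mem, fun p _ => by rw [one_mul, mul_one]⟩
    · exact ⟨h.large.z_mem, fun p hp => hp.symm⟩
  · -- the preimage of `A` under the conjugation contains the generators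
    have hpre : ∀ a ∈ (A h).comap (MulAut.conj g).toMonoidHom, g * a * g⁻¹ ∈ A h := fun a ha => ha
    have p1 : i * k ∈ (A h).comap (MulAut.conj g).toMonoidHom := by
      show g * (i * k) * g⁻¹ ∈ A h
      rw [hg1]; exact (A h).mul_mem m3 m2
    have p2 : j * l ∈ (A h).comap (MulAut.conj g).toMonoidHom := by
      show g * (j * l) * g⁻¹ ∈ A h
      rw [hg2]; exact m1
    have p3 : z ∈ (A h).comap (MulAut.conj g).toMonoidHom := by
      show g * z * g⁻¹ ∈ A h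
      rw [hgz]; exact (A h).mul_mem m1 m2
    intro a ha
    apply hpre
    obtain ⟨n, hn, rfl⟩ := (mem_A h).1 ha
    have hn' : n = 1 ∨ n = mi * mk ∨ n = mj * ml ∨ n = mi * mk * (mj * ml) ∨ n = zz ∨ n = zz * (mi * mk) ∨
        n = zz * (mj * ml) ∨ n = zz * (mi * mk * (mj * ml)) := by
      simpa [LA] using hn
    rcases hn' with rfl | rfl | rfl | rfl | rfl | rfl | rfl | rfl <;>
      simp only [map_mul, map_one, hom_i, hom_j, hom_k, hom_l, hom_zz]
    · exact one_mem _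
    · exact p1
    · exact p2
    · exact mul_mem p1 p2
    · exact p3
    · exact mul_mem p3 p1
    · exact mul_mem p3 p2
    · exact mul_mem p3 (mul_mem p1 p2)

end

end Cfsg.Agent.OddHalf.D4.Small.KG23

end

-- merged: Cfsg.Agent.OddHalf.D4.Small.RowG23Words
section

/-!
# `G₂(3)`: words for the normaliser of the elementary abelian group `⟨z, i k, j l⟩` (helper618)
-/

set_option autoImplicit false
set_option Elab.async false
set_option maxRecDepth 100000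

namespace Cfsg.Agent.OddHalf.D4.Small.G23W

open Cfsg.Agent.GTwoThree.Model
open Cfsg.Agent.OddHalf.Small.G23Data Cfsg.Agent.OddHalf.Small.G23Check
open Cfsg.Agent.OddHalf.D6.QThree.G23Words

/-- the element `i t k i t` -/
def wh : List ℕ := wi ++ wt ++ wk ++ wi ++ wt

theorem th : eqc (wt ++ wh) (wh ++ (w1 ++ wy ++ w2 ++ wz)) = true := by decide +kernel
theorem hz : eqc (wh ++ wz) ((wi ++ wk ++ (wj ++ wl)) ++ wh) = true := by decide +kernel
theorem hik : eqc (wh ++ (wi ++ wk)) ((wz ++ (wj ++ wl)) ++ wh) = true := by decide +kernel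
theorem hjl : eqc (wh ++ (wj ++ wl)) ((wi ++ wk) ++ wh) = true := by decide +kernel

end Cfsg.Agent.OddHalf.D4.Small.G23W

end

-- merged: Cfsg.Agent.OddHalf.D4.Small.RowG23
section

/-!
# ODD, D4, small Lie odd: the facts on `G₂(3)` (helper618)

`row_g23`: `Row K` for `K ≅ G₂(3)`.
-/

set_option autoImplicit false

namespace Cfsg.Agent.OddHalf.D4.Small.KG23

open Cfsg.Agent.LargeExtra.W2
open Cfsg.Agent.GTwoThree.Cent
open Cfsg.Agent.OddHalf.Small.G23Data Cfsg.Agent.OddHalf.Small.G23Check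
open Cfsg.Agent.OddHalf.D6.QThree.G23Words Cfsg.Agent.OddHalf.D6.QThree.G23Facts
open Cfsg.Agent.OddHalf.D6.QThree.G23Out
open Cfsg.Agent.OddHalf.D4.Small.G23W
open Cfsg.Agent.GTwoThree.Model (wb wd wt)

section

variable {G : Type*} [Group G] {v : List ℕ → G}

theorem row_of_words (W : WM2 v) : Row G := by
  have hfin : Finite G := Nat.finite_of_card_ne_zero (by rw [W.card]; norm_num)
  have h := C W
  have hj : v wj * v wk = v wk * v wj := h.kj.symm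
  -- `b d = i k (j l)`
  have he : v wb * v wd = v wi * v wk * (v wj * v wl) := by
    rw [hbd W]
    calc v wi * v wj * (v wk * v wl) = v wi * (v wj * v wk) * v wl := by group
      _ = v wi * v wk * (v wj * v wl) := by rw [hj]; group
  have app2 : ∀ a b c d : List ℕ, v (a ++ b ++ (c ++ d)) = v a * v b * (v c * v d) := by
    intro a b c d
    rw [W.app, W.app, W.app]
  refine row h (hy W) (hodd W) W.card (by decide) (g := v wh) ?_ ?_ ?_ ?_
  · have h1 := W.eq _ _ hz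
    rw [W.app wh wz, W.app _ wh, app2] at h1
    rw [h1, mul_inv_cancel_right]
  · have h1 := W.eq _ _ hik
    rw [W.app wh, W.app _ wh, W.app wi wk, W.app wz, W.app wj wl] at h1
    rw [h1, mul_inv_cancel_right]
  · have h1 := W.eq _ _ hjl
    rw [W.app wh, W.app _ wh, W.app wj wl, W.app wi wk] at h1
    rw [h1, mul_inv_cancel_right]
  · intro H hP hQ
    apply W.gen H
    · exact hP _ (x1_z h)
    · apply hP
      rw [hb W]
      exact h.large.comm_z _ ((R v).mul_mem ((R v).mul_mem mem_i' mem_j') (mem_z' W.toWM))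
    · exact hP _ (x2_z h)
    · apply hP
      rw [hd W]
      exact h.large.comm_z _ ((R v).mul_mem ((R v).mul_mem mem_k' mem_l') (mem_z' W.toWM))
    · apply hQ
      rw [← he]
      have h1 := W.toWM.h2 te
      rwa [W.app wb wd] at h1

end

end Cfsg.Agent.OddHalf.D4.Small.KG23

namespace Cfsg.Agent.OddHalf.D4.Small

open Cfsg.Lie in
/-- the facts on `K ≅ G₂(3)` -/
theorem row_g23 {K : Type*} [Group K] (F : Type) [Field F] [Fintype F] (hF : Fintype.card F = 3)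
    (e : K ≃* ↥(chevG2.group F)) : Row K := by
  have h3 : Fintype.card (ZMod 3) = Fintype.card F := by rw [hF]; rfl
  let φ : ZMod 3 ≃+* F := FiniteField.ringEquivOfCardEq h3
  exact (KG23.row_of_words OddHalf.D6.QThree.G23Out.words2).of_equiv
    ((Cfsg.Agent.ChevalleyStructure.FieldIso.groupEquiv chevG2 φ).trans e.symm)

end Cfsg.Agent.OddHalf.D4.Small

end

private theorem dce_0bc2087483a5 : _root_.True := by
  try have : _root_.True := by simp only [_root_.Cfsg.Agent.GTwoThree.Cent.mul.eq_1]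
  try have : _root_.True := by simp only [_root_.Cfsg.Agent.GTwoThree.Cent.act.eq_1]
  try have : _root_.True := by simp only [_root_.Cfsg.Agent.OddHalf.D6.QThree.G23Aut.LK.eq_1]
  try have : _root_.True := by simp only [_root_.Cfsg.Agent.OddHalf.D4.Small.KG23.A.congr_simp]
  try have : _root_.True := by simp only [_root_.Cfsg.Agent.OddHalf.D6.QThree.G23Aut.LI.eq_1]
  try have : _root_.True := by simp only [_root_.Cfsg.Agent.OddHalf.D4.Small.KG23.LA.eq_1]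
  exact _root_.True.intro
end

-- part: KFacts/RgdFld/Fld
section
prune_inst 0x10000000018001220001800900000020040000000a005020040480028030001082005101010000000000020021000100020000000000000000100000000100280080008600006000100000000000000000000000000000000000000000000000
set_option linter.all false
open scoped Cfsg.Agent.FastGrp

-- merged: Cfsg.Agent.KFacts.RgdFld.Layer
section

/-!
# Layers of the unipotent group of a simply laced root group datum

* `Lay cs h k` : the roots of height at least `k`; `Bet cs h k S` : `Lay (k + 1) ⊆ S ⊆ Lay k`;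
* `Bet.U_le_normalizer`, `Bet.exists_mul`, `X_inf_Sup`;
* `comm_mem_of_gen`, `comm_lay`.
-/

set_option autoImplicit false
set_option linter.unusedSectionVars false

namespace Cfsg.Agent.KFacts.RgdFld.Layer

open CoxeterSystem Cfsg.Agent.ChevalleyStructure.CoxeterGeom Cfsg.Agent.Tits.Roots Cfsg.Agent.Tits.Core
  Cfsg.Agent.Tits.Exchange Cfsg.Agent.Nodes.Reps Cfsg.Agent.Nodes.BNOf Cfsg.Agent.Nodes.StabComb
  Cfsg.Agent.Nodes.Bruhat Cfsg.Agent.Nodes.OppDec Cfsg.Agent.Nodes.PosPair Cfsg.Agent.Nodes.Coroot Cfsg.Agent.KFacts.RgdSL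
open scoped commutatorElement

variable {I W Y : Type*} [Fintype I] [DecidableEq I] [Group W] [Group Y] {M : CoxeterMatrix I}
  {cs : CoxeterSystem M W} {A : I → I → ℤ} {h : IsCartan M A} {p : ℕ} {T : Subgroup Y} {n : I → Y}
  {X : (I → ℤ) → Subgroup Y}

/-! ### Combinatorics -/

theorem pos_of_ht {x : I → ℤ} (hx : IsRoot cs h x) (h0 : 0 < ht x) : 0 ≤ x := by
  rcases hx.pos_or_neg with h1 | h1
  · exact h1
  · exfalso
    have : ht x ≤ 0 := Finset.sum_nonpos fun i _ => h1 i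
    omega

theorem ne_neg_of_pos {x y : I → ℤ} (hx : x ∈ RGD.Pos cs h) (hy : y ∈ RGD.Pos cs h) : x ≠ -y := by
  intro h1
  have h2 := hx.2
  rw [h1] at h2
  exact hy.1.neg.not_pos_neg h2 (neg_nonpos.2 hy.2)

theorem btwn_pos [Finite W] (hs : SL cs h) {x y z : I → ℤ} (hx : x ∈ RGD.Pos cs h) (hy : y ∈ RGD.Pos cs h)
    (hz : Btwn cs h x y z) : (x = y ∧ z = x) ∨ (x ≠ y ∧ cpr cs h x y = -1 ∧ z = x + y) := by
  by_cases hxy : x = y
  · left
    refine ⟨hxy, ?_⟩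
    subst hxy
    have h2 := RGD.nonneg_of_btwn hx.2 hx.2 hz
    obtain ⟨hzr, m, a, b, hm, ha, hb, he⟩ := hz
    rw [← add_smul] at he
    rcases eq_or_eq_neg_of_smul cs h hzr hx.1 hm.ne' he with h1 | h1
    · exact h1
    · exfalso
      rw [h1] at h2
      exact hx.1.neg.not_pos_neg h2 (neg_nonpos.2 hx.2)
  · right
    obtain ⟨h1, h2⟩ := hs.btwn hx.1 hy.1 hxy (ne_neg_of_pos hx hy) hz
    exact ⟨hxy, h1, h2⟩

/-- The roots of height at least `k`. -/
def Lay (cs : CoxeterSystem M W) (h : IsCartan M A) (k : ℤ) : Set (I → ℤ) := {x | IsRoot cs h x ∧ k ≤ ht x}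

theorem lay_sub {k : ℤ} (hk : 0 < k) : Lay cs h k ⊆ RGD.Pos cs h := fun x hx =>
  ⟨hx.1, pos_of_ht hx.1 (by have := hx.2; omega)⟩

theorem lay_mono {k l : ℤ} (hk : k ≤ l) : Lay cs h l ⊆ Lay cs h k := fun _ hx => ⟨hx.1, le_trans hk hx.2⟩

theorem lay_one : Lay cs h 1 = RGD.Pos cs h := by
  refine Set.Subset.antisymm (lay_sub one_pos) fun x hx => ⟨hx.1, ?_⟩
  have := RGD.ht_pos hx.1 hx.2
  omega

/-- `S` lies between two layers. -/
structure Bet (cs : CoxeterSystem M W) (h : IsCartan M A) (k : ℤ) (S : Set (I → ℤ)) : Prop where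
  pos : 0 < k
  le : S ⊆ Lay cs h k
  ge : Lay cs h (k + 1) ⊆ S

theorem bet_lay {k : ℤ} (hk : 0 < k) : Bet cs h k (Lay cs h k) := ⟨hk, le_rfl, lay_mono (by omega)⟩

theorem Bet.sub {k : ℤ} {S : Set (I → ℤ)} (B : Bet cs h k S) : S ⊆ RGD.Pos cs h := B.le.trans (lay_sub B.pos)

theorem Bet.diff {k : ℤ} {S : Set (I → ℤ)} (B : Bet cs h k S) {a : I → ℤ} (ha : ht a = k) :
    Bet cs h k (S \ {a}) := by
  refine ⟨B.pos, Set.sdiff_subset.trans B.le, fun x hx => ⟨B.ge hx, ?_⟩⟩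
  rintro rfl
  have := hx.2
  omega

theorem Bet.up [Finite W] (hs : SL cs h) {k : ℤ} {S : Set (I → ℤ)} (B : Bet cs h k S) {x y z : I → ℤ} (hx : x ∈ S)
    (hy : y ∈ RGD.Pos cs h) (hz : Btwn cs h x y z) : z ∈ S := by
  rcases btwn_pos hs (B.sub hx) hy hz with ⟨-, rfl⟩ | ⟨-, -, rfl⟩
  · exact hx
  · refine B.ge ⟨hz.1, ?_⟩
    rw [RGD.ht_add]
    have h1 := (B.le hx).2
    have h2 := RGD.ht_pos hy.1 hy.2
    omega

theorem Bet.closed [Finite W] (hs : SL cs h) {k : ℤ} {S : Set (I → ℤ)} (B : Bet cs h k S) :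
    Nodes.Unique.Closed cs h S := fun _ hx _ hy _ hz => B.up hs hx (B.sub hy) hz

theorem closed_one [Finite W] (hs : SL cs h) {a : I → ℤ} (ha : a ∈ RGD.Pos cs h) :
    Nodes.Unique.Closed cs h {a} := by
  rintro x hx y hy z hz
  rw [Set.mem_singleton_iff] at hx hy ⊢
  subst hx hy
  rcases btwn_pos hs ha ha hz with ⟨-, h1⟩ | ⟨h1, -⟩
  · exact h1
  · exact absurd rfl h1

theorem Sup_one (a : I → ℤ) : RGD.Sup X {a} = X a := by
  apply le_antisymm
  · refine RGD.Sup_le fun z hz => ?_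
    rw [Set.mem_singleton_iff] at hz
    rw [hz]
  · exact RGD.le_Sup (Set.mem_singleton a)

/-! ### Commutators -/

theorem comm_mem_of_gen {N H : Subgroup Y} (hN : H ≤ Subgroup.normalizer (N : Set Y)) {S S' : Set (I → ℤ)}
    (hS : RGD.Sup X S ≤ H) (hS' : RGD.Sup X S' ≤ H)
    (hg : ∀ x ∈ S, ∀ y ∈ S', ∀ a ∈ X x, ∀ b ∈ X y, ⁅a, b⁆ ∈ N) {a b : Y} (ha : a ∈ RGD.Sup X S)
    (hb : b ∈ RGD.Sup X S') : ⁅a, b⁆ ∈ N := by
  have hconj : ∀ g ∈ H, ∀ c ∈ N, g * c * g⁻¹ ∈ N := fun g hg c hc =>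
    (Subgroup.mem_normalizer_iff.1 (hN hg) c).1 hc
  -- the subgroup of the elements commuting with `b` modulo `N`
  have key : ∀ b : Y, ∃ C : Subgroup Y, ∀ a, a ∈ C ↔ a ∈ H ∧ ⁅a, b⁆ ∈ N := by
    intro b
    refine ⟨{ carrier := {a | a ∈ H ∧ ⁅a, b⁆ ∈ N}
              mul_mem' := ?_
              one_mem' := ⟨one_mem _, by rw [commutatorElement_one_left]; exact one_mem _⟩
              inv_mem' := ?_ }, fun a => Iff.rfl⟩
    · rintro a a' ⟨ha, ha'⟩ ⟨hb, hb'⟩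
      refine ⟨mul_mem ha hb, ?_⟩
      have e : ⁅a * a', b⁆ = a * ⁅a', b⁆ * a⁻¹ * ⁅a, b⁆ := by simp only [commutatorElement_def]; group
      rw [e]
      exact mul_mem (hconj a ha _ hb') ha'
    · rintro a ⟨ha, ha'⟩
      refine ⟨inv_mem ha, ?_⟩
      have e : ⁅a⁻¹, b⁆ = a⁻¹ * (⁅a, b⁆)⁻¹ * (a⁻¹)⁻¹ := by simp only [commutatorElement_def]; group
      rw [e]
      exact hconj _ (inv_mem ha) _ (inv_mem ha')
  have h1 : ∀ y ∈ S', ∀ b ∈ X y, ∀ a ∈ RGD.Sup X S, ⁅a, b⁆ ∈ N := by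
    intro y hy b hb a ha
    obtain ⟨C, hC⟩ := key b
    have h2 : RGD.Sup X S ≤ C := RGD.Sup_le fun x hx a ha =>
      (hC a).2 ⟨hS (RGD.le_Sup hx ha), hg x hx y hy a ha b hb⟩
    exact ((hC a).1 (h2 ha)).2
  obtain ⟨C, hC⟩ := key a
  have h2 : RGD.Sup X S' ≤ C := RGD.Sup_le fun y hy b hb => (hC b).2 ⟨hS' (RGD.le_Sup hy hb), by
    have h3 := inv_mem (h1 y hy b hb a ha)
    rwa [commutatorElement_inv] at h3⟩
  have h3 := inv_mem ((hC b).1 (h2 hb)).2
  rwa [commutatorElement_inv] at h3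

section

variable (R : RGD cs h p T n X)

include R

theorem Bet.U_le_normalizer [Finite W] (hs : SL cs h) {k : ℤ} {S : Set (I → ℤ)} (B : Bet cs h k S) :
    RGD.Sup X (RGD.Pos cs h) ≤ Subgroup.normalizer (RGD.Sup X S : Set Y) := by
  refine RGD.Sup_le fun y hy => R.le_normalizer hy.1 fun x hx => ⟨(B.sub hx).1, ?_⟩
  by_cases hxy : y = x
  · exact Or.inl hxy
  · exact Or.inr ⟨ne_neg_of_pos hy (B.sub hx), fun z hz => B.up hs hx hy hz.symm⟩

theorem Bet.conj_mem [Finite W] (hs : SL cs h) {k : ℤ} {S : Set (I → ℤ)} (B : Bet cs h k S) {u s : Y}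
    (hu : u ∈ RGD.Sup X (RGD.Pos cs h)) (hsm : s ∈ RGD.Sup X S) : u * s * u⁻¹ ∈ RGD.Sup X S :=
  (Subgroup.mem_normalizer_iff.1 (B.U_le_normalizer R hs hu) s).1 hsm

theorem Bet.conj_mem' [Finite W] (hs : SL cs h) {k : ℤ} {S : Set (I → ℤ)} (B : Bet cs h k S) {u s : Y}
    (hu : u ∈ RGD.Sup X (RGD.Pos cs h)) (hsm : s ∈ RGD.Sup X S) : u⁻¹ * s * u ∈ RGD.Sup X S := by
  have := B.conj_mem R hs (inv_mem hu) hsm
  rwa [inv_inv] at this

theorem Bet.exists_mul [Finite W] (hs : SL cs h) {k : ℤ} {S : Set (I → ℤ)} (B : Bet cs h k S) {a : I → ℤ}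
    (ha : a ∈ S) (hak : ht a = k) {v : Y} (hv : v ∈ RGD.Sup X S) :
    ∃ x ∈ X a, ∃ s ∈ RGD.Sup X (S \ {a}), v = x * s := by
  have hn : X a ≤ Subgroup.normalizer (RGD.Sup X (S \ {a}) : Set Y) :=
    le_trans (RGD.le_Sup (B.sub ha)) ((B.diff hak).U_le_normalizer R hs)
  have h1 : v ∈ ((X a ⊔ RGD.Sup X (S \ {a}) : Subgroup Y) : Set Y) := by
    refine (?_ : RGD.Sup X S ≤ _) hv
    refine RGD.Sup_le fun z hz => ?_
    by_cases hz0 : z = a
    · subst hz0; exact le_sup_left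
    · exact le_trans (RGD.le_Sup (S := S \ {a}) ⟨hz, hz0⟩) le_sup_right
  rw [Subgroup.coe_mul_of_left_le_normalizer_right _ _ hn, Set.mem_mul] at h1
  obtain ⟨x, hx, s, hsm, e⟩ := h1
  exact ⟨x, hx, s, hsm, e.symm⟩

theorem X_inf_Sup [Finite W] (hs : SL cs h) {k : ℤ} {S : Set (I → ℤ)} (B : Bet cs h k S) {a : I → ℤ}
    (ha : a ∈ RGD.Pos cs h) (haS : a ∉ S) {y : Y} (h1 : y ∈ X a) (h2 : y ∈ RGD.Sup X S) : y = 1 := by
  have h3 := Nodes.Unique.inf_eq R (S := {a}) (Set.singleton_subset_iff.2 ha) B.sub (closed_one hs ha) (B.closed hs)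
  have h4 : y ∈ RGD.Sup X {a} ⊓ RGD.Sup X S := ⟨by rw [Sup_one]; exact h1, h2⟩
  rw [h3, Set.singleton_inter_eq_empty.2 haS, Sup_empty] at h4
  exact Subgroup.mem_bot.1 h4

/-- the intersection of two sets between layers -/
theorem Sup_inf_Sup [Finite W] (hs : SL cs h) {k l : ℤ} {S S' : Set (I → ℤ)} (B : Bet cs h k S)
    (B' : Bet cs h l S') : RGD.Sup X S ⊓ RGD.Sup X S' = RGD.Sup X (S ∩ S') :=
  Nodes.Unique.inf_eq R B.sub B'.sub (B.closed hs) (B'.closed hs)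

/-- Commutators of root groups. -/
theorem comm_root [Finite W] (hs : SL cs h) {x y : I → ℤ} (hx : x ∈ RGD.Pos cs h) (hy : y ∈ RGD.Pos cs h)
    (hab : ∀ a ∈ X x, ∀ b ∈ X x, a * b = b * a) {S : Set (I → ℤ)} (hS : cpr cs h x y = -1 → x + y ∈ S) {a b : Y}
    (ha : a ∈ X x) (hb : b ∈ X y) : ⁅a, b⁆ ∈ RGD.Sup X S := by
  by_cases hxy : x = y
  · subst hxy
    rw [commutatorElement_eq_one_iff_mul_comm.2 (hab a ha b hb)]
    exact one_mem _
  · refine R.btw_le_Sup ?_ (R.comm x y hx.1 hy.1 hxy (ne_neg_of_pos hx hy) a ha b hb)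
    intro z hz
    rcases btwn_pos hs hx hy hz with ⟨h1, -⟩ | ⟨-, h1, rfl⟩
    · exact absurd h1 hxy
    · exact hS h1

/-- `[V_k, V_l] ≤ V_{k+l}` -/
theorem comm_lay [Finite W] (hs : SL cs h) (hab : ∀ x, IsRoot cs h x → ∀ a ∈ X x, ∀ b ∈ X x, a * b = b * a)
    {k l : ℤ} (hk : 0 < k) (hl : 0 < l) {a b : Y} (ha : a ∈ RGD.Sup X (Lay cs h k)) (hb : b ∈ RGD.Sup X (Lay cs h l)) :
    ⁅a, b⁆ ∈ RGD.Sup X (Lay cs h (k + l)) := by
  refine comm_mem_of_gen ((bet_lay (by omega)).U_le_normalizer R hs) (RGD.Sup_mono (lay_sub hk))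
    (RGD.Sup_mono (lay_sub hl)) ?_ ha hb
  intro x hx y hy a ha b hb
  refine comm_root R hs (lay_sub hk hx) (lay_sub hl hy) (hab x hx.1) (fun hc => ?_) ha hb
  refine ⟨isRoot_add hx.1 hy.1 hc, ?_⟩
  rw [RGD.ht_add]
  have h1 := hx.2
  have h2 := hy.2
  omega

end

end Cfsg.Agent.KFacts.RgdFld.Layer

end

-- merged: Cfsg.Agent.KFacts.RgdFld.Coh
section

/-!
# `H¹(⟨β⟩, U) = 0` for a field automorphism `β`

* `Coh β P` : `H¹(⟨β⟩, P) = 0` for an involution `β`; `Coh.lift` : fixed points lift;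
* `Act β X f` : the involution `β` permutes the root groups as `f`;
* `coh_Sup` : `Coh β (X x)` for the roots `x` fixed by `f` implies `Coh β U`;
* `coh_coord` : `Coh` for a semilinear action on a root group.
-/

set_option autoImplicit false
set_option linter.unusedSectionVars false
set_option linter.dupNamespace false

namespace Cfsg.Agent.KFacts.RgdFld.Coh

open CoxeterSystem Cfsg.Agent.ChevalleyStructure.CoxeterGeom Cfsg.Agent.Tits.Roots Cfsg.Agent.Tits.Core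
  Cfsg.Agent.Tits.Exchange Cfsg.Agent.Nodes.Reps Cfsg.Agent.Nodes.BNOf Cfsg.Agent.Nodes.StabComb
  Cfsg.Agent.Nodes.Bruhat Cfsg.Agent.Nodes.OppDec Cfsg.Agent.Nodes.PosPair Cfsg.Agent.Nodes.Coroot Cfsg.Agent.KFacts.RgdSL
  Cfsg.Agent.KFacts.RgdFld.Layer Cfsg.Agent.KFacts.RgdField
open scoped commutatorElement

/-- `H¹(⟨β⟩, P) = 0` for the involution `β`. -/
def Coh {Y : Type*} [Group Y] (β : MulAut Y) (P : Subgroup Y) : Prop :=
  ∀ v ∈ P, v * β v = 1 → ∃ s ∈ P, s * v * (β s)⁻¹ = 1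

/-- Fixed points lift. -/
theorem Coh.lift {Y : Type*} [Group Y] {β : MulAut Y} {P : Subgroup Y} (hP : Coh β P) (hβ : ∀ y, β (β y) = y)
    {v : Y} (hv : v⁻¹ * β v ∈ P) : ∃ s ∈ P, β (v * s) = v * s := by
  obtain ⟨s, hs, e⟩ := hP _ hv (by rw [map_mul, map_inv, hβ]; group)
  refine ⟨s⁻¹, inv_mem hs, ?_⟩
  have h1 : β v = v * s⁻¹ * β s := by
    have h2 : s * (v⁻¹ * β v) = β s := mul_inv_eq_one.1 e
    rw [← h2]; group
  rw [map_mul, map_inv, h1]
  group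

variable {I W Y : Type*} [Fintype I] [DecidableEq I] [Group W] [Group Y] {M : CoxeterMatrix I}
  {cs : CoxeterSystem M W} {A : I → I → ℤ} {h : IsCartan M A} {p : ℕ} {T : Subgroup Y} {n : I → Y}
  {X : (I → ℤ) → Subgroup Y}

/-- The involution `β` permutes the root groups as `f`. -/
structure Act (cs : CoxeterSystem M W) (h : IsCartan M A) (X : (I → ℤ) → Subgroup Y) (β : MulAut Y)
    (f : (I → ℤ) → (I → ℤ)) : Prop where
  sq : ∀ y, β (β y) = y
  inv : ∀ x, f (f x) = x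
  root : ∀ x, IsRoot cs h x → IsRoot cs h (f x)
  ht : ∀ x, ht (f x) = ht x
  map : ∀ x, IsRoot cs h x → ∀ y ∈ X x, β y ∈ X (f x)

theorem Act.map_Sup {β : MulAut Y} {f : (I → ℤ) → (I → ℤ)} (E : Act cs h X β f) {S : Set (I → ℤ)}
    (hS : ∀ x ∈ S, IsRoot cs h x ∧ f x ∈ S) {y : Y} (hy : y ∈ RGD.Sup X S) : β y ∈ RGD.Sup X S := by
  have h1 : RGD.Sup X S ≤ (RGD.Sup X S).comap β.toMonoidHom :=
    RGD.Sup_le fun x hx y hy => RGD.le_Sup (hS x hx).2 (E.map x (hS x hx).1 y hy)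
  exact h1 hy

section

variable (R : RGD cs h p T n X)

include R

theorem coh_Sup_aux [Finite W] (hs : SL cs h)
    {β : MulAut Y} {f : (I → ℤ) → (I → ℤ)} (E : Act cs h X β f)
    (hfix : ∀ x ∈ RGD.Pos cs h, f x = x → Coh β (X x)) (m : ℕ) : ∀ (k : ℤ) (S : Set (I → ℤ)), Bet cs h k S →
      (∀ x ∈ S, f x ∈ S) → S.ncard = m → Coh β (RGD.Sup X S) := by
  induction m using Nat.strong_induction_on with
  | _ m ih =>
  intro k S B hf hm
  have hfin : S.Finite := (RGD.finite_roots (cs := cs) (h := h)).subset fun x hx => (B.sub hx).1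
  rcases S.eq_empty_or_nonempty with rfl | hne
  · intro v hv _
    rw [Sup_empty, Subgroup.mem_bot] at hv
    subst hv
    exact ⟨1, one_mem _, by rw [map_one]; group⟩
  -- a root of minimal height
  obtain ⟨a, ha, hmin⟩ := Set.exists_min_image S ht hfin hne
  have B' : Bet cs h (ht a) S := by
    have h1 := (B.le ha).2
    have h2 := B.pos
    exact ⟨by omega, fun x hx => ⟨(B.sub hx).1, hmin x hx⟩, (lay_mono (by omega)).trans B.ge⟩
  have haP := B.sub ha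
  have hfa := hf a ha
  have B1 := B'.diff (a := a) rfl
  have hmap : ∀ {S : Set (I → ℤ)}, S ⊆ RGD.Pos cs h → (∀ x ∈ S, f x ∈ S) → ∀ {y}, y ∈ RGD.Sup X S →
      β y ∈ RGD.Sup X S := fun hS hf y hy => E.map_Sup (fun x hx => ⟨(hS hx).1, hf x hx⟩) hy
  intro v hv hvv
  by_cases hfx : f a = a
  · -- a fixed root
    have hf1 : ∀ x ∈ S \ {a}, f x ∈ S \ {a} := by
      rintro x ⟨hx, hxa⟩
      refine ⟨hf x hx, fun h1 => hxa ?_⟩
      rw [Set.mem_singleton_iff] at h1 ⊢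
      rw [← E.inv x, h1, hfx]
    have hlt : (S \ {a}).ncard < m := by
      rw [← hm]
      exact Set.ncard_sdiff_singleton_lt_of_mem ha hfin
    have hcoh := ih _ hlt _ _ B1 hf1 rfl
    obtain ⟨x, hx, s, hsm, rfl⟩ := B'.exists_mul R hs ha rfl hv
    have hxU : x ∈ RGD.Sup X (RGD.Pos cs h) := RGD.le_Sup haP hx
    have hbx : β x ∈ X a := by
      have := E.map a haP.1 x hx
      rwa [hfx] at this
    have hbs := hmap B1.sub hf1 hsm
    have hN : x * β x ∈ RGD.Sup X (S \ {a}) := by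
      have h2 : x * β x = ((β x)⁻¹ * s * β x * β s)⁻¹ := by
        rw [map_mul] at hvv
        refine eq_inv_of_mul_eq_one_left ?_
        rw [← hvv]; group
      rw [h2]
      exact inv_mem (mul_mem (B1.conj_mem' R hs (RGD.le_Sup haP hbx) hsm) hbs)
    have h1 : x * β x = 1 := X_inf_Sup R hs B1 haP (fun h2 => h2.2 rfl) (mul_mem hx hbx) hN
    obtain ⟨r, hr, hrx⟩ := hfix a haP hfx x hx h1
    have hbr : β r ∈ X a := by
      have := E.map a haP.1 r hr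
      rwa [hfx] at this
    have e : r * (x * s) * (β r)⁻¹ = β r * s * (β r)⁻¹ := by
      have h2 : r * x = β r := mul_inv_eq_one.1 hrx
      rw [← mul_assoc, h2]
    have hv' : r * (x * s) * (β r)⁻¹ ∈ RGD.Sup X (S \ {a}) := by
      rw [e]
      exact B1.conj_mem R hs (RGD.le_Sup haP hbr) hsm
    obtain ⟨t, ht, hte⟩ := hcoh _ hv' (by
      rw [map_mul, map_mul, map_inv, E.sq]
      have h2 : r * (x * s) * (β r)⁻¹ * (β r * β (x * s) * r⁻¹) = r * (x * s * β (x * s)) * r⁻¹ := by group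
      rw [h2, hvv]; group)
    refine ⟨t * r, mul_mem (RGD.Sup_mono Set.sdiff_subset ht) (RGD.le_Sup ha hr), ?_⟩
    rw [map_mul, mul_inv_rev, ← hte]
    group
  · -- two roots exchanged by `f`
    have hbP := B.sub hfa
    have hb1 : f a ∈ S \ {a} := ⟨hfa, hfx⟩
    have B2 := B1.diff (a := f a) (E.ht a)
    have hf2 : ∀ x ∈ (S \ {a}) \ {f a}, f x ∈ (S \ {a}) \ {f a} := by
      rintro x ⟨⟨hx, hxa⟩, hxb⟩
      rw [Set.mem_singleton_iff] at hxa hxb
      refine ⟨⟨hf x hx, fun h1 => hxb ?_⟩, fun h1 => hxa ?_⟩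
      · rw [Set.mem_singleton_iff] at h1
        rw [← E.inv x, h1]
      · rw [Set.mem_singleton_iff] at h1
        rw [← E.inv x, h1, E.inv]
    have hlt : ((S \ {a}) \ {f a}).ncard < m := by
      rw [← hm]
      exact lt_of_le_of_lt (Set.ncard_le_ncard Set.sdiff_subset (hfin.subset Set.sdiff_subset))
        (Set.ncard_sdiff_singleton_lt_of_mem ha hfin)
    have hcoh := ih _ hlt _ _ B2 hf2 rfl
    obtain ⟨x, hx, s', hs', rfl⟩ := B'.exists_mul R hs ha rfl hv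
    obtain ⟨y, hy, s, hsm, rfl⟩ := B1.exists_mul R hs hb1 (E.ht a) hs'
    have hbx : β x ∈ X (f a) := E.map a haP.1 x hx
    have hby : β y ∈ X a := by
      have := E.map (f a) hbP.1 y hy
      rwa [E.inv] at this
    have hbs := hmap B2.sub hf2 hsm
    have hU : ∀ {z : Y}, z ∈ X a → z ∈ RGD.Sup X (RGD.Pos cs h) := fun hz => RGD.le_Sup haP hz
    have hU' : ∀ {z : Y}, z ∈ X (f a) → z ∈ RGD.Sup X (RGD.Pos cs h) := fun hz => RGD.le_Sup hbP hz
    have hsU : ∀ {z : Y}, z ∈ RGD.Sup X ((S \ {a}) \ {f a}) → z ∈ RGD.Sup X (RGD.Pos cs h) :=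
      fun hz => RGD.Sup_mono B2.sub hz
    -- `y (β x) = 1`
    have Bb := B'.diff (a := f a) (E.ht a)
    have h1 : y * β x = 1 := by
      refine X_inf_Sup R hs Bb hbP (fun h2 => h2.2 rfl) (mul_mem hy hbx) ?_
      have h2 : y * β x = x⁻¹ * ((β s)⁻¹ * (β y)⁻¹ * ((β x)⁻¹ * s * β x)⁻¹) := by
        rw [map_mul, map_mul] at hvv
        have h3 : x * (y * β x) * ((β x)⁻¹ * s * β x * β y * β s) = 1 := by
          rw [← hvv]; group
        have h4 := mul_eq_one_iff_eq_inv.1 h3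
        have h5 : y * β x = x⁻¹ * (x * (y * β x)) := by group
        rw [h5, h4]; group
      have hsub : (S \ {a}) \ {f a} ⊆ S \ {f a} := fun z hz => ⟨hz.1.1, hz.2⟩
      have haS : a ∈ S \ {f a} := ⟨ha, fun h3 => hfx h3.symm⟩
      rw [h2]
      refine mul_mem (inv_mem (RGD.le_Sup haS hx)) (mul_mem (mul_mem (inv_mem ?_) (inv_mem ?_)) (inv_mem ?_))
      · exact RGD.Sup_mono hsub hbs
      · exact RGD.le_Sup haS hby
      · exact Bb.conj_mem' R hs (hU' hbx) (RGD.Sup_mono hsub hsm)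
    have h2 : β x = y⁻¹ := (inv_eq_of_mul_eq_one_right h1).symm
    have e : x⁻¹ * (x * (y * s)) * β x = y * s * y⁻¹ := by
      rw [h2]; group
    obtain ⟨t, ht, hte⟩ := hcoh _ (B2.conj_mem R hs (hU' hy) hsm) (by
      have h3 : β (y * s * y⁻¹) = (β x)⁻¹ * β (x * (y * s)) * x := by
        rw [← e, map_mul β (x⁻¹ * (x * (y * s))), map_mul β x⁻¹, map_inv, E.sq]
      rw [h3, ← e]
      have h4 : x⁻¹ * (x * (y * s)) * β x * ((β x)⁻¹ * β (x * (y * s)) * x) =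
        x⁻¹ * (x * (y * s) * β (x * (y * s))) * x := by group
      rw [h4, hvv]; group)
    refine ⟨t * x⁻¹, mul_mem (RGD.Sup_mono (Set.sdiff_subset.trans Set.sdiff_subset) ht)
      (inv_mem (RGD.le_Sup ha hx)), ?_⟩
    rw [← e] at hte
    rw [map_mul, map_inv, mul_inv_rev, ← hte]
    group

theorem coh_Sup [Finite W] (hs : SL cs h)
    {β : MulAut Y} {f : (I → ℤ) → (I → ℤ)} (E : Act cs h X β f)
    (hfix : ∀ x ∈ RGD.Pos cs h, f x = x → Coh β (X x)) {k : ℤ} {S : Set (I → ℤ)} (B : Bet cs h k S)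
    (hf : ∀ x ∈ S, f x ∈ S) : Coh β (RGD.Sup X S) := coh_Sup_aux R hs E hfix _ k S B hf rfl

end

/-! ### One root group -/

/-- A semilinear involution with nontrivial field automorphism is not the identity. -/
theorem exists_trace {F : Type*} [Field F] [CharP F 2] {τ : F ≃+* F} (hτ : τ ≠ 1) {c : F} :
    ∃ θ, θ + c * τ θ ≠ 0 := by
  by_contra hcon
  push Not at hcon
  apply hτ
  have h1 : ∀ θ, c * τ θ = θ := by
    intro θ
    have h2 := hcon θ
    have h3 : c * τ θ = -θ := by linear_combination h2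
    rw [h3, CharTwo.neg_eq]
  have h2 : c = 1 := by
    have := h1 1
    rwa [map_one, mul_one] at this
  ext θ
  have := h1 θ
  rw [h2, one_mul] at this
  exact this

/-- Additive Hilbert 90 for a semilinear involution in characteristic two. -/
theorem exists_sub {F : Type*} [Field F] [CharP F 2] {τ : F ≃+* F} (hτ : τ ≠ 1) {c : F}
    (hcc : ∀ a, c * τ (c * τ a) = a) {l : F} (hl : c * τ l = l) : ∃ μ, μ + c * τ μ = l := by
  obtain ⟨θ, hθ⟩ := exists_trace hτ (c := c)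
  have ht : c * τ (θ + c * τ θ) = θ + c * τ θ := by
    rw [map_add, mul_add, hcc]; ring
  have hc : c ≠ 0 := by
    rintro rfl
    have := hcc 1
    rw [zero_mul] at this
    exact one_ne_zero this.symm
  have hf : τ (l / (θ + c * τ θ)) = l / (θ + c * τ θ) := by
    rw [map_div₀]
    have h1 : τ (θ + c * τ θ) ≠ 0 := fun h1 => hθ ((map_eq_zero τ).1 h1)
    rw [div_eq_div_iff h1 hθ]
    apply mul_left_cancel₀ hc
    have h2 : c * (τ l * (θ + c * τ θ)) = (c * τ l) * (θ + c * τ θ) := by ring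
    have h3 : c * (l * τ (θ + c * τ θ)) = l * (c * τ (θ + c * τ θ)) := by ring
    rw [h2, h3, hl, ht]
  refine ⟨l / (θ + c * τ θ) * θ, ?_⟩
  rw [map_mul, hf]
  field_simp

theorem coh_coord {Y : Type*} [Group Y] {F : Type*} [Field F] [CharP F 2] {T P : Subgroup Y} {x : F → Y} {χ : Y → F}
    (C : Coord T P x χ) {β : MulAut Y} (hβ : ∀ y, β (β y) = y) {τ : F ≃+* F} (hτ : τ ≠ 1) {c : F}
    (hx : ∀ a, β (x a) = x (c * τ a)) : Coh β P := by
  intro v hv hvv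
  obtain ⟨l, rfl⟩ := (C.mem v).1 hv
  have hcc : ∀ a, c * τ (c * τ a) = a := by
    intro a
    have := hβ (x a)
    rw [hx, hx] at this
    exact C.inj this
  have hl : c * τ l = l := by
    rw [hx, ← C.add, ← C.zero] at hvv
    have h1 := C.inj hvv
    have h2 : c * τ l = -l := by linear_combination h1
    rw [h2, CharTwo.neg_eq]
  obtain ⟨μ, hμ⟩ := exists_sub hτ hcc hl
  refine ⟨x μ, (C.mem _).2 ⟨μ, rfl⟩, ?_⟩
  rw [mul_inv_eq_one, ← C.add, hx]
  congr 1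
  rw [← hμ, ← add_assoc, CharTwo.add_self_eq_zero, zero_add]

end Cfsg.Agent.KFacts.RgdFld.Coh

end

-- merged: Cfsg.Agent.KFacts.RgdFld.Center
section

/-!
# The centre of `C_U(β)`

* `Str cs h x` : structure constants of the root groups;
* `exists_eff` : the effect of a simple root group on a layer;
* `Fram` : a frame involution with a nontrivial field automorphism;
* `Fram.center` : `Z(C_U(β)) ≤ X ρ`.
-/

set_option autoImplicit false
set_option linter.unusedSectionVars false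

namespace Cfsg.Agent.KFacts.RgdFld.Center

open CoxeterSystem Cfsg.Agent.ChevalleyStructure.CoxeterGeom Cfsg.Agent.Tits.Roots Cfsg.Agent.Tits.Core
  Cfsg.Agent.Tits.Exchange Cfsg.Agent.Nodes.Reps Cfsg.Agent.Nodes.BNOf Cfsg.Agent.Nodes.StabComb
  Cfsg.Agent.Nodes.Bruhat Cfsg.Agent.Nodes.OppDec Cfsg.Agent.Nodes.PosPair Cfsg.Agent.Nodes.Coroot
  Cfsg.Agent.KFacts.RgdSL Cfsg.Agent.KFacts.RgdAut Cfsg.Agent.KFacts.RgdDiag
  Cfsg.Agent.KFacts.RgdFld.Layer Cfsg.Agent.KFacts.RgdField Cfsg.Agent.KFacts.RgdTau Cfsg.Agent.KFacts.RgdFld.Coh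
open scoped commutatorElement

variable {I W Y : Type*} [Fintype I] [DecidableEq I] [Group W] [Group Y] {M : CoxeterMatrix I}
  {cs : CoxeterSystem M W} {A : I → I → ℤ} {h : IsCartan M A} {p : ℕ} {T : Subgroup Y} {n : I → Y}
  {X : (I → ℤ) → Subgroup Y} {F : Type*} [Field F] {x : (I → ℤ) → F → Y} {χ : (I → ℤ) → Y → F}

/-- Structure constants (simply laced case). -/
def Str (cs : CoxeterSystem M W) (h : IsCartan M A) (x : (I → ℤ) → F → Y) : Prop :=
  ∀ a b, IsRoot cs h a → IsRoot cs h b → cpr cs h a b = -1 → ∃ N : F, N ≠ 0 ∧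
    ∀ l m, ⁅x a l, x b m⁆ = x (a + b) (N * l * m)

theorem mem_lay {k : ℤ} {a : I → ℤ} (ha : IsRoot cs h a) (hk : k ≤ ht a) : a ∈ Lay cs h k := ⟨ha, hk⟩

theorem ht_sr (i : I) : ht (sr i : I → ℤ) = 1 := by
  unfold ht
  rw [Finset.sum_eq_single i (fun b _ hb => sr_ne hb) (fun h1 => absurd (Finset.mem_univ i) h1), sr_self]

theorem sr_mem_pos (i : I) : sr i ∈ RGD.Pos cs h := ⟨isRoot_sr cs h i, sr_nonneg i⟩

/-- two positive roots with a root as sum -/
theorem cpr_of_add [Finite W] (hs : SL cs h) {a b : I → ℤ} (ha : a ∈ RGD.Pos cs h) (hb : b ∈ RGD.Pos cs h)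
    (hab : IsRoot cs h (a + b)) : cpr cs h a b = -1 := by
  have hz : Btwn cs h a b (a + b) := Btwn.of_int hab one_pos one_pos (by rw [one_smul, one_smul])
  rcases _root_.Cfsg.Agent.KFacts.RgdFld.Layer.btwn_pos hs ha hb hz with ⟨-, h1⟩ | ⟨-, h1, -⟩
  · exfalso
    have : b = 0 := by simpa using h1
    exact hb.1.ne_zero this
  · exact h1

section

variable (R : RGD cs h p T n X)

include R

theorem mem_U {a : I → ℤ} (ha : a ∈ RGD.Pos cs h) {y : Y} (hy : y ∈ X a) : y ∈ RGD.Sup X (RGD.Pos cs h) :=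
  RGD.le_Sup ha hy

/-- **The effect of a simple root group on a layer.** -/
theorem exists_eff [Finite W] (hs : SL cs h) (C : ∀ r, IsRoot cs h r → Coord T (X r) (x r) (χ r))
    (hN : Str cs h x) {k : ℤ} (hk : 0 < k) (j : I) {b : I → ℤ} (hb : IsRoot cs h b) (hbk : ht b = k + 1) {v : Y}
    (hv : v ∈ RGD.Sup X (Lay cs h k)) :
    ∃ e : F, (∀ μ, ⁅x (sr j) μ, v⁆ * (x b (e * μ))⁻¹ ∈ RGD.Sup X (Lay cs h (k + 1) \ {b})) ∧
      ∀ a, IsRoot cs h a → a + sr j = b → v ∉ RGD.Sup X (Lay cs h k \ {a}) → e ≠ 0 := by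
  have hab : ∀ r, IsRoot cs h r → ∀ a ∈ X r, ∀ b ∈ X r, a * b = b * a := by
    intro r hr a ha b hb
    obtain ⟨l, rfl⟩ := ((C r hr).mem a).1 ha
    obtain ⟨m, rfl⟩ := ((C r hr).mem b).1 hb
    rw [← (C r hr).add, ← (C r hr).add, add_comm]
  have BM : Bet cs h (k + 1) (Lay cs h (k + 1) \ {b}) := (bet_lay (by omega)).diff hbk
  have hbP : b ∈ RGD.Pos cs h := lay_sub (k := k + 1) (by omega) ⟨hb, by omega⟩
  have hjP : sr j ∈ RGD.Pos cs h := sr_mem_pos j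
  have hxj : ∀ μ, x (sr j) μ ∈ X (sr j) := fun μ => ((C _ hjP.1).mem _).2 ⟨μ, rfl⟩
  -- the generators other than `a`
  have hgen : ∀ S : Set (I → ℤ), S ⊆ Lay cs h k → (∀ y ∈ S, y + sr j ≠ b) → ∀ μ, ∀ r ∈ RGD.Sup X S,
      ⁅x (sr j) μ, r⁆ ∈ RGD.Sup X (Lay cs h (k + 1) \ {b}) := by
    intro S hS hne μ r hr
    refine comm_mem_of_gen (S := {sr j}) (S' := S) (BM.U_le_normalizer R hs) ?_ ?_ ?_
      (by rw [Sup_one]; exact hxj μ) hr
    · rw [Sup_one]; exact RGD.le_Sup hjP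
    · exact RGD.Sup_mono (hS.trans (lay_sub hk))
    · rintro z hz y hy c hc d hd
      rw [Set.mem_singleton_iff] at hz
      subst hz
      refine comm_root R hs (S := Lay cs h (k + 1) \ {b}) hjP (lay_sub hk (hS hy)) (hab _ hjP.1)
        (fun hcp => ⟨⟨isRoot_add hjP.1 (hS hy).1 hcp, ?_⟩, ?_⟩) hc hd
      · rw [RGD.ht_add, ht_sr]
        have := (hS hy).2
        omega
      · intro h1
        rw [Set.mem_singleton_iff, add_comm] at h1
        exact hne y hy h1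
  by_cases hex : ∃ a, IsRoot cs h a ∧ a + sr j = b
  · obtain ⟨a, ha, haj⟩ := hex
    have hak : ht a = k := by
      have h1 := congrArg ht haj
      rw [RGD.ht_add, ht_sr] at h1
      omega
    have haP : a ∈ RGD.Pos cs h := lay_sub hk ⟨ha, hak.ge⟩
    have hcp : cpr cs h (sr j) a = -1 := cpr_of_add hs hjP haP (by rw [add_comm, haj]; exact hb)
    obtain ⟨N, hN0, hNe⟩ := hN _ _ hjP.1 ha hcp
    obtain ⟨c, hc, r, hr, rfl⟩ := (bet_lay hk).exists_mul R hs (mem_lay ha hak.ge) hak hv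
    obtain ⟨l, rfl⟩ := ((C a ha).mem c).1 hc
    refine ⟨N * l, fun μ => ?_, fun a' ha' haj' hv' => ?_⟩
    · have e : ⁅x (sr j) μ, x a l * r⁆ * (x b (N * l * μ))⁻¹ =
          (⁅x (sr j) μ, x a l⁆ * x a l) * ⁅x (sr j) μ, r⁆ * (⁅x (sr j) μ, x a l⁆ * x a l)⁻¹ *
          (⁅x (sr j) μ, x a l⁆ * (x b (N * l * μ))⁻¹) := by
        simp only [commutatorElement_def]; group
      have e2 : ⁅x (sr j) μ, x a l⁆ * (x b (N * l * μ))⁻¹ = 1 := by
        rw [hNe, mul_inv_eq_one, add_comm (sr j) a, haj]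
        congr 1; ring
      rw [e, e2, mul_one]
      refine BM.conj_mem R hs ?_ (hgen _ Set.sdiff_subset ?_ μ r hr)
      · refine mul_mem ?_ (mem_U R haP hc)
        rw [hNe]
        refine mem_U R hbP ?_
        rw [add_comm (sr j) a, haj]
        exact ((C b hb).mem _).2 ⟨_, rfl⟩
      · rintro y ⟨-, hy⟩ h1
        apply hy
        rw [Set.mem_singleton_iff]
        rw [← haj] at h1
        exact add_right_cancel h1
    · have : a' = a := by
        rw [← haj] at haj'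
        exact add_right_cancel haj'
      subst this
      intro h0
      rcases mul_eq_zero.1 h0 with h1 | h1
      · exact hN0 h1
      · apply hv'
        rw [h1, (C a' ha).zero, one_mul]
        exact hr
  · refine ⟨0, fun μ => ?_, fun a ha haj _ => absurd ⟨a, ha, haj⟩ hex⟩
    rw [zero_mul, (C b hb).zero, inv_one, mul_one]
    exact hgen _ le_rfl (fun y hy h1 => hex ⟨y, hy.1, h1⟩) μ v hv

end

/-! ### Frame involutions with a nontrivial field automorphism -/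

/-- A frame involution with a nontrivial field automorphism. -/
structure Fram (T : Subgroup Y) (X : (I → ℤ) → Subgroup Y) (χ : (I → ℤ) → Y → F) (A : I → I → ℤ)
    (β : MulAut Y) (σ : Equiv.Perm I) (τ : F ≃+* F) : Prop where
  tau : Tau T X χ A β σ τ
  sq : ∀ y, β (β y) = y
  ne : τ ≠ 1

section

variable {β : MulAut Y} {σ : Equiv.Perm I} {τ : F ≃+* F} (H : Fram T X χ A β σ τ)

theorem isRoot_comp (hσ : ∀ i j, M (σ i) (σ j) = M i j) (hA : ∀ i j, A (σ i) (σ j) = A i j) {r : I → ℤ}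
    (hr : IsRoot cs h r) : IsRoot cs h (r ∘ σ.symm) := by
  obtain ⟨w, i, rfl⟩ := hr
  rw [← rep_hat hσ hA, sr_comp]
  exact ⟨_, _, rfl⟩

theorem ht_comp (r : I → ℤ) : ht (r ∘ σ.symm) = ht r := by
  unfold ht
  exact Equiv.sum_comp σ.symm r

include H

theorem Fram.mul_self (R : RGD cs h p T n X) [Finite W] [Nonempty I] (C : Coords cs h T n X x χ) : σ * σ = 1 := by
  have h1 := H.tau.mul H.tau
  have h2 : β * β = 1 := MulEquiv.ext fun y => H.sq y
  rw [h2] at h1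
  exact (Tau.unique R C h1 Tau.one).1

theorem Fram.symm_symm (R : RGD cs h p T n X) [Finite W] [Nonempty I] (C : Coords cs h T n X x χ) (i : I) :
    σ.symm (σ.symm i) = i := by
  have h1 := H.mul_self R C
  have h2 : ∀ j, σ (σ j) = j := fun j => by
    have := congrArg (fun g : Equiv.Perm I => g j) h1
    exact this
  rw [Equiv.symm_apply_eq, Equiv.symm_apply_eq]
  exact (h2 i).symm

theorem Fram.act (R : RGD cs h p T n X) [Finite W] [Nonempty I] (C : Coords cs h T n X x χ) :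
    Act cs h X β (fun r => r ∘ σ.symm) where
  sq := H.sq
  inv r := by
    funext i
    show r (σ.symm (σ.symm i)) = r i
    rw [H.symm_symm R C]
  root r hr := isRoot_comp (H.tau.diag.matrix R) H.tau.cartan hr
  ht r := ht_comp r
  map r hr y hy := (Diag.root_comp R H.tau.diag H.tau.cartan hr y).2 hy

theorem Fram.coh [CharP F 2] (R : RGD cs h p T n X) [Finite W] [Nonempty I] (C : Coords cs h T n X x χ)
    (hs : SL cs h) {k : ℤ} {S : Set (I → ℤ)} (B : Bet cs h k S) (hf : ∀ r ∈ S, r ∘ σ.symm ∈ S) :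
    Coh β (RGD.Sup X S) := by
  refine coh_Sup R hs (H.act R C) (fun r hr hfr => ?_) B hf
  obtain ⟨c, -, hc⟩ := Tau.root R C H.tau hr.1
  have hfr' : r ∘ σ.symm = r := hfr
  rw [hfr'] at hc
  exact coh_coord (C.coord r hr.1) H.sq H.ne hc

theorem Fram.coh_lay [CharP F 2] (R : RGD cs h p T n X) [Finite W] [Nonempty I] (C : Coords cs h T n X x χ)
    (hs : SL cs h) {k : ℤ} (hk : 0 < k) : Coh β (RGD.Sup X (Lay cs h k)) :=
  H.coh R C hs (bet_lay hk) fun r hr =>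
    ⟨isRoot_comp (H.tau.diag.matrix R) H.tau.cartan hr.1, by rw [ht_comp]; exact hr.2⟩

/-- A fixed element of `U` with given image in `X_i X_{σ i}` modulo `[U, U]`. -/
theorem Fram.exists_fix [CharP F 2] (R : RGD cs h p T n X) [Finite W] [Nonempty I] (C : Coords cs h T n X x χ)
    (hs : SL cs h) {i : I} {c : F} (hc : ∀ a, β (x (sr i) a) = x (sr (σ i)) (c * τ a)) (μ : F) :
    ∃ s ∈ RGD.Sup X (Lay cs h 2), β (x (sr i) μ * x (sr (σ i)) (c * τ μ) * s) =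
      x (sr i) μ * x (sr (σ i)) (c * τ μ) * s := by
  refine (H.coh_lay R C hs (by norm_num : (0 : ℤ) < 2)).lift H.sq ?_
  have h1 : β (x (sr (σ i)) (c * τ μ)) = x (sr i) μ := by rw [← hc, H.sq]
  rw [map_mul, h1, ← hc, mul_inv_rev]
  have e : (β (x (sr i) μ))⁻¹ * (x (sr i) μ)⁻¹ * (β (x (sr i) μ) * x (sr i) μ) =
      ⁅(β (x (sr i) μ))⁻¹, (x (sr i) μ)⁻¹⁆ := by rw [commutatorElement_def, inv_inv, inv_inv]; group
  rw [e]
  have hab : ∀ r, IsRoot cs h r → ∀ a ∈ X r, ∀ b ∈ X r, a * b = b * a := by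
    intro r hr a ha b hb
    obtain ⟨l, rfl⟩ := ((C.coord r hr).mem a).1 ha
    obtain ⟨m, rfl⟩ := ((C.coord r hr).mem b).1 hb
    rw [← (C.coord r hr).add, ← (C.coord r hr).add, add_comm]
  have hU : ∀ (i : I) (a : F), x (sr i) a ∈ RGD.Sup X (Lay cs h 1) := fun i a => by
    rw [lay_one]
    exact RGD.le_Sup (sr_mem_pos i) (((C.coord _ (isRoot_sr cs h i)).mem _).2 ⟨a, rfl⟩)
  have h2 := comm_lay R hs hab (k := 1) (l := 1) one_pos one_pos (inv_mem (hc μ ▸ hU (σ i) (c * τ μ)))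
    (inv_mem (hU i μ))
  exact h2

theorem Fram.twice (_R : RGD cs h p T n X) [Finite W] [Nonempty I] (C : Coords cs h T n X x χ) {r : I → ℤ}
    (hr : IsRoot cs h r) (hrσ : r ∘ σ.symm = r) {c : F} (hc : ∀ a, β (x r a) = x (r ∘ σ.symm) (c * τ a)) (a : F) :
    c * τ (c * τ a) = a := by
  rw [hrσ] at hc
  have := H.sq (x r a)
  rw [hc, hc] at this
  exact (C.coord r hr).inj this

/-- One step for the centre. -/
theorem Fram.step [CharP F 2] (R : RGD cs h p T n X) [Finite W] [Nonempty I] (C : Coords cs h T n X x χ)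
    (hs : SL cs h) (hN : Str cs h x) {k : ℤ} (hk : 0 < k) {u : Y} (hu : u ∈ RGD.Sup X (Lay cs h k))
    (hc : ∀ w ∈ RGD.Sup X (RGD.Pos cs h), β w = w → w * u = u * w) {a : I → ℤ} (ha : IsRoot cs h a)
    (hak : ht a = k) {i : I} (hi : IsRoot cs h (a + sr i)) : u ∈ RGD.Sup X (Lay cs h k \ {a}) := by
  by_contra hu'
  obtain ⟨b, hb⟩ : ∃ b, b = a + sr i := ⟨_, rfl⟩
  rw [← hb] at hi
  have hbk : ht b = k + 1 := by rw [hb, RGD.ht_add, ht_sr, hak]
  have hbP : b ∈ RGD.Pos cs h := lay_sub (k := k + 1) (by omega) ⟨hi, by omega⟩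
  have BM : Bet cs h (k + 1) (Lay cs h (k + 1) \ {b}) := (bet_lay (by omega)).diff hbk
  obtain ⟨e, he, hne⟩ := exists_eff R hs C.coord hN hk i hi hbk hu
  obtain ⟨e', he', -⟩ := exists_eff R hs C.coord hN hk (σ i) hi hbk hu
  have he0 : e ≠ 0 := hne a ha hb.symm hu'
  obtain ⟨c, hc0, hcx⟩ := Tau.root R C H.tau (isRoot_sr cs h i)
  have hcx' := hcx
  rw [sr_comp] at hcx'
  have hxU : ∀ (i : I) (a : F), x (sr i) a ∈ RGD.Sup X (RGD.Pos cs h) := fun i a =>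
    RGD.le_Sup (sr_mem_pos i) (((C.coord _ (isRoot_sr cs h i)).mem _).2 ⟨a, rfl⟩)
  have hxb : ∀ l, x b l ∈ X b := fun l => ((C.coord b hi).mem _).2 ⟨l, rfl⟩
  have hb0 : ∀ l, x b l ∈ RGD.Sup X (Lay cs h (k + 1) \ {b}) → l = 0 := by
    intro l hl
    have h1 := X_inf_Sup R hs BM hbP (fun h2 => h2.2 rfl) (hxb l) hl
    by_contra h2
    exact (C.coord b hi).ne_one h2 h1
  by_cases hσi : σ i = i
  · have hrσ : (sr i : I → ℤ) ∘ σ.symm = sr i := by rw [sr_comp, hσi]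
    have hcc := H.twice R C (isRoot_sr cs h i) hrσ hcx
    obtain ⟨θ, hθ⟩ := exists_trace H.ne (c := c)
    have hfix : β (x (sr i) (θ + c * τ θ)) = x (sr i) (θ + c * τ θ) := by
      rw [hcx', hσi]
      congr 1
      rw [map_add, mul_add, hcc]; ring
    have h1 := he (θ + c * τ θ)
    rw [commutatorElement_eq_one_iff_mul_comm.2 (hc _ (hxU _ _) hfix), one_mul] at h1
    have h2 := hb0 _ (by simpa using inv_mem h1)
    rcases mul_eq_zero.1 h2 with h3 | h3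
    · exact he0 h3
    · exact hθ h3
  · have hab : ∀ r, IsRoot cs h r → ∀ a ∈ X r, ∀ b ∈ X r, a * b = b * a := by
      intro r hr a ha b hb
      obtain ⟨l, rfl⟩ := ((C.coord r hr).mem a).1 ha
      obtain ⟨m, rfl⟩ := ((C.coord r hr).mem b).1 hb
      rw [← (C.coord r hr).add, ← (C.coord r hr).add, add_comm]
    have hkey : ∀ μ, e' * (c * τ μ) + e * μ = 0 := by
      intro μ
      apply hb0
      obtain ⟨s, hsm, hsf⟩ := H.exists_fix R C hs hcx' μ
      obtain ⟨q, hq⟩ : ∃ q, q = x (sr (σ i)) (c * τ μ) := ⟨_, rfl⟩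
      obtain ⟨r, hr⟩ : ∃ r, r = x (sr i) μ := ⟨_, rfl⟩
      rw [← hq, ← hr] at hsf
      have hqU : q ∈ RGD.Sup X (RGD.Pos cs h) := hq ▸ hxU _ _
      have hrU : r ∈ RGD.Sup X (RGD.Pos cs h) := hr ▸ hxU _ _
      have hsU : s ∈ RGD.Sup X (RGD.Pos cs h) := RGD.Sup_mono (lay_sub (by norm_num)) hsm
      have h1 : ⁅r * q * s, u⁆ = 1 :=
        commutatorElement_eq_one_iff_mul_comm.2 (hc _ (mul_mem (mul_mem hrU hqU) hsU) hsf)
      have m0 : ⁅s, u⁆ ∈ RGD.Sup X (Lay cs h (k + 1) \ {b}) := by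
        refine RGD.Sup_mono ?_ (comm_lay R hs hab (k := 2) (by norm_num) hk hsm hu)
        rintro z ⟨hz, hz2⟩
        refine ⟨⟨hz, by omega⟩, ?_⟩
        rintro rfl
        omega
      have m1 := he' (c * τ μ)
      have m2 := he μ
      rw [← hq] at m1
      rw [← hr] at m2
      have m3 : ⁅r, x b (e' * (c * τ μ))⁆ ∈ RGD.Sup X (Lay cs h (k + 1) \ {b}) := by
        have h2 := comm_lay R hs hab (k := 1) (l := k + 1) one_pos (by omega) (by rw [lay_one]; exact hrU)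
          (RGD.le_Sup (S := Lay cs h (k + 1)) ⟨hi, hbk.ge⟩ (hxb (e' * (c * τ μ))))
        refine RGD.Sup_mono ?_ h2
        rintro z ⟨hz, hz2⟩
        refine ⟨⟨hz, by omega⟩, ?_⟩
        rintro rfl
        omega
      rw [(C.coord b hi).add]
      obtain ⟨x', hx'⟩ : ∃ x', x' = x b (e' * (c * τ μ)) := ⟨_, rfl⟩
      obtain ⟨x'', hx''⟩ : ∃ x'', x'' = x b (e * μ) := ⟨_, rfl⟩
      have hx'U : x' ∈ RGD.Sup X (RGD.Pos cs h) := hx' ▸ RGD.le_Sup hbP (hxb _)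
      rw [← hx'] at m1 m3 ⊢
      rw [← hx''] at m2 ⊢
      have h3 : r * q * ⁅s, u⁆ * (r * q)⁻¹ * (r * (⁅q, u⁆ * x'⁻¹) * r⁻¹) * ⁅r, x'⁆ *
          (x' * (⁅r, u⁆ * x''⁻¹) * x'⁻¹) * (x' * x'') = 1 := by
        rw [← h1]
        simp only [commutatorElement_def]
        group
      rw [mul_eq_one_iff_inv_eq.1 h3 |>.symm]
      exact inv_mem (mul_mem (mul_mem (mul_mem (BM.conj_mem R hs (mul_mem hrU hqU) m0) (BM.conj_mem R hs hrU m1)) m3)
        (BM.conj_mem R hs hx'U m2))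
    have h1 := hkey 1
    rw [map_one, mul_one, mul_one] at h1
    apply H.ne
    ext μ
    have h2 := hkey μ
    have h3 : e' * c = e := by
      have : e' * c = -e := by linear_combination h1
      rw [this, CharTwo.neg_eq]
    have h4 : e * (τ μ + μ) = 0 := by
      rw [← h2, ← h3]; ring
    have h5 := (mul_eq_zero.1 h4).resolve_left he0
    have h6 : τ μ = -μ := by linear_combination h5
    rw [h6, CharTwo.neg_eq]
    rfl

omit H in
/-- Removing roots of height `k` one at a time. -/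
theorem mem_of_forall [Finite W] (R : RGD cs h p T n X) (hs : SL cs h) {k : ℤ} (hk : 0 < k) {u : Y}
    (hu : u ∈ RGD.Sup X (Lay cs h k))
    (hall : ∀ a, IsRoot cs h a → ht a = k → u ∈ RGD.Sup X (Lay cs h k \ {a})) :
    u ∈ RGD.Sup X (Lay cs h (k + 1)) := by
  have hfin : {a | IsRoot cs h a ∧ ht a = k}.Finite :=
    (RGD.finite_roots (cs := cs) (h := h)).subset fun x hx => hx.1
  have key : ∀ E : Set (I → ℤ), E.Finite → E ⊆ {a | IsRoot cs h a ∧ ht a = k} →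
      Bet cs h k (Lay cs h k \ E) ∧ u ∈ RGD.Sup X (Lay cs h k \ E) := by
    intro E hE
    induction E, hE using Set.Finite.induction_on with
    | empty =>
      intro _
      rw [Set.sdiff_empty]
      exact ⟨bet_lay hk, hu⟩
    | @insert a E ha hE ih =>
      intro hsub
      obtain ⟨B, h1⟩ := ih ((Set.subset_insert a E).trans hsub)
      obtain ⟨ha1, ha2⟩ := hsub (Set.mem_insert a E)
      have h2 := hall a ha1 ha2
      have B2 : Bet cs h k (Lay cs h k \ {a}) := (bet_lay hk).diff ha2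
      have h3 : u ∈ RGD.Sup X (Lay cs h k \ E) ⊓ RGD.Sup X (Lay cs h k \ {a}) := ⟨h1, h2⟩
      rw [Sup_inf_Sup R hs B B2] at h3
      have e : (Lay cs h k \ E) ∩ (Lay cs h k \ {a}) = Lay cs h k \ insert a E := by
        ext z
        simp only [Set.mem_inter_iff, Set.mem_sdiff, Set.mem_singleton_iff, Set.mem_insert_iff]
        (clear * -; tauto)
      rw [e] at h3
      refine ⟨?_, h3⟩
      have e2 : Lay cs h k \ insert a E = (Lay cs h k \ E) \ {a} := by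
        ext z
        simp only [Set.mem_sdiff, Set.mem_singleton_iff, Set.mem_insert_iff]
        (clear * -; tauto)
      rw [e2]
      exact B.diff ha2
  obtain ⟨-, h1⟩ := key _ hfin le_rfl
  refine RGD.Sup_mono ?_ h1
  rintro z ⟨hz, hz2⟩
  refine ⟨hz.1, ?_⟩
  have h2 := hz.2
  rcases lt_or_eq_of_le h2 with h3 | h3
  · omega
  · exact absurd ⟨hz.1, h3.symm⟩ hz2

end

/-- the highest root -/
structure Highest (cs : CoxeterSystem M W) (h : IsCartan M A) (ρ : I → ℤ) : Prop where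
  pos : ρ ∈ RGD.Pos cs h
  up : ∀ a ∈ RGD.Pos cs h, a ≠ ρ → ∃ i, IsRoot cs h (a + sr i)

theorem Highest.ht_le [Finite W] {ρ : I → ℤ} (H : Highest cs h ρ) {a : I → ℤ} (ha : a ∈ RGD.Pos cs h) :
    ht a ≤ ht ρ ∧ (ht a = ht ρ → a = ρ) := by
  have hfin := RGD.finite_roots (cs := cs) (h := h)
  obtain ⟨m, hm⟩ : ∃ m : ℤ, ∀ a, IsRoot cs h a → ht a ≤ m := by
    obtain ⟨m, hm⟩ := (hfin.image ht).bddAbove
    exact ⟨m, fun a ha => hm ⟨a, ha, rfl⟩⟩
  have key : ∀ (d : ℕ) (a : I → ℤ), a ∈ RGD.Pos cs h → m - ht a = d → ht a ≤ ht ρ ∧ (ht a = ht ρ → a = ρ) := by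
    intro d
    induction d using Nat.strong_induction_on with
    | _ d ih =>
    intro a ha hd
    by_cases haρ : a = ρ
    · subst haρ
      exact ⟨le_rfl, fun _ => rfl⟩
    · obtain ⟨i, hi⟩ := H.up a ha haρ
      have h1 : ht (a + sr i) = ht a + 1 := by rw [RGD.ht_add, ht_sr]
      have h2 := hm _ hi
      have h3 := RGD.ht_pos ha.1 ha.2
      have hP : a + sr i ∈ RGD.Pos cs h := ⟨hi, pos_of_ht hi (by omega)⟩
      obtain ⟨h4, -⟩ := ih (d - 1) (by omega) _ hP (by omega)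
      exact ⟨by omega, fun h5 => by omega⟩
  exact key (m - ht a).toNat a ha (by
    have := hm a ha.1
    omega)

section

variable {β : MulAut Y} {σ : Equiv.Perm I} {τ : F ≃+* F} (H : Fram T X χ A β σ τ)

include H

/-- **`Z(C_U(β)) ≤ X ρ`** -/
theorem Fram.center [CharP F 2] (R : RGD cs h p T n X) [Finite W] [Nonempty I] (C : Coords cs h T n X x χ)
    (hs : SL cs h) (hN : Str cs h x) {ρ : I → ℤ} (hρ : Highest cs h ρ) {u : Y} (hu : u ∈ RGD.Sup X (RGD.Pos cs h))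
    (hc : ∀ w ∈ RGD.Sup X (RGD.Pos cs h), β w = w → w * u = u * w) : u ∈ X ρ := by
  have hpos := RGD.ht_pos hρ.pos.1 hρ.pos.2
  have key : ∀ d : ℕ, (d : ℤ) + 1 ≤ ht ρ → u ∈ RGD.Sup X (Lay cs h (d + 1)) := by
    intro d
    induction d with
    | zero =>
      intro _
      rw [Nat.cast_zero, zero_add, lay_one]
      exact hu
    | succ d ih =>
      intro hd
      have h1 := ih (by push_cast at hd; omega)
      have h2 : u ∈ RGD.Sup X (Lay cs h ((d : ℤ) + 1 + 1)) := by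
        refine mem_of_forall R hs (by omega) h1 fun a ha hak => ?_
        have haP : a ∈ RGD.Pos cs h := ⟨ha, pos_of_ht ha (by omega)⟩
        have haρ : a ≠ ρ := by
          rintro rfl
          push_cast at hd
          omega
        obtain ⟨i, hi⟩ := hρ.up a haP haρ
        exact H.step R C hs hN (by omega) h1 hc ha hak hi
      rw [Nat.cast_succ]
      exact h2
  have h1 := key (ht ρ - 1).toNat (by omega)
  have h2 : Lay cs h (((ht ρ - 1).toNat : ℤ) + 1) ⊆ {ρ} := by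
    rintro z ⟨hz, hz2⟩
    have hzP : z ∈ RGD.Pos cs h := ⟨hz, pos_of_ht hz (by omega)⟩
    obtain ⟨h3, h4⟩ := hρ.ht_le hzP
    exact h4 (by omega)
  rw [← Sup_one (X := X) ρ]
  exact RGD.Sup_mono h2 h1

end

end Cfsg.Agent.KFacts.RgdFld.Center

end

-- merged: Cfsg.Agent.KFacts.RgdFld.SigTau
section

/-!
# Frame automorphisms which are trivial on `C_U(β)` modulo `[U, U]`

* `Cmp` : the components of an element of `U` modulo `[U, U]`;
* `Fram.sig_tau` : such an automorphism has `(σ₁, τ₁) = (1, 1)` or `(σ, τ)`.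
-/

set_option autoImplicit false
set_option linter.unusedSectionVars false

namespace Cfsg.Agent.KFacts.RgdFld.SigTau

open CoxeterSystem Cfsg.Agent.ChevalleyStructure.CoxeterGeom Cfsg.Agent.Tits.Roots Cfsg.Agent.Tits.Core
  Cfsg.Agent.Tits.Exchange Cfsg.Agent.Nodes.Reps Cfsg.Agent.Nodes.BNOf Cfsg.Agent.Nodes.StabComb
  Cfsg.Agent.Nodes.Bruhat Cfsg.Agent.Nodes.OppDec Cfsg.Agent.Nodes.PosPair Cfsg.Agent.Nodes.Coroot
  Cfsg.Agent.KFacts.RgdSL Cfsg.Agent.KFacts.RgdAut Cfsg.Agent.KFacts.RgdDiag Cfsg.Agent.KFacts.RgdFixU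
  Cfsg.Agent.KFacts.RgdFld.Layer Cfsg.Agent.KFacts.RgdField Cfsg.Agent.KFacts.RgdTau Cfsg.Agent.KFacts.RgdFld.Coh
  Cfsg.Agent.KFacts.RgdFld.Center
open scoped commutatorElement

variable {I W Y : Type*} [Fintype I] [DecidableEq I] [Group W] [Group Y] {M : CoxeterMatrix I}
  {cs : CoxeterSystem M W} {A : I → I → ℤ} {h : IsCartan M A} {p : ℕ} {T : Subgroup Y} {n : I → Y}
  {X : (I → ℤ) → Subgroup Y} {F : Type*} [Field F] {x : (I → ℤ) → F → Y} {χ : (I → ℤ) → Y → F}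

/-- The component of `w` at the node `l`. -/
def Cmp (cs : CoxeterSystem M W) (h : IsCartan M A) (X : (I → ℤ) → Subgroup Y) (x : (I → ℤ) → F → Y) (l : I)
    (w : Y) (a : F) : Prop := (x (sr l) a)⁻¹ * w ∈ RGD.Sup X (RGD.PosNe cs h l)

/-- An automorphism of a field which is trivial on the fixed field of an involution. -/
theorem eq_one_or_eq {τ τ₁ : F ≃+* F} (hτ2 : ∀ a, τ (τ a) = a) (hτ : τ ≠ 1) (h1 : ∀ a, τ a = a → τ₁ a = a) :
    τ₁ = 1 ∨ τ₁ = τ := by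
  obtain ⟨θ, hθ⟩ : ∃ θ, τ θ ≠ θ := by
    by_contra hcon
    push Not at hcon
    exact hτ (RingEquiv.ext hcon)
  have h0 : θ - τ θ ≠ 0 := fun h2 => hθ (sub_eq_zero.1 h2).symm
  have hroot : (τ₁ θ - θ) * (τ₁ θ - τ θ) = 0 := by
    have h2 := h1 (θ + τ θ) (by rw [map_add, hτ2]; ring)
    have h3 := h1 (θ * τ θ) (by rw [map_mul, hτ2]; ring)
    rw [map_add] at h2
    rw [map_mul] at h3
    have h4 : τ₁ (τ θ) = θ + τ θ - τ₁ θ := by linear_combination h2
    rw [h4] at h3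
    linear_combination -h3
  -- decomposition over the fixed field
  have hdec : ∀ a, ∃ u v, τ u = u ∧ τ v = v ∧ a = u + v * θ := by
    intro a
    refine ⟨a - (a - τ a) / (θ - τ θ) * θ, (a - τ a) / (θ - τ θ), ?_, ?_, by ring⟩
    · have h2 : τ ((a - τ a) / (θ - τ θ)) = (a - τ a) / (θ - τ θ) := by
        rw [map_div₀, map_sub, map_sub, hτ2, hτ2, ← neg_sub a, ← neg_sub θ, neg_div_neg_eq]
      rw [map_sub, map_mul, h2]
      field_simp
      ring
    · rw [map_div₀, map_sub, map_sub, hτ2, hτ2, ← neg_sub a, ← neg_sub θ, neg_div_neg_eq]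
  rcases mul_eq_zero.1 hroot with h2 | h2
  · left
    ext a
    obtain ⟨u, v, hu, hv, rfl⟩ := hdec a
    rw [map_add, map_mul, h1 u hu, h1 v hv, sub_eq_zero.1 h2]
    rfl
  · right
    ext a
    obtain ⟨u, v, hu, hv, rfl⟩ := hdec a
    rw [map_add, map_mul, h1 u hu, h1 v hv, sub_eq_zero.1 h2, map_add, map_mul, hu, hv]

section

variable (R : RGD cs h p T n X) [Finite W] (C : Coords cs h T n X x χ)

include R C

theorem x_mem (i : I) (a : F) : x (sr i) a ∈ X (sr i) := ((C.coord _ (isRoot_sr cs h i)).mem _).2 ⟨a, rfl⟩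

theorem x_mem_U (i : I) (a : F) : x (sr i) a ∈ RGD.Sup X (RGD.Pos cs h) :=
  RGD.le_Sup (sr_mem_pos i) (x_mem R C i a)

theorem x_mem_ne {i l : I} (hil : i ≠ l) (a : F) : x (sr i) a ∈ RGD.Sup X (RGD.PosNe cs h l) := by
  refine RGD.le_Sup (S := RGD.PosNe cs h l) ⟨isRoot_sr cs h i, sr_nonneg i, fun h1 => ?_⟩ (x_mem R C i a)
  have h2 := congrFun h1 i
  rw [sr_self, sr_ne hil] at h2
  exact one_ne_zero h2

theorem lay_two_le (l : I) : RGD.Sup X (Lay cs h 2) ≤ RGD.Sup X (RGD.PosNe cs h l) := by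
  refine RGD.Sup_mono fun z hz => ⟨hz.1, (lay_sub (by norm_num) hz).2, ?_⟩
  rintro rfl
  have h1 := hz.2
  rw [ht_sr] at h1
  omega

theorem Cmp.unique {l : I} {w : Y} {a b : F} (h1 : Cmp cs h X x l w a) (h2 : Cmp cs h X x l w b) : a = b := by
  have hx := C.coord _ (isRoot_sr cs h l)
  have h3 : x (sr l) (a - b) ∈ RGD.Sup X (RGD.PosNe cs h l) := by
    have e : x (sr l) (a - b) = (x (sr l) a * (x (sr l) b)⁻¹) := by
      rw [eq_mul_inv_iff_mul_eq, ← hx.add, sub_add_cancel]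
    have hU : x (sr l) a ∈ Subgroup.normalizer (RGD.Sup X (RGD.PosNe cs h l) : Set Y) :=
      U_le_normalizer_V R l (x_mem_U R C l a)
    have h4 : (x (sr l) a)⁻¹ * w * ((x (sr l) b)⁻¹ * w)⁻¹ ∈ RGD.Sup X (RGD.PosNe cs h l) := mul_mem h1 (inv_mem h2)
    have h5 := (Subgroup.mem_normalizer_iff.1 hU _).1 h4
    have e2 : x (sr l) a * ((x (sr l) a)⁻¹ * w * ((x (sr l) b)⁻¹ * w)⁻¹) * (x (sr l) a)⁻¹ =
        x (sr l) b * (x (sr l) a)⁻¹ := by group
    rw [e2] at h5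
    have h6 := inv_mem h5
    rw [mul_inv_rev, inv_inv] at h6
    rwa [e]
  have h4 := eq_one_of_mem_PosNe R (x_mem R C l _) h3
  by_contra hab
  exact hx.ne_one (sub_ne_zero.2 hab) h4

theorem Cmp.mul {l : I} {w w' : Y} {a a' : F} (h1 : Cmp cs h X x l w a) (h2 : Cmp cs h X x l w' a') :
    Cmp cs h X x l (w * w') (a + a') := by
  have hx := C.coord _ (isRoot_sr cs h l)
  have hU : x (sr l) a' ∈ Subgroup.normalizer (RGD.Sup X (RGD.PosNe cs h l) : Set Y) :=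
    U_le_normalizer_V R l (x_mem_U R C l a')
  have h3 := (Subgroup.mem_normalizer_iff.1 (inv_mem hU) _).1 h1
  have h4 := mul_mem h3 h2
  unfold Cmp
  have e : (x (sr l) (a + a'))⁻¹ * (w * w') =
      (x (sr l) a')⁻¹ * ((x (sr l) a)⁻¹ * w) * ((x (sr l) a')⁻¹)⁻¹ * ((x (sr l) a')⁻¹ * w') := by
    rw [hx.add]; group
  rw [e]
  exact h4

theorem cmp_self (l : I) (a : F) : Cmp cs h X x l (x (sr l) a) a := by
  unfold Cmp
  rw [inv_mul_cancel]
  exact one_mem _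

theorem cmp_of_mem {l : I} {w : Y} (hw : w ∈ RGD.Sup X (RGD.PosNe cs h l)) : Cmp cs h X x l w 0 := by
  unfold Cmp
  rw [(C.coord _ (isRoot_sr cs h l)).zero, inv_one, one_mul]
  exact hw

theorem map_lay {γ : MulAut Y} {σ₁ : Equiv.Perm I} {τ₁ : F ≃+* F} (S₁ : Tau T X χ A γ σ₁ τ₁) {k : ℤ} {s : Y}
    (hs : s ∈ RGD.Sup X (Lay cs h k)) : γ s ∈ RGD.Sup X (Lay cs h k) := by
  have h1 : RGD.Sup X (Lay cs h k) ≤ (RGD.Sup X (Lay cs h k)).comap γ.toMonoidHom := by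
    refine RGD.Sup_le fun r hr y hy => ?_
    refine RGD.le_Sup (S := Lay cs h k) ⟨isRoot_comp (S₁.diag.matrix R) S₁.cartan hr.1, ?_⟩
      ((Diag.root_comp R S₁.diag S₁.cartan hr.1 y).2 hy)
    rw [ht_comp]
    exact hr.2
  exact h1 hs

end

section

variable {β : MulAut Y} {σ : Equiv.Perm I} {τ : F ≃+* F} (H : Fram T X χ A β σ τ)

include H

theorem Fram.sig_tau [CharP F 2] (R : RGD cs h p T n X) [Finite W] [Nonempty I] (C : Coords cs h T n X x χ)
    (hs : SL cs h) {γ : MulAut Y} {σ₁ : Equiv.Perm I} {τ₁ : F ≃+* F} (S₁ : Tau T X χ A γ σ₁ τ₁)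
    (hγ : ∀ w ∈ RGD.Sup X (RGD.Pos cs h), β w = w → γ w * w⁻¹ ∈ RGD.Sup X (Lay cs h 2)) :
    (σ₁ = 1 ∧ τ₁ = 1) ∨ (σ₁ = σ ∧ τ₁ = τ) := by
  have hcmp : ∀ {l w a}, w ∈ RGD.Sup X (RGD.Pos cs h) → β w = w → Cmp cs h X x l w a → Cmp cs h X x l (γ w) a := by
    intro l w a hw hβw h1
    have h2 := (cmp_of_mem R C (lay_two_le R C l (hγ w hw hβw))).mul R C h1
    rwa [inv_mul_cancel_right, zero_add] at h2
  -- the nodes fixed by `σ`
  have hfix : ∀ i, σ i = i → σ₁ i = i ∧ ∀ f, τ f = f → τ₁ f = f := by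
    intro i hi
    obtain ⟨c, -, hcx⟩ := Tau.root R C H.tau (isRoot_sr cs h i)
    have hrσ : (sr i : I → ℤ) ∘ σ.symm = sr i := by rw [sr_comp, hi]
    have hcc := H.twice R C (isRoot_sr cs h i) hrσ hcx
    rw [sr_comp, hi] at hcx
    obtain ⟨θ, hθ⟩ := exists_trace H.ne (c := c)
    obtain ⟨m, hm⟩ : ∃ m, m = θ + c * τ θ := ⟨_, rfl⟩
    rw [← hm] at hθ
    have hm2 : c * τ m = m := by
      rw [hm, map_add, mul_add, hcc]; ring
    obtain ⟨c₁, hc₁, hcx₁⟩ := Tau.root R C S₁ (isRoot_sr cs h i)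
    rw [sr_comp] at hcx₁
    have hw : ∀ f, τ f = f → β (x (sr i) (f * m)) = x (sr i) (f * m) := by
      intro f hf
      rw [hcx, map_mul, hf]
      congr 1
      rw [← mul_assoc, mul_comm c f, mul_assoc, hm2]
    have h1 : σ₁ i = i := by
      by_contra hne
      have h2 := hcmp (x_mem_U R C i _) (hw 1 (map_one τ)) (cmp_self R C i _)
      rw [hcx₁] at h2
      have h3 := cmp_of_mem R C (x_mem_ne R C hne (c₁ * τ₁ (1 * m)))
      have h4 := h2.unique R C h3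
      rw [one_mul] at h4
      exact hθ h4
    refine ⟨h1, fun f hf => ?_⟩
    rw [h1] at hcx₁
    have key : ∀ f, τ f = f → c₁ * τ₁ (f * m) = f * m := by
      intro f hf
      have h2 := hcmp (x_mem_U R C i _) (hw f hf) (cmp_self R C i _)
      rw [hcx₁] at h2
      exact (cmp_self R C i _).unique R C h2
    have h2 := key 1 (map_one τ)
    rw [one_mul] at h2
    have h3 := key f hf
    rw [map_mul, ← mul_assoc, mul_comm c₁, mul_assoc, h2] at h3
    exact mul_right_cancel₀ hθ h3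
  -- the other nodes
  have hmov : ∀ i, σ i ≠ i → (σ₁ i = i ∧ τ₁ = 1) ∨ (σ₁ i = σ i ∧ τ₁ = τ) := by
    intro i hi
    obtain ⟨c, hc0, hcx⟩ := Tau.root R C H.tau (isRoot_sr cs h i)
    rw [sr_comp] at hcx
    obtain ⟨c₁, hc₁, hcx₁⟩ := Tau.root R C S₁ (isRoot_sr cs h i)
    rw [sr_comp] at hcx₁
    obtain ⟨c₂, hc₂, hcx₂⟩ := Tau.root R C S₁ (isRoot_sr cs h (σ i))
    rw [sr_comp] at hcx₂
    have hne : σ₁ (σ i) ≠ σ₁ i := fun h1 => hi (σ₁.injective h1)
    have key : ∀ μ, ∀ a, (∀ s ∈ RGD.Sup X (Lay cs h 2),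
        Cmp cs h X x (σ₁ i) (x (sr i) μ * x (sr (σ i)) (c * τ μ) * s) a) → c₁ * τ₁ μ = a := by
      intro μ a ha
      obtain ⟨s, hsm, hsf⟩ := H.exists_fix R C hs hcx μ
      have hwU : x (sr i) μ * x (sr (σ i)) (c * τ μ) * s ∈ RGD.Sup X (RGD.Pos cs h) :=
        mul_mem (mul_mem (x_mem_U R C _ _) (x_mem_U R C _ _)) (RGD.Sup_mono (lay_sub (by norm_num)) hsm)
      have h1 := hcmp hwU hsf (ha s hsm)
      rw [map_mul, map_mul, hcx₁, hcx₂] at h1
      have h2 := ((cmp_self R C (σ₁ i) (c₁ * τ₁ μ)).mul R C (cmp_of_mem R C (x_mem_ne R C hne (c₂ * τ₁ (c * τ μ))))).mul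
        R C (cmp_of_mem R C (lay_two_le R C (σ₁ i) (map_lay R C S₁ hsm)))
      rw [add_zero, add_zero] at h2
      exact h2.unique R C h1
    have hs0 : ∀ l s, s ∈ RGD.Sup X (Lay cs h 2) → Cmp cs h X x l s 0 := fun l s hsm =>
      cmp_of_mem R C (lay_two_le R C l hsm)
    by_cases h1 : σ₁ i = i
    · left
      refine ⟨h1, ?_⟩
      have h2 : ∀ μ, c₁ * τ₁ μ = μ := by
        intro μ
        refine key μ μ fun s hsm => ?_
        rw [h1]
        have h3 := ((cmp_self R C i μ).mul R C (cmp_of_mem R C (x_mem_ne R C hi (c * τ μ)))).mul R C (hs0 i s hsm)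
        rwa [add_zero, add_zero] at h3
      have h3 : c₁ = 1 := by
        have := h2 1
        rwa [map_one, mul_one] at this
      ext μ
      have := h2 μ
      rw [h3, one_mul] at this
      rw [this]
      rfl
    by_cases h2 : σ₁ i = σ i
    · right
      refine ⟨h2, ?_⟩
      have h3 : ∀ μ, c₁ * τ₁ μ = c * τ μ := by
        intro μ
        refine key μ _ fun s hsm => ?_
        rw [h2]
        have h3 := ((cmp_of_mem R C (x_mem_ne R C (Ne.symm hi) μ)).mul R C (cmp_self R C (σ i) (c * τ μ))).mul R C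
          (hs0 _ s hsm)
        rwa [zero_add, add_zero] at h3
      have h4 : c₁ = c := by
        have := h3 1
        rwa [map_one, map_one, mul_one, mul_one] at this
      ext μ
      have := h3 μ
      rw [h4] at this
      exact mul_left_cancel₀ hc0 this
    · exfalso
      have h3 : c₁ * τ₁ 1 = 0 := by
        refine key 1 0 fun s hsm => ?_
        have h3 := ((cmp_of_mem R C (x_mem_ne R C (Ne.symm h1) 1)).mul R C
          (cmp_of_mem R C (x_mem_ne R C (Ne.symm h2) (c * τ 1)))).mul R C (hs0 _ s hsm)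
        rwa [add_zero, add_zero] at h3
      rw [map_one, mul_one] at h3
      exact hc₁ h3
  by_cases hσ : ∀ i, σ i = i
  · have hσ1 : σ = 1 := Equiv.ext hσ
    obtain ⟨i₀⟩ := ‹Nonempty I›
    have h1 : σ₁ = 1 := Equiv.ext fun i => (hfix i (hσ i)).1
    have hτ2 : ∀ a, τ (τ a) = a := by
      have h2 := H.tau.mul H.tau
      have h3 : β * β = 1 := MulEquiv.ext fun y => H.sq y
      rw [h3] at h2
      have h4 := (Tau.unique R C h2 Tau.one).2
      intro a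
      exact congrArg (fun g : F ≃+* F => g a) h4
    rcases eq_one_or_eq hτ2 H.ne (hfix i₀ (hσ i₀)).2 with h2 | h2
    · exact Or.inl ⟨h1, h2⟩
    · exact Or.inr ⟨h1.trans hσ1.symm, h2⟩
  · push Not at hσ
    obtain ⟨i₀, hi₀⟩ := hσ
    rcases hmov i₀ hi₀ with ⟨-, h1⟩ | ⟨-, h1⟩
    · left
      refine ⟨Equiv.ext fun i => ?_, h1⟩
      by_cases hi : σ i = i
      · exact (hfix i hi).1
      · rcases hmov i hi with ⟨h2, -⟩ | ⟨-, h2⟩
        · exact h2
        · exact absurd (h2.symm.trans h1) H.ne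
    · right
      refine ⟨Equiv.ext fun i => ?_, h1⟩
      by_cases hi : σ i = i
      · rw [(hfix i hi).1, hi]
      · rcases hmov i hi with ⟨-, h2⟩ | ⟨h2, -⟩
        · exact absurd (h1.symm.trans h2) H.ne
        · exact h2

end

end Cfsg.Agent.KFacts.RgdFld.SigTau

end

-- merged: Cfsg.Agent.KFacts.RgdFld.Der
section

/-!
# `C_{X ρ}(β) ≤ [C_U(β), C_U(β)]`
-/

set_option autoImplicit false
set_option linter.unusedSectionVars false

namespace Cfsg.Agent.KFacts.RgdFld.Der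

open CoxeterSystem Cfsg.Agent.ChevalleyStructure.CoxeterGeom Cfsg.Agent.Tits.Roots Cfsg.Agent.Tits.Core
  Cfsg.Agent.Tits.Exchange Cfsg.Agent.Nodes.Reps Cfsg.Agent.Nodes.BNOf Cfsg.Agent.Nodes.StabComb
  Cfsg.Agent.Nodes.Bruhat Cfsg.Agent.Nodes.OppDec Cfsg.Agent.Nodes.PosPair Cfsg.Agent.Nodes.Coroot
  Cfsg.Agent.KFacts.RgdSL Cfsg.Agent.KFacts.RgdAut Cfsg.Agent.KFacts.RgdDiag
  Cfsg.Agent.KFacts.RgdFld.Layer Cfsg.Agent.KFacts.RgdField Cfsg.Agent.KFacts.RgdTau Cfsg.Agent.KFacts.RgdFld.Coh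
  Cfsg.Agent.KFacts.RgdFld.Center
open scoped commutatorElement

variable {I W Y : Type*} [Fintype I] [DecidableEq I] [Group W] [Group Y] {M : CoxeterMatrix I}
  {cs : CoxeterSystem M W} {A : I → I → ℤ} {h : IsCartan M A} {p : ℕ} {T : Subgroup Y} {n : I → Y}
  {X : (I → ℤ) → Subgroup Y} {F : Type*} [Field F] {x : (I → ℤ) → F → Y} {χ : (I → ℤ) → Y → F}

/-- `C_U(β)` -/
def CU (cs : CoxeterSystem M W) (h : IsCartan M A) (X : (I → ℤ) → Subgroup Y) (β : MulAut Y) : Subgroup Y where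
  carrier := {w | w ∈ RGD.Sup X (RGD.Pos cs h) ∧ β w = w}
  mul_mem' := fun ha hb => ⟨mul_mem ha.1 hb.1, by rw [map_mul, ha.2, hb.2]⟩
  one_mem' := ⟨one_mem _, map_one β⟩
  inv_mem' := fun ha => ⟨inv_mem ha.1, by rw [map_inv, ha.2]⟩

theorem mem_CU {β : MulAut Y} {w : Y} : w ∈ CU cs h X β ↔ w ∈ RGD.Sup X (RGD.Pos cs h) ∧ β w = w := Iff.rfl

theorem cpr_sub' [Finite W] {x y z : I → ℤ} (hz : IsRoot cs h z) :
    cpr cs h (x - y) z = cpr cs h x z - cpr cs h y z := by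
  rw [sub_eq_add_neg, cpr_add cs h _ _ hz, cpr_neg cs h _ hz]; ring

theorem ht_ne_zero {a : I → ℤ} (ha : IsRoot cs h a) : ht a ≠ 0 := by
  rcases ha.pos_or_neg with h1 | h1
  · exact (RGD.ht_pos ha h1).ne'
  · have h2 := RGD.ht_pos ha.neg (neg_nonneg.2 h1)
    have h3 : ht (-a) = -ht a := by
      have := RGD.ht_smul (-1) a
      rw [neg_one_smul] at this
      rw [this]; ring
    omega

theorem ab_of_coords (C : ∀ r, IsRoot cs h r → Coord T (X r) (x r) (χ r)) : ∀ r, IsRoot cs h r →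
    ∀ a ∈ X r, ∀ b ∈ X r, a * b = b * a := by
  intro r hr a ha b hb
  obtain ⟨l, rfl⟩ := ((C r hr).mem a).1 ha
  obtain ⟨m, rfl⟩ := ((C r hr).mem b).1 hb
  rw [← (C r hr).add, ← (C r hr).add, add_comm]

/-- `X ρ` is central in `U`. -/
theorem central [Finite W] (R : RGD cs h p T n X) (hs : SL cs h)
    (hab : ∀ r, IsRoot cs h r → ∀ a ∈ X r, ∀ b ∈ X r, a * b = b * a) {ρ : I → ℤ} (hρ : Highest cs h ρ) {z u : Y}
    (hz : z ∈ X ρ) (hu : u ∈ RGD.Sup X (RGD.Pos cs h)) : z * u = u * z := by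
  have hpos := RGD.ht_pos hρ.pos.1 hρ.pos.2
  have h1 := comm_lay R hs hab (k := ht ρ) (l := 1) hpos one_pos
    (RGD.le_Sup (S := Lay cs h (ht ρ)) ⟨hρ.pos.1, le_rfl⟩ hz) (by rw [lay_one]; exact hu)
  have h2 : Lay cs h (ht ρ + 1) = ∅ := by
    rw [Set.eq_empty_iff_forall_notMem]
    rintro a ⟨ha, ha2⟩
    have h3 := (hρ.ht_le ⟨ha, pos_of_ht ha (by omega)⟩).1
    omega
  rw [h2, Sup_empty, Subgroup.mem_bot] at h1
  exact commutatorElement_eq_one_iff_mul_comm.1 h1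

section

variable {β : MulAut Y} {σ : Equiv.Perm I} {τ : F ≃+* F} (H : Fram T X χ A β σ τ)

include H

theorem Fram.rho_comp (R : RGD cs h p T n X) [Finite W] {ρ : I → ℤ} (hρ : Highest cs h ρ) : ρ ∘ σ.symm = ρ := by
  have h1 := isRoot_comp (H.tau.diag.matrix R) H.tau.cartan hρ.pos.1
  have h2 : ht (ρ ∘ σ.symm) = ht ρ := ht_comp ρ
  have h3 := RGD.ht_pos hρ.pos.1 hρ.pos.2
  exact (hρ.ht_le ⟨h1, pos_of_ht h1 (by omega)⟩).2 h2

/-- The fixed points on a root group fixed by `β`. -/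
theorem Fram.exists_fixed (R : RGD cs h p T n X) [Finite W] [Nonempty I] [CharP F 2] (C : Coords cs h T n X x χ)
    {r : I → ℤ} (hr : IsRoot cs h r) (hrσ : r ∘ σ.symm = r) : ∃ c m : F, c ≠ 0 ∧ m ≠ 0 ∧ c * τ m = m ∧
      ∀ a, β (x r a) = x r (c * τ a) := by
  obtain ⟨c, hc, hcx⟩ := Tau.root R C H.tau hr
  have hcc := H.twice R C hr hrσ hcx
  rw [hrσ] at hcx
  obtain ⟨θ, hθ⟩ := exists_trace H.ne (c := c)
  exact ⟨c, θ + c * τ θ, hc, hθ, by rw [map_add, mul_add, hcc]; ring, hcx⟩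

/-- **`C_{X ρ}(β) ≤ [C_U(β), C_U(β)]`** -/
theorem Fram.der (R : RGD cs h p T n X) [Finite W] [Nonempty I] [CharP F 2] (C : Coords cs h T n X x χ)
    (hs : SL cs h) (hN : Str cs h x) {ρ : I → ℤ} (hρ : Highest cs h ρ) {i : I} (hi : cpr cs h ρ (sr i) = 1)
    (hσi : σ i = i ∨ cpr cs h (sr i) (sr (σ i)) = 0) {z : Y} (hz : z ∈ X ρ) (hβz : β z = z) :
    z ∈ ⁅CU cs h X β, CU cs h X β⁆ := by
  have hab := ab_of_coords C.coord
  have hri := isRoot_sr cs h i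
  have hρσ := Fram.rho_comp H R hρ
  have hb : IsRoot cs h (ρ - sr i) := isRoot_sub hρ.pos.1 hri hi
  have hbk : ht (ρ - sr i) + 1 = ht ρ := by
    have h1 := RGD.ht_add (ρ - sr i) (sr i)
    rw [sub_add_cancel, ht_sr] at h1
    exact h1.symm
  have hbP : ρ - sr i ∈ RGD.Pos cs h := by
    refine ⟨hb, pos_of_ht hb ?_⟩
    have h1 := ht_ne_zero hb
    have h2 := RGD.ht_pos hρ.pos.1 hρ.pos.2
    omega
  have hcab : cpr cs h (sr i) (ρ - sr i) = -1 :=
    cpr_of_add hs (sr_mem_pos i) hbP (by rw [add_sub_cancel]; exact hρ.pos.1)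
  obtain ⟨N, hN0, hNe⟩ := hN _ _ hri hb hcab
  rw [add_sub_cancel] at hNe
  obtain ⟨cρ, -, hcρ⟩ := Tau.root R C H.tau hρ.pos.1
  rw [hρσ] at hcρ
  obtain ⟨l, rfl⟩ := ((C.coord ρ hρ.pos.1).mem z).1 hz
  have hl : cρ * τ l = l := by
    rw [hcρ] at hβz
    exact (C.coord ρ hρ.pos.1).inj hβz
  have hxb : ∀ {r : I → ℤ}, r ∈ RGD.Pos cs h → ∀ a, x r a ∈ RGD.Sup X (RGD.Pos cs h) := fun hr a =>
    RGD.le_Sup hr (((C.coord _ hr.1).mem _).2 ⟨a, rfl⟩)
  by_cases hfi : σ i = i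
  · have h1 : (sr i : I → ℤ) ∘ σ.symm = sr i := by rw [sr_comp, hfi]
    have h2 : (ρ - sr i) ∘ σ.symm = ρ - sr i := by
      show ρ ∘ σ.symm - sr i ∘ σ.symm = _
      rw [hρσ, h1]
    obtain ⟨ca, ma, -, hma, hca, hcax⟩ := Fram.exists_fixed H R C hri h1
    obtain ⟨cb, mb, -, hmb, hcb, hcbx⟩ := Fram.exists_fixed H R C hb h2
    have h3 : cρ * τ (N * ma * mb) = N * ma * mb := by
      have h4 := congrArg β (hNe ma mb)
      rw [map_commutatorElement, hcax, hcbx, hca, hcb, hNe, hcρ] at h4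
      exact ((C.coord ρ hρ.pos.1).inj h4).symm
    have hk : N * ma * mb ≠ 0 := mul_ne_zero (mul_ne_zero hN0 hma) hmb
    have hcρ0 : cρ ≠ 0 := by
      rintro rfl
      rw [zero_mul] at h3
      exact hk h3.symm
    obtain ⟨f, hf⟩ : ∃ f, f = l / (N * ma * mb) := ⟨_, rfl⟩
    have hτf : τ f = f := by
      rw [hf, map_div₀]
      have h4 : τ (N * ma * mb) ≠ 0 := fun h4 => hk ((map_eq_zero τ).1 h4)
      rw [div_eq_div_iff h4 hk]
      apply mul_left_cancel₀ hcρ0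
      calc cρ * (τ l * (N * ma * mb)) = cρ * τ l * (N * ma * mb) := by ring
        _ = l * (cρ * τ (N * ma * mb)) := by rw [hl, h3]
        _ = cρ * (l * τ (N * ma * mb)) := by ring
    have h4 : x ρ l = ⁅x (sr i) (f * ma), x (ρ - sr i) mb⁆ := by
      rw [hNe, hf]
      congr 1
      field_simp
    rw [h4]
    refine Subgroup.commutator_mem_commutator ⟨hxb (sr_mem_pos i) _, ?_⟩ ⟨hxb hbP _, ?_⟩
    · rw [hcax, map_mul, hτf, mul_left_comm, hca]
    · rw [hcbx, hcb]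
  · have hcp := hσi.resolve_left hfi
    have hrj := isRoot_sr cs h (σ i)
    have hcp' : cpr cs h (sr (σ i)) (sr i) = 0 := by rw [hs _ _ hrj hri]; exact hcp
    have hne : (sr i : I → ℤ) ≠ sr (σ i) := by
      intro h1
      have h2 := congrFun h1 i
      rw [sr_self, sr_ne (Ne.symm hfi)] at h2
      exact one_ne_zero h2
    have hcomp : (ρ - sr i) ∘ σ.symm = ρ - sr (σ i) := by
      show ρ ∘ σ.symm - sr i ∘ σ.symm = _
      rw [hρσ, sr_comp]
    have hb' : IsRoot cs h (ρ - sr (σ i)) := by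
      rw [← hcomp]
      exact isRoot_comp (H.tau.diag.matrix R) H.tau.cartan hb
    have hb'P : ρ - sr (σ i) ∈ RGD.Pos cs h := by
      refine ⟨hb', pos_of_ht hb' ?_⟩
      have h1 := RGD.ht_add (ρ - sr (σ i)) (sr (σ i))
      rw [sub_add_cancel, ht_sr] at h1
      have h2 := (RGD.ht_pos hb hbP.2)
      omega
    have hj : cpr cs h ρ (sr (σ i)) = 1 := by
      have h1 := pairing_comp H.tau.cartan i ρ
      rw [hρσ] at h1
      rw [cpr_sr, h1, ← cpr_sr cs h, hi]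
    -- Cartan numbers
    have k1 : cpr cs h (sr i) (ρ - sr (σ i)) = 1 := by
      rw [hs _ _ hri hb', cpr_sub' hri, hi, hcp', sub_zero]
    have k2 : cpr cs h (sr (σ i)) (ρ - sr i) = 1 := by
      rw [hs _ _ hrj hb, cpr_sub' hrj, hj, hcp, sub_zero]
    have k3 : cpr cs h (ρ - sr i) (ρ - sr (σ i)) = 0 := by
      rw [cpr_sub' hb', k1, hs _ _ hρ.pos.1 hb', cpr_sub' hρ.pos.1, cpr_self cs h hρ.pos.1,
        hs _ _ hrj hρ.pos.1, hj]
      norm_num
    have hcomm : ∀ {r s : I → ℤ}, IsRoot cs h r → IsRoot cs h s → r ≠ s → r ≠ -s → 0 ≤ cpr cs h r s →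
        ∀ {u v : Y}, u ∈ X r → v ∈ X s → u * v = v * u := fun hr hs' h1 h2 h3 _ _ hu hv =>
      comm_of_not_btwn R hr hs' h1 h2 (hs.not_btwn hr hs' h1 h3) hu hv
    have hpos1 : ∀ {r s : I → ℤ}, r ∈ RGD.Pos cs h → s ∈ RGD.Pos cs h → r ≠ -s := fun hr hs' => ne_neg_of_pos hr hs'
    have hne2 : ∀ {r s : I → ℤ}, IsRoot cs h s → cpr cs h r s ≠ 2 → r ≠ s := by
      rintro r s hs' h1 rfl
      exact h1 (cpr_self cs h hs')
    -- the four elements
    obtain ⟨μ, hμ⟩ : ∃ μ, μ + cρ * τ μ = l := by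
      have hcc := H.twice R C hρ.pos.1 hρσ (c := cρ) (by rw [hρσ]; exact hcρ)
      exact exists_sub H.ne hcc hl
    obtain ⟨p, hp⟩ : ∃ p, p = x (sr i) 1 := ⟨_, rfl⟩
    obtain ⟨q, hq⟩ : ∃ q, q = x (ρ - sr i) (μ / N) := ⟨_, rfl⟩
    have hpX : p ∈ X (sr i) := hp ▸ ((C.coord _ hri).mem _).2 ⟨_, rfl⟩
    have hqX : q ∈ X (ρ - sr i) := hq ▸ ((C.coord _ hb).mem _).2 ⟨_, rfl⟩
    have hpX' : β p ∈ X (sr (σ i)) := by
      have := (Diag.root_comp R H.tau.diag H.tau.cartan hri p).2 hpX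
      rwa [sr_comp] at this
    have hqX' : β q ∈ X (ρ - sr (σ i)) := by
      have := (Diag.root_comp R H.tau.diag H.tau.cartan hb q).2 hqX
      rwa [hcomp] at this
    have hz0 : ⁅p, q⁆ = x ρ μ := by
      rw [hp, hq, hNe]
      congr 1
      field_simp
    have hz1 : ⁅β p, β q⁆ = x ρ (cρ * τ μ) := by
      rw [← map_commutatorElement, hz0, hcρ]
    have e1 : p * β p = β p * p := hcomm hri hrj hne (hpos1 (sr_mem_pos i) (sr_mem_pos _)) hcp.ge hpX hpX'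
    have e2 : q * β q = β q * q :=
      hcomm hb hb' (hne2 hb' (by rw [k3]; norm_num)) (hpos1 hbP hb'P) k3.ge hqX hqX'
    have e3 : p * β q = β q * p :=
      hcomm hri hb' (hne2 hb' (by rw [k1]; norm_num)) (hpos1 (sr_mem_pos i) hb'P) (by rw [k1]; norm_num) hpX hqX'
    have e4 : β p * q = q * β p :=
      hcomm hrj hb (hne2 hb (by rw [k2]; norm_num)) (hpos1 (sr_mem_pos _) hbP) (by rw [k2]; norm_num) hpX' hqX
    have hpU : p ∈ RGD.Sup X (RGD.Pos cs h) := RGD.le_Sup (sr_mem_pos i) hpX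
    have hpU' : β p ∈ RGD.Sup X (RGD.Pos cs h) := RGD.le_Sup (sr_mem_pos _) hpX'
    have hqU : q ∈ RGD.Sup X (RGD.Pos cs h) := RGD.le_Sup hbP hqX
    have hqU' : β q ∈ RGD.Sup X (RGD.Pos cs h) := RGD.le_Sup hb'P hqX'
    have hcen : ∀ a, ∀ u ∈ RGD.Sup X (RGD.Pos cs h), x ρ a * u = u * x ρ a := fun a u hu =>
      central R hs hab hρ (((C.coord ρ hρ.pos.1).mem _).2 ⟨a, rfl⟩) hu
    have hkey : ⁅p * β p, q * β q⁆ = x ρ l := by
      have h1 : p * q = x ρ μ * (q * p) := by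
        rw [← hz0, commutatorElement_def]; group
      have h2 : β p * β q = x ρ (cρ * τ μ) * (β q * β p) := by
        rw [← hz1, commutatorElement_def]; group
      have h3 : p * β p * (q * β q) = x ρ l * (q * β q * (p * β p)) := by
        calc p * β p * (q * β q) = p * (β p * q) * β q := by group
          _ = (p * q) * (β p * β q) := by rw [e4]; group
          _ = x ρ μ * (q * p) * (x ρ (cρ * τ μ) * (β q * β p)) := by rw [h1, h2]
          _ = x ρ μ * (q * p * x ρ (cρ * τ μ)) * (β q * β p) := by group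
          _ = x ρ μ * (x ρ (cρ * τ μ) * (q * p)) * (β q * β p) := by rw [hcen _ _ (mul_mem hqU hpU)]
          _ = (x ρ μ * x ρ (cρ * τ μ)) * (q * (p * β q) * β p) := by group
          _ = x ρ l * (q * (β q * p) * β p) := by rw [e3, ← (C.coord ρ hρ.pos.1).add, hμ]
          _ = _ := by group
      rw [commutatorElement_def, h3]
      group
    rw [← hkey]
    refine Subgroup.commutator_mem_commutator ⟨mul_mem hpU hpU', ?_⟩ ⟨mul_mem hqU hqU', ?_⟩
    · rw [map_mul, H.sq, e1]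
    · rw [map_mul, H.sq, e2]

end

end Cfsg.Agent.KFacts.RgdFld.Der

end

-- merged: Cfsg.Agent.KFacts.RgdFld.Dom
section

/-!
# The dominant root of a connected simply laced diagram

* `highest` : the dominant root is the highest root;
* `exists_node` : a node `i` with `⟨ρ, α_i^∨⟩ = 1` (rank at least two);
* `adj` : two distinct such nodes exchanged by a symmetry are orthogonal, or `ρ = α_i + α_{σ i}`;
* `der_adj`, `der_all` : `C_{X ρ}(β) ≤ [C_U(β), C_U(β)]` for every frame involution with nontrivial field part.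
-/

set_option autoImplicit false
set_option linter.unusedSectionVars false

namespace Cfsg.Agent.KFacts.RgdFld.Dom

open CoxeterSystem Cfsg.Agent.ChevalleyStructure.CoxeterGeom Cfsg.Agent.Tits.Roots Cfsg.Agent.Tits.Core
  Cfsg.Agent.Tits.Exchange Cfsg.Agent.Nodes.Reps Cfsg.Agent.Nodes.BNOf Cfsg.Agent.Nodes.StabComb
  Cfsg.Agent.Nodes.Bruhat Cfsg.Agent.Nodes.OppDec Cfsg.Agent.Nodes.PosPair Cfsg.Agent.Nodes.Coroot
  Cfsg.Agent.KFacts.RgdSL Cfsg.Agent.KFacts.RgdAut Cfsg.Agent.KFacts.RgdDiag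
  Cfsg.Agent.KFacts.RgdFld.Layer Cfsg.Agent.KFacts.RgdField Cfsg.Agent.KFacts.RgdTau Cfsg.Agent.KFacts.RgdFld.Coh
  Cfsg.Agent.KFacts.RgdFld.Center Cfsg.Agent.KFacts.RgdFld.Der
open scoped commutatorElement

variable {I W Y : Type*} [Fintype I] [DecidableEq I] [Group W] [Group Y] {M : CoxeterMatrix I}
  {cs : CoxeterSystem M W} {A : I → I → ℤ} {h : IsCartan M A} {p : ℕ} {T : Subgroup Y} {n : I → Y}
  {X : (I → ℤ) → Subgroup Y} {F : Type*} [Field F] {x : (I → ℤ) → F → Y} {χ : (I → ℤ) → Y → F}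

section Comb

/-- `b` is dominant -/
def Dm (cs : CoxeterSystem M W) (h : IsCartan M A) (b : I → ℤ) : Prop := ∀ i, 0 ≤ cpr cs h (sr i) b

theorem cpr_sum [Finite W] {b : I → ℤ} (hb : IsRoot cs h b) (a : I → ℤ) :
    cpr cs h a b = ∑ i, a i * cpr cs h (sr i) b := by
  have e : a = ∑ i, a i • (sr i : I → ℤ) := by
    funext j
    rw [Finset.sum_apply]
    rw [Finset.sum_eq_single j]
    · rw [Pi.smul_apply, sr_self, smul_eq_mul, mul_one]
    · intro i _ hi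
      rw [Pi.smul_apply, sr_ne (Ne.symm hi), smul_zero]
    · intro hj; exact absurd (Finset.mem_univ j) hj
  have h1 : ell cs h hb a = ∑ i, a i * ell cs h hb (sr i) := by
    conv_lhs => rw [e]
    rw [map_sum]
    exact Finset.sum_congr rfl fun i _ => by rw [map_zsmul, smul_eq_mul]
  exact h1

theorem Dm.nonneg [Finite W] {b : I → ℤ} (hb : IsRoot cs h b) (hd : Dm cs h b) {a : I → ℤ} (ha : 0 ≤ a) :
    0 ≤ cpr cs h a b := by
  rw [cpr_sum hb]
  exact Finset.sum_nonneg fun i _ => mul_nonneg (ha i) (hd i)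

theorem Dm.pos [Finite W] {b : I → ℤ} (hb : IsRoot cs h b) (hd : Dm cs h b) : b ∈ RGD.Pos cs h := by
  refine ⟨hb, ?_⟩
  rcases hb.pos_or_neg with h1 | h1
  · exact h1
  exfalso
  have h2 := hd.nonneg hb (a := -b) (neg_nonneg.2 h1)
  rw [cpr_neg_left _ hb, cpr_self cs h hb] at h2
  omega

variable (hconn : ∀ J : Set I, J.Nonempty → J ≠ Set.univ → ∃ a ∈ J, ∃ b, b ∉ J ∧ M a b ≠ 2)

include hconn

/-- a dominant root has full support -/
theorem Dm.supp [Finite W] (hs : SL cs h) {b : I → ℤ} (hb : IsRoot cs h b) (hd : Dm cs h b) (i : I) : 0 < b i := by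
  have hbP := hd.pos hb
  by_contra hi
  have hb0 : ∃ j, 0 < b j := by
    by_contra hcon
    push Not at hcon
    exact hb.ne_zero (le_antisymm hcon hbP.2)
  obtain ⟨a, ha, c, hc, hac⟩ := hconn {j | 0 < b j} hb0 (fun h1 => hi (h1 ▸ Set.mem_univ i : i ∈ {j | 0 < b j}))
  have hc0 : b c = 0 := le_antisymm (not_lt.1 hc) (hbP.2 c)
  have h1 : 0 ≤ cpr cs h b (sr c) := by
    rw [hs _ _ hb (isRoot_sr cs h c)]
    exact hd c
  rw [cpr_sr] at h1
  have h2 : ∀ k, A c k * b k ≤ 0 := by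
    intro k
    by_cases hk : k = c
    · rw [hk, hc0, mul_zero]
    · have h3 : A c k ≤ 0 := by
        rcases h.rel c k (Ne.symm hk) with ⟨-, h4, -⟩ | ⟨-, h4, -⟩ | ⟨-, ⟨h4, -⟩ | ⟨h4, -⟩⟩ | ⟨-, ⟨h4, -⟩ | ⟨h4, -⟩⟩ <;> omega
      exact mul_nonpos_of_nonpos_of_nonneg h3 (hbP.2 k)
  have hca : c ≠ a := by
    rintro rfl
    exact hc ha
  have h3 : A c a * b a < 0 := by
    have h4 : A c a < 0 := by
      have h5 : M c a ≠ 2 := by rwa [M.symmetric]
      rcases h.rel c a hca with ⟨h6, -⟩ | ⟨-, h4, -⟩ | ⟨-, ⟨h4, -⟩ | ⟨h4, -⟩⟩ | ⟨-, ⟨h4, -⟩ | ⟨h4, -⟩⟩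
      · exact absurd h6 h5
      all_goals omega
    exact mul_neg_of_neg_of_pos h4 ha
  have h4 : pairing A c b < 0 := by
    unfold pairing
    exact Finset.sum_neg' (fun k _ => h2 k) ⟨a, Finset.mem_univ a, h3⟩
  omega

/-- **The dominant root is the highest root.** -/
theorem highest [Finite W] (hs : SL cs h) {ρ : I → ℤ} (hρ : IsRoot cs h ρ) (hd : Dm cs h ρ) : Highest cs h ρ where
  pos := hd.pos hρ
  up := by
    intro a ha hne
    by_contra hcon
    push Not at hcon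
    have hda : Dm cs h a := by
      intro i
      by_contra h1
      have hi := isRoot_sr cs h i
      rcases hs.cases hi ha.1 with ⟨-, h2⟩ | ⟨h2, -⟩ | ⟨-, -, h2, -⟩
      · omega
      · have h3 := ne_neg_of_pos (sr_mem_pos i) ha
        exact h3 h2
      · apply hcon i
        rw [add_comm]
        exact isRoot_add hi ha.1 (by omega)
    have hρP := hd.pos hρ
    rcases hs.cases ha.1 hρ with ⟨h2, -⟩ | ⟨h2, -⟩ | ⟨-, -, h2, h3⟩
    · exact hne h2
    · exact ne_neg_of_pos ha hρP h2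
    · have h4 := hd.nonneg hρ ha.2
      by_cases h5 : cpr cs h a ρ = 0
      · have h6 : ∀ i, cpr cs h (sr i) ρ = 0 := by
          intro i
          by_contra h7
          have h8 : 0 < a i * cpr cs h (sr i) ρ :=
            mul_pos (hda.supp hconn hs ha.1 i) (lt_of_le_of_ne (hd i) (Ne.symm h7))
          have h9 : 0 < cpr cs h a ρ := by
            rw [cpr_sum hρ]
            exact Finset.sum_pos' (fun k _ => mul_nonneg (ha.2 k) (hd k)) ⟨i, Finset.mem_univ i, h8⟩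
          omega
        have h7 := cpr_self cs h hρ
        rw [cpr_sum hρ, Finset.sum_eq_zero fun i _ => by rw [h6 i, mul_zero]] at h7
        omega
      · have h6 : cpr cs h a ρ = 1 := by omega
        have h7 := isRoot_sub ha.1 hρ h6
        rcases h7.pos_or_neg with h8 | h8
        · have h9 := hd.nonneg hρ h8
          rw [cpr_sub' hρ, h6, cpr_self cs h hρ] at h9
          omega
        · have h9 := hda.nonneg ha.1 (a := -(a - ρ)) (neg_nonneg.2 h8)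
          rw [cpr_neg_left _ ha.1, cpr_sub' ha.1, cpr_self cs h ha.1, hs _ _ hρ ha.1, h6] at h9
          omega

/-- **A node adjacent to the lowest root.** -/
theorem exists_node [Finite W] [Nontrivial I] (hs : SL cs h) {ρ : I → ℤ} (hρ : IsRoot cs h ρ) (hd : Dm cs h ρ) :
    ∃ i, cpr cs h ρ (sr i) = 1 := by
  by_contra hcon
  push Not at hcon
  have h6 : ∀ i, cpr cs h (sr i) ρ = 0 := by
    intro i
    have hi := isRoot_sr cs h i
    have h1 := hcon i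
    rw [hs _ _ hρ hi] at h1
    rcases hs.cases hi hρ with ⟨h2, -⟩ | ⟨h2, -⟩ | ⟨-, -, h2, h3⟩
    · exfalso
      obtain ⟨j, hj⟩ := exists_ne i
      have h3 := hd.supp hconn hs hρ j
      rw [← h2, sr_ne hj] at h3
      exact lt_irrefl _ h3
    · exact absurd h2 (ne_neg_of_pos (sr_mem_pos i) (hd.pos hρ))
    · have := hd i
      omega
  have h7 := cpr_self cs h hρ
  rw [cpr_sum hρ, Finset.sum_eq_zero fun i _ => by rw [h6 i, mul_zero]] at h7
  omega

omit hconn in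
theorem cpr_simple [Finite W] (hs : SL cs h) {i j : I} (hij : i ≠ j) :
    cpr cs h (sr i) (sr j) = 0 ∨ cpr cs h (sr i) (sr j) = -1 := by
  have hi := isRoot_sr cs h i
  have hj := isRoot_sr cs h j
  rcases hs.cases hi hj with ⟨h2, -⟩ | ⟨h2, -⟩ | ⟨-, -, h2, h3⟩
  · exfalso
    have h3 := congrFun h2 i
    rw [sr_self, sr_ne hij] at h3
    exact one_ne_zero h3
  · exact absurd h2 (ne_neg_of_pos (cs := cs) (h := h) (sr_mem_pos i) (sr_mem_pos j))
  · by_cases h4 : cpr cs h (sr i) (sr j) = 1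
    · exfalso
      have h5 := isRoot_sub hi hj h4
      rcases h5.pos_or_neg with h6 | h6
      · have := h6 j
        rw [Pi.sub_apply, sr_self, sr_ne (Ne.symm hij)] at this
        norm_num at this
      · have := h6 i
        rw [Pi.sub_apply, sr_self, sr_ne hij] at this
        norm_num at this
    · omega

omit hconn in
/-- Two nodes adjacent to the lowest root. -/
theorem adj [Finite W] (hs : SL cs h) {ρ : I → ℤ} (hρ : IsRoot cs h ρ) {i j : I} (hij : i ≠ j)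
    (hi : cpr cs h ρ (sr i) = 1) (hj : cpr cs h ρ (sr j) = 1) :
    cpr cs h (sr i) (sr j) = 0 ∨ sr i + sr j = ρ := by
  have hri := isRoot_sr cs h i
  have hrj := isRoot_sr cs h j
  rcases cpr_simple hs hij with h1 | h1
  · exact Or.inl h1
  · right
    apply hs.eq_of_cpr (isRoot_add hri hrj h1) hρ
    rw [cpr_add cs h _ _ hρ, ← hs _ _ hρ hri, ← hs _ _ hρ hrj, hi, hj]
    norm_num

end Comb

section

variable {β : MulAut Y} {σ : Equiv.Perm I} {τ : F ≃+* F} (H : Fram T X χ A β σ τ)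

include H

/-- The case `ρ = α_i + α_{σ i}` (type `A₂`). -/
theorem der_adj (R : RGD cs h p T n X) [Finite W] [Nonempty I] [CharP F 2] (C : Coords cs h T n X x χ)
    (hs : SL cs h) (hN : Str cs h x) {ρ : I → ℤ} (hρ : Highest cs h ρ) {i : I}
    (hi : sr i + sr (σ i) = ρ) {z : Y} (hz : z ∈ X ρ) (hβz : β z = z) :
    z ∈ ⁅CU cs h X β, CU cs h X β⁆ := by
  have hab := ab_of_coords C.coord
  have hri := isRoot_sr cs h i
  have hrj := isRoot_sr cs h (σ i)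
  have hρσ := Fram.rho_comp H R hρ
  have hcp : cpr cs h (sr i) (sr (σ i)) = -1 :=
    cpr_of_add hs (sr_mem_pos i) (sr_mem_pos _) (by rw [hi]; exact hρ.pos.1)
  obtain ⟨N, hN0, hNe⟩ := hN _ _ hri hrj hcp
  rw [hi] at hNe
  obtain ⟨c, hc0, hcx⟩ := Tau.root R C H.tau hri
  rw [sr_comp] at hcx
  obtain ⟨cρ, -, hcρ⟩ := Tau.root R C H.tau hρ.pos.1
  rw [hρσ] at hcρ
  obtain ⟨l, rfl⟩ := ((C.coord ρ hρ.pos.1).mem z).1 hz
  have hl : cρ * τ l = l := by
    rw [hcρ] at hβz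
    exact (C.coord ρ hρ.pos.1).inj hβz
  have hcen : ∀ z ∈ X ρ, ∀ u ∈ RGD.Sup X (RGD.Pos cs h), z * u = u * z := fun z hz u hu => central R hs hab hρ hz hu
  have hXU : ∀ (j : I) (a : F), x (sr j) a ∈ RGD.Sup X (RGD.Pos cs h) := fun j a =>
    RGD.le_Sup (sr_mem_pos j) (((C.coord _ (isRoot_sr cs h j)).mem _).2 ⟨a, rfl⟩)
  have hlay : RGD.Sup X (Lay cs h 2) ≤ X ρ := by
    have h2 : Lay cs h 2 ⊆ {ρ} := by
      rintro z ⟨hz, hz2⟩
      have hzP : z ∈ RGD.Pos cs h := ⟨hz, pos_of_ht hz (by omega)⟩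
      obtain ⟨h3, h4⟩ := hρ.ht_le hzP
      have h5 : ht ρ = 2 := by rw [← hi, RGD.ht_add, ht_sr, ht_sr]; norm_num
      exact h4 (by omega)
    rw [← Sup_one (X := X) ρ]
    exact RGD.Sup_mono h2
  -- the fixed elements
  have hw : ∀ a, ∃ s ∈ X ρ, x (sr i) a * x (sr (σ i)) (c * τ a) * s ∈ CU cs h X β := by
    intro a
    obtain ⟨s, hsm, hsf⟩ := H.exists_fix R C hs hcx a
    have hs' := hlay hsm
    exact ⟨s, hs', mul_mem (mul_mem (hXU _ _) (hXU _ _)) (RGD.Sup_mono (lay_sub (by norm_num)) hsm), hsf⟩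
  -- commutators
  have hcomm : ∀ a b, x ρ (N * c * (a * τ b + b * τ a)) ∈ ⁅CU cs h X β, CU cs h X β⁆ := by
    intro a b
    obtain ⟨s, hsX, hsC⟩ := hw a
    obtain ⟨s', hsX', hsC'⟩ := hw b
    have h1 := Subgroup.commutator_mem_commutator hsC hsC'
    obtain ⟨P, hP⟩ : ∃ P, P = x (sr i) a * x (sr (σ i)) (c * τ a) := ⟨_, rfl⟩
    obtain ⟨Q, hQ⟩ : ∃ Q, Q = x (sr i) b * x (sr (σ i)) (c * τ b) := ⟨_, rfl⟩
    have hPU : P ∈ RGD.Sup X (RGD.Pos cs h) := hP ▸ mul_mem (hXU _ _) (hXU _ _)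
    have hQU : Q ∈ RGD.Sup X (RGD.Pos cs h) := hQ ▸ mul_mem (hXU _ _) (hXU _ _)
    rw [← hP, ← hQ] at h1
    have h2 : ⁅P * s, Q * s'⁆ = ⁅P, Q⁆ := by
      have hsU : s ∈ RGD.Sup X (RGD.Pos cs h) := RGD.le_Sup hρ.pos hsX
      have e1 : s * (Q * s') = Q * s' * s := hcen s hsX _ (mul_mem hQU (RGD.le_Sup hρ.pos hsX'))
      have e2 : s' * P⁻¹ = P⁻¹ * s' := hcen s' hsX' _ (inv_mem hPU)
      rw [commutatorElement_def, commutatorElement_def]
      calc P * s * (Q * s') * (P * s)⁻¹ * (Q * s')⁻¹ = P * (s * (Q * s')) * s⁻¹ * P⁻¹ * s'⁻¹ * Q⁻¹ := by group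
        _ = P * Q * (s' * P⁻¹) * s'⁻¹ * Q⁻¹ := by rw [e1]; group
        _ = P * Q * P⁻¹ * Q⁻¹ := by rw [e2]; group
    rw [h2] at h1
    -- the formula
    have hij : ∀ a b, x (sr i) a * x (sr (σ i)) b = x ρ (N * a * b) * (x (sr (σ i)) b * x (sr i) a) := by
      intro a b
      rw [← hNe, commutatorElement_def]; group
    have hcρ' : ∀ k, ∀ u ∈ RGD.Sup X (RGD.Pos cs h), x ρ k * u = u * x ρ k := fun k u hu =>
      hcen _ (((C.coord ρ hρ.pos.1).mem _).2 ⟨k, rfl⟩) u hu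
    have hPQ : ∀ a a' b b', x (sr i) a * x (sr (σ i)) a' * (x (sr i) b * x (sr (σ i)) b') * x ρ (N * b * a') =
        x (sr i) (a + b) * x (sr (σ i)) (a' + b') := by
      intro a a' b b'
      rw [(C.coord _ hri).add, (C.coord _ hrj).add]
      calc x (sr i) a * x (sr (σ i)) a' * (x (sr i) b * x (sr (σ i)) b') * x ρ (N * b * a') =
          x (sr i) a * x (sr (σ i)) a' * x (sr i) b * (x (sr (σ i)) b' * x ρ (N * b * a')) := by group
        _ = x (sr i) a * (x (sr (σ i)) a' * x (sr i) b * x ρ (N * b * a')) * x (sr (σ i)) b' := by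
          rw [← hcρ' _ _ (hXU _ _)]; group
        _ = x (sr i) a * (x ρ (N * b * a') * (x (sr (σ i)) a' * x (sr i) b)) * x (sr (σ i)) b' := by
          rw [hcρ' _ _ (mul_mem (hXU _ _) (hXU _ _))]
        _ = x (sr i) a * (x (sr i) b * x (sr (σ i)) a') * x (sr (σ i)) b' := by rw [← hij]
        _ = x (sr i) a * x (sr i) b * (x (sr (σ i)) a' * x (sr (σ i)) b') := by group
    have h3 : ⁅P, Q⁆ = x ρ (N * c * (a * τ b + b * τ a)) := by
      have e1 := hPQ a (c * τ a) b (c * τ b)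
      have e2 := hPQ b (c * τ b) a (c * τ a)
      rw [← hP, ← hQ] at e1 e2
      rw [add_comm b a, add_comm (c * τ b) (c * τ a), ← e1] at e2
      -- `Q P x ρ (N a c τ b) = P Q x ρ (N b c τ a)`
      have e3 : P * Q = x ρ (N * c * (a * τ b + b * τ a)) * (Q * P) := by
        have e4 : x ρ (N * b * (c * τ a)) * x ρ (N * b * (c * τ a)) = 1 := by
          rw [← (C.coord ρ hρ.pos.1).add, CharTwo.add_self_eq_zero, (C.coord ρ hρ.pos.1).zero]
        calc P * Q = P * Q * (x ρ (N * b * (c * τ a)) * x ρ (N * b * (c * τ a))) := by rw [e4, mul_one]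
          _ = Q * P * x ρ (N * a * (c * τ b)) * x ρ (N * b * (c * τ a)) := by rw [← mul_assoc, ← e2]
          _ = Q * P * x ρ (N * c * (a * τ b + b * τ a)) := by
            rw [mul_assoc, ← (C.coord ρ hρ.pos.1).add]
            congr 2
            ring
          _ = _ := by rw [hcρ' _ _ (mul_mem hQU hPU)]
      rw [commutatorElement_def, e3]; group
    rw [← h3]
    exact h1
  -- a nonzero one
  obtain ⟨θ, hθ⟩ := exists_trace H.ne (c := 1)
  rw [one_mul] at hθ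
  obtain ⟨m, hm⟩ : ∃ m, m = N * c * (θ + τ θ) := ⟨_, rfl⟩
  have hm0 : m ≠ 0 := by rw [hm]; exact mul_ne_zero (mul_ne_zero hN0 hc0) hθ
  have hmx : x ρ m ∈ ⁅CU cs h X β, CU cs h X β⁆ := by
    have := hcomm θ 1
    rwa [map_one, mul_one, one_mul, ← hm] at this
  have hmf : cρ * τ m = m := by
    have h1 : ⁅CU cs h X β, CU cs h X β⁆ ≤ CU cs h X β := by
      rw [Subgroup.commutator_le]
      intro g₁ h₁ g₂ h₂
      rw [commutatorElement_def]
      exact mul_mem (mul_mem (mul_mem h₁ h₂) (inv_mem h₁)) (inv_mem h₂)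
    have h2 := (h1 hmx).2
    rw [hcρ] at h2
    exact (C.coord ρ hρ.pos.1).inj h2
  have hcρ0 : cρ ≠ 0 := by
    rintro rfl
    rw [zero_mul] at hmf
    exact hm0 hmf.symm
  obtain ⟨f, hf⟩ : ∃ f, f = l / m := ⟨_, rfl⟩
  have hτf : τ f = f := by
    rw [hf, map_div₀]
    have h4 : τ m ≠ 0 := fun h4 => hm0 ((map_eq_zero τ).1 h4)
    rw [div_eq_div_iff h4 hm0]
    apply mul_left_cancel₀ hcρ0
    calc cρ * (τ l * m) = cρ * τ l * m := by ring
      _ = l * (cρ * τ m) := by rw [hl, hmf]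
      _ = cρ * (l * τ m) := by ring
  have h1 := hcomm (f * θ) 1
  have h2 : N * c * (f * θ * τ 1 + 1 * τ (f * θ)) = l := by
    rw [map_one, mul_one, one_mul, map_mul, hτf]
    calc N * c * (f * θ + f * τ θ) = f * (N * c * (θ + τ θ)) := by ring
      _ = l := by rw [← hm, hf, div_mul_cancel₀ _ hm0]
  rwa [h2] at h1

/-- **`C_{X ρ}(β) ≤ [C_U(β), C_U(β)]`** -/
theorem der_all (R : RGD cs h p T n X) [Finite W] [Nonempty I] [CharP F 2] (C : Coords cs h T n X x χ)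
    (hs : SL cs h) (hN : Str cs h x) {ρ : I → ℤ} (hρ : Highest cs h ρ) {i : I} (hi : cpr cs h ρ (sr i) = 1)
    {z : Y} (hz : z ∈ X ρ) (hβz : β z = z) : z ∈ ⁅CU cs h X β, CU cs h X β⁆ := by
  by_cases hfi : σ i = i
  · exact Fram.der H R C hs hN hρ hi (Or.inl hfi) hz hβz
  have hj : cpr cs h ρ (sr (σ i)) = 1 := by
    have h1 := pairing_comp H.tau.cartan i ρ
    rw [Fram.rho_comp H R hρ] at h1
    rw [cpr_sr, h1, ← cpr_sr cs h, hi]
  rcases adj hs hρ.pos.1 (Ne.symm hfi) hi hj with h1 | h1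
  · exact Fram.der H R C hs hN hρ hi (Or.inr h1) hz hβz
  · exact der_adj H R C hs hN hρ h1 hz hβz

end

end Cfsg.Agent.KFacts.RgdFld.Dom

end

-- merged: Cfsg.Agent.KFacts.RgdFld.Hom
section

/-!
# The homomorphism `Aut Y → Sym I × Aut F` of a finite group with a root group datum

* `Tau.fix_U`, `Tau.fix_UN` : an automorphism with a diagram symmetry fixes `U` and `U⁻`;
* `exists_conj_fix` : every automorphism fixes `U` up to an inner automorphism;
* `exists_phi` : the homomorphism `φ` with `φ α = (σ, τ)` iff `conj y * α` has the symmetry `(σ, τ)` for some `y`.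
-/

set_option autoImplicit false
set_option linter.unusedSectionVars false

namespace Cfsg.Agent.KFacts.RgdFld.Hom

open CoxeterSystem Cfsg.Agent.ChevalleyStructure.CoxeterGeom Cfsg.Agent.Tits.Roots Cfsg.Agent.Tits.Core
  Cfsg.Agent.Tits.Exchange Cfsg.Agent.Nodes.Reps Cfsg.Agent.Nodes.BNOf Cfsg.Agent.Nodes.StabComb
  Cfsg.Agent.Nodes.Bruhat Cfsg.Agent.Nodes.OppDec Cfsg.Agent.Nodes.LeviDec Cfsg.Agent.Nodes.NormalForm
  Cfsg.Agent.KFacts.RgdOpp Cfsg.Agent.KFacts.RgdAut Cfsg.Agent.KFacts.RgdDiag Cfsg.Agent.KFacts.RgdRigid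
  Cfsg.Agent.KFacts.RgdField Cfsg.Agent.KFacts.RgdTau
open scoped commutatorElement

variable {I W Y : Type*} [Fintype I] [DecidableEq I] [Group W] [Group Y] {M : CoxeterMatrix I}
  {cs : CoxeterSystem M W} {A : I → I → ℤ} {h : IsCartan M A} {p : ℕ} {T : Subgroup Y} {n : I → Y}
  {X : (I → ℤ) → Subgroup Y} {F : Type*} [Field F] {x : (I → ℤ) → F → Y} {χ : (I → ℤ) → Y → F} {hh : I → F → Y}

theorem root_comp' {σ : Equiv.Perm I} (hσ : ∀ i j, M (σ i) (σ j) = M i j) (hA : ∀ i j, A (σ i) (σ j) = A i j)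
    {r : I → ℤ} (hr : IsRoot cs h r) : IsRoot cs h (r ∘ σ.symm) := by
  obtain ⟨w, i, rfl⟩ := hr
  rw [← rep_hat hσ hA, sr_comp]
  exact ⟨_, _, rfl⟩

section

variable (R : RGD cs h p T n X)

include R

/-- An automorphism with a diagram symmetry maps the group of a set of roots, closed under the symmetry, to itself. -/
theorem Tau.map_Sup [Finite W] {β : MulAut Y} {σ : Equiv.Perm I} {τ : F ≃+* F} (S : Tau T X χ A β σ τ)
    {P : Set (I → ℤ)} (hP : ∀ r ∈ P, IsRoot cs h r) (hPσ : ∀ r ∈ P, r ∘ σ.symm ∈ P) {y : Y}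
    (hy : y ∈ RGD.Sup X P) : β y ∈ RGD.Sup X P := by
  have h1 : RGD.Sup X P ≤ (RGD.Sup X P).comap β.toMonoidHom := by
    refine RGD.Sup_le fun r hr v hv => ?_
    exact RGD.le_Sup (hPσ r hr) ((Diag.root_comp R S.diag S.cartan (hP r hr) v).2 hv)
  exact h1 hy

theorem Tau.fix_Sup [Finite W] {β : MulAut Y} {σ : Equiv.Perm I} {τ : F ≃+* F} (S : Tau T X χ A β σ τ)
    {P : Set (I → ℤ)} (hP : ∀ r ∈ P, IsRoot cs h r)
    (hPσ : ∀ σ : Equiv.Perm I, (∀ i j, M (σ i) (σ j) = M i j) → (∀ i j, A (σ i) (σ j) = A i j) →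
      ∀ r ∈ P, r ∘ σ.symm ∈ P) : _root_.Cfsg.Agent.KFacts.RgdAut.Fix β (RGD.Sup X P) := by
  intro y
  refine ⟨fun hy => ?_, Tau.map_Sup R S hP (hPσ σ (S.diag.matrix R) S.cartan)⟩
  have h1 := Tau.map_Sup R S.inv hP (hPσ σ⁻¹ (S.inv.diag.matrix R) S.inv.cartan) hy
  rwa [MulAut.inv_apply_self] at h1

/-- An automorphism with a diagram symmetry fixes `U`. -/
theorem Tau.fix_U [Finite W] {β : MulAut Y} {σ : Equiv.Perm I} {τ : F ≃+* F} (S : Tau T X χ A β σ τ) :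
    _root_.Cfsg.Agent.KFacts.RgdAut.Fix β (RGD.Sup X (RGD.Pos cs h)) :=
  Tau.fix_Sup R S (fun _ hr => hr.1) fun σ hσ hA _ hr => ⟨root_comp' hσ hA hr.1, fun i => hr.2 (σ.symm i)⟩

/-- An automorphism with a diagram symmetry fixes `U⁻`. -/
theorem Tau.fix_UN [Finite W] {β : MulAut Y} {σ : Equiv.Perm I} {τ : F ≃+* F} (S : Tau T X χ A β σ τ) :
    _root_.Cfsg.Agent.KFacts.RgdAut.Fix β (UN cs h X) :=
  Tau.fix_Sup R S (fun _ hr => hr.1) fun σ hσ hA _ hr => ⟨root_comp' hσ hA hr.1, fun i => hr.2 (σ.symm i)⟩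

/-- Torus elements induce automorphisms with trivial symmetry. -/
theorem tau_conj [Finite W] (C : Coords cs h T n X x χ) {t : Y} (ht : t ∈ T) :
    Tau T X χ A (MulAut.conj t) 1 1 where
  diag := by
    have key : ∀ (H : Subgroup Y) (t : Y), cj t H = H → ∀ y, MulAut.conj t y ∈ H ↔ y ∈ H := by
      intro H t hH y
      rw [MulAut.conj_apply]
      constructor
      · intro h1
        rw [← hH, mem_cj] at h1
        have e : t⁻¹ * (t * y * t⁻¹) * t = y := by group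
        rwa [e] at h1
      · intro h1
        rw [← hH, mem_cj]
        have e : t⁻¹ * (t * y * t⁻¹) * t = y := by group
        rwa [e]
    refine ⟨fun y => ?_, fun i y => ?_, fun i y => ?_⟩
    · rw [MulAut.conj_apply]
      constructor
      · intro h1
        have e : y = t⁻¹ * (t * y * t⁻¹) * t := by group
        rw [e]
        exact mul_mem (mul_mem (inv_mem ht) h1) ht
      · intro h1
        exact mul_mem (mul_mem ht h1) (inv_mem ht)
    · exact key _ t (R.tor _ (isRoot_sr cs h i) t ht) y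
    · exact key _ t (R.tor _ (isRoot_sr cs h i).neg t ht) y
  cartan _ _ := rfl
  char i s hs := (C.coord _ (isRoot_sr cs h i)).chi_conj ht hs

/-- The symmetry of an inner automorphism is trivial. -/
theorem Tau.inner [Finite W] [Nonempty I] (hG1 : RGD.Sup X {x | IsRoot cs h x} = ⊤) (C : Coords cs h T n X x χ)
    {z : Y} {σ : Equiv.Perm I} {τ : F ≃+* F} (S : Tau T X χ A (MulAut.conj z) σ τ) : σ = 1 ∧ τ = 1 := by
  have hG := GG_eq_top (T := T) hG1
  have h1 : z ∈ Subgroup.normalizer (RGD.Sup X (RGD.Pos cs h) : Set Y) := by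
    rw [Subgroup.mem_normalizer_iff]
    intro y
    rw [← MulAut.conj_apply]
    exact (Tau.fix_U R S y).symm
  have h2 : z ∈ Subgroup.normalizer (UN cs h X : Set Y) := by
    rw [Subgroup.mem_normalizer_iff]
    intro y
    rw [← MulAut.conj_apply]
    exact (Tau.fix_UN R S y).symm
  rw [normalizer_U' R hG] at h1
  rw [normalizer_UN R hG] at h2
  have h3 : z ∈ T := by
    rw [← B_inf_BN R]
    exact ⟨h1, h2⟩
  exact Tau.unique R C S (tau_conj R C h3)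

/-- **Every automorphism fixes `U` up to an inner automorphism.** -/
theorem exists_conj_fix [Finite W] [Finite Y] [Fact p.Prime] (hG1 : RGD.Sup X {x | IsRoot cs h x} = ⊤)
    (α : MulAut Y) : ∃ y : Y, _root_.Cfsg.Agent.KFacts.RgdAut.Fix (MulAut.conj y * α) (RGD.Sup X (RGD.Pos cs h)) := by
  have hG := GG_eq_top (T := T) hG1
  obtain ⟨P, hP⟩ := (R.isPGroup_Upos).exists_le_sylow
  have hPU : (P : Subgroup Y) = RGD.Sup X (RGD.Pos cs h) :=
    eq_U_of_isPGroup R P.isPGroup' hP (by rw [hG]; exact le_top)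
  obtain ⟨y, hy⟩ := MulAction.exists_smul_eq Y (α • P) P
  refine ⟨y, ?_⟩
  rw [fix_iff, ← hPU]
  have h1 := congrArg (fun Q : Sylow p Y => (Q : Subgroup Y)) hy
  have h2 : ((y • α • P : Sylow p Y) : Subgroup Y) =
      ((P : Subgroup Y).map α.toMonoidHom).map (MulAut.conj y).toMonoidHom := rfl
  have h3 : ((y • α • P : Sylow p Y) : Subgroup Y) = (P : Subgroup Y) := h1
  rw [h2, Subgroup.map_map] at h3
  exact h3

/-- **The homomorphism `Aut Y → Sym I × Aut F`.** -/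
theorem exists_phi [Finite W] [Finite Y] [Nonempty I] [Fact p.Prime]
    (hG1 : RGD.Sup X {x | IsRoot cs h x} = ⊤) (C : Coords cs h T n X x χ) (H : Coroots A T X χ hh)
    (hconn : ∀ J : Set I, J.Nonempty → J ≠ Set.univ → ∃ a ∈ J, ∃ b, b ∉ J ∧ M a b ≠ 2)
    (hA : ∀ σ : Equiv.Perm I, (∀ i j, M (σ i) (σ j) = M i j) → ∀ i j, A (σ i) (σ j) = A i j) :
    ∃ φ : MulAut Y →* Equiv.Perm I × (F ≃+* F), ∀ α : MulAut Y,
      (∃ y : Y, Tau T X χ A (MulAut.conj y * α) (φ α).1 (φ α).2) ∧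
      ∀ (y : Y) (σ : Equiv.Perm I) (τ : F ≃+* F), Tau T X χ A (MulAut.conj y * α) σ τ → φ α = (σ, τ) := by
  have hG := GG_eq_top (T := T) hG1
  have h1 : ∀ α : MulAut Y, ∃ q : Equiv.Perm I × (F ≃+* F), ∃ y : Y, Tau T X χ A (MulAut.conj y * α) q.1 q.2 := by
    intro α
    obtain ⟨y, hy⟩ := exists_conj_fix R hG1 α
    obtain ⟨u, -, hU, hUN, -, σ, D⟩ := exists_frame_pow R hG hy
    obtain ⟨τ, hτ⟩ := exists_tau R C H hconn D (hA σ (D.matrix R))
    refine ⟨(σ, τ), u * y, ?_⟩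
    rw [map_mul, mul_assoc]
    exact hτ
  choose q hq using h1
  have huniq : ∀ (α : MulAut Y) (y y' : Y) (σ σ' : Equiv.Perm I) (τ τ' : F ≃+* F),
      Tau T X χ A (MulAut.conj y * α) σ τ → Tau T X χ A (MulAut.conj y' * α) σ' τ' → σ = σ' ∧ τ = τ' := by
    intro α y y' σ σ' τ τ' S S'
    have h2 := S.mul S'.inv
    have e : MulAut.conj y * α * (MulAut.conj y' * α)⁻¹ = MulAut.conj (y * y'⁻¹) := by
      rw [mul_inv_rev, map_mul, map_inv]; group
    rw [e] at h2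
    obtain ⟨h3, h4⟩ := Tau.inner R hG1 C h2
    exact ⟨mul_inv_eq_one.1 h3, mul_inv_eq_one.1 h4⟩
  have hkey : ∀ (α : MulAut Y) (y : Y) (σ : Equiv.Perm I) (τ : F ≃+* F),
      Tau T X χ A (MulAut.conj y * α) σ τ → q α = (σ, τ) := by
    intro α y σ τ S
    obtain ⟨y', S'⟩ := hq α
    obtain ⟨h3, h4⟩ := huniq α y' y _ _ _ _ S' S
    exact Prod.ext h3 h4
  refine ⟨MonoidHom.mk' q fun α γ => ?_, fun α => ⟨hq α, hkey α⟩⟩
  obtain ⟨y, S⟩ := hq α
  obtain ⟨y', S'⟩ := hq γ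
  have e : (MulAut.conj y * α) * (MulAut.conj y' * γ) = MulAut.conj (y * α y') * (α * γ) := by
    ext z
    simp only [MulAut.mul_apply, MulAut.conj_apply, map_mul, map_inv, mul_inv_rev, mul_assoc]
  have h2 := S.mul S'
  rw [e] at h2
  exact hkey _ _ _ _ h2

end

end Cfsg.Agent.KFacts.RgdFld.Hom

end

-- merged: Cfsg.Agent.KFacts.RgdFld.AutP
section

/-!
# Involutory automorphisms with a nontrivial field part

`S₀` a `2`-group of automorphisms fixing `U`, containing the inner automorphisms of `U`.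

* `Fram.exists_conj` : an involution `a` with frame part `β` is `U`-conjugate to `β`;
* `Sit.cent` : an element of `S₀` commuting with `a` and centralising `C_U(a)` lies in `X ρ ⟨a⟩`;
* `Fram.conj` : `z ∈ X ρ` fixed by `a` is a commutator `[a, k]`;
* `Fram.der'` : `C_{X ρ}(a) ≤ [C_U(a), C_U(a)]`.
-/

set_option autoImplicit false
set_option linter.unusedSectionVars false

namespace Cfsg.Agent.KFacts.RgdFld.AutP

open CoxeterSystem Cfsg.Agent.ChevalleyStructure.CoxeterGeom Cfsg.Agent.Tits.Roots Cfsg.Agent.Tits.Core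
  Cfsg.Agent.Tits.Exchange Cfsg.Agent.Nodes.Reps Cfsg.Agent.Nodes.BNOf Cfsg.Agent.Nodes.StabComb
  Cfsg.Agent.Nodes.Bruhat Cfsg.Agent.Nodes.OppDec Cfsg.Agent.Nodes.PosPair Cfsg.Agent.Nodes.Coroot
  Cfsg.Agent.KFacts.RgdSL Cfsg.Agent.KFacts.RgdAut Cfsg.Agent.KFacts.RgdDiag Cfsg.Agent.KFacts.RgdRigid
  Cfsg.Agent.KFacts.RgdFld.Layer Cfsg.Agent.KFacts.RgdField Cfsg.Agent.KFacts.RgdTau Cfsg.Agent.KFacts.RgdFld.Coh
  Cfsg.Agent.KFacts.RgdFld.Center Cfsg.Agent.KFacts.RgdFld.SigTau Cfsg.Agent.KFacts.RgdFld.Der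
  Cfsg.Agent.KFacts.RgdFld.Hom
open scoped commutatorElement

variable {I W Y : Type*} [Fintype I] [DecidableEq I] [Group W] [Group Y] {M : CoxeterMatrix I}
  {cs : CoxeterSystem M W} {A : I → I → ℤ} {h : IsCartan M A} {T : Subgroup Y} {n : I → Y}
  {X : (I → ℤ) → Subgroup Y} {F : Type*} [Field F] {x : (I → ℤ) → F → Y} {χ : (I → ℤ) → Y → F}

theorem mul_conj (α : MulAut Y) (u : Y) : α * MulAut.conj u = MulAut.conj (α u) * α := by
  ext y
  simp only [MulAut.mul_apply, MulAut.conj_apply, map_mul, map_inv]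

section

variable (R : RGD cs h 2 T n X)

include R

/-- inner automorphisms of `U` -/
theorem conj_inj [Finite W] (hG1 : RGD.Sup X {x | IsRoot cs h x} = ⊤) {u u' : Y}
    (hu : u ∈ RGD.Sup X (RGD.Pos cs h)) (hu' : u' ∈ RGD.Sup X (RGD.Pos cs h))
    (he : MulAut.conj u = MulAut.conj u') : u = u' := by
  have hG := GG_eq_top (T := T) hG1
  refine frame_unique R hG (α := (MulAut.conj u)⁻¹) hu hu' ?_ ?_
  · rw [mul_inv_cancel]; exact fun _ => Iff.rfl
  · rw [← he, mul_inv_cancel]; exact fun _ => Iff.rfl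

variable {β : MulAut Y} {σ : Equiv.Perm I} {τ : F ≃+* F}

theorem coh_U [CharP F 2] [Finite W] [Nonempty I] (C : Coords cs h T n X x χ) (hs : SL cs h)
    (H : Fram T X χ A β σ τ) : Coh β (RGD.Sup X (RGD.Pos cs h)) := by
  have := H.coh_lay R C hs (k := 1) one_pos
  rwa [lay_one] at this

/-- **An involution with frame part `β` is `U`-conjugate to `β`.** -/
theorem exists_conj [CharP F 2] [Finite W] [Nonempty I] (hG1 : RGD.Sup X {x | IsRoot cs h x} = ⊤)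
    (C : Coords cs h T n X x χ) (hs : SL cs h) (H : Fram T X χ A β σ τ) {a : MulAut Y} (ha : a * a = 1) {u : Y}
    (hu : u ∈ RGD.Sup X (RGD.Pos cs h)) (hβ : β = MulAut.conj u * a) :
    ∃ s ∈ RGD.Sup X (RGD.Pos cs h), a = MulAut.conj s⁻¹ * β * MulAut.conj s := by
  have hβ2 : β * β = 1 := MulEquiv.ext fun y => H.sq y
  have hfix := Tau.fix_U R H.tau
  have e1 : a = MulAut.conj u⁻¹ * β := by rw [hβ, map_inv, inv_mul_cancel_left]
  have e2 : a * a = MulAut.conj (u⁻¹ * β u⁻¹) := by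
    rw [e1, mul_assoc, ← mul_assoc β, mul_conj, mul_assoc _ β β, hβ2, mul_one, ← map_mul]
  have h1 : u⁻¹ * β u⁻¹ = 1 := by
    apply conj_inj R hG1 (mul_mem (inv_mem hu) ((hfix _).2 (inv_mem hu))) (one_mem _)
    rw [← e2, ha, map_one]
  obtain ⟨s, hsU, hse⟩ := coh_U R C hs H _ (inv_mem hu) h1
  refine ⟨s, hsU, ?_⟩
  have h2 : u⁻¹ = s⁻¹ * β s := by
    have e3 : s⁻¹ * (s * u⁻¹ * (β s)⁻¹) * β s = u⁻¹ := by group
    rw [← e3, hse, mul_one]
  rw [mul_assoc, mul_conj, ← mul_assoc, ← map_mul, ← h2, e1]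

/-- **Elements of `X ρ` fixed by the involution are commutators.** -/
theorem exists_comm [CharP F 2] [Finite W] [Nonempty I] (C : Coords cs h T n X x χ) (hs : SL cs h)
    (H : Fram T X χ A β σ τ) {ρ : I → ℤ} (hρ : Highest cs h ρ) {a : MulAut Y} {s : Y}
    (hsU : s ∈ RGD.Sup X (RGD.Pos cs h)) (ha : a = MulAut.conj s⁻¹ * β * MulAut.conj s) {z : Y} (hz : z ∈ X ρ)
    (haz : a z = z) : ∃ k ∈ X ρ, a k * k⁻¹ = z := by
  have hab := ab_of_coords C.coord
  have hcen : ∀ {w u : Y}, w ∈ X ρ → u ∈ RGD.Sup X (RGD.Pos cs h) → w * u = u * w :=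
    fun hw hu => central R hs hab hρ hw hu
  have hρσ := Fram.rho_comp H R hρ
  have hfix : ∀ w, β w ∈ X ρ ↔ w ∈ X ρ := by
    intro w
    have := Diag.root_comp R H.tau.diag H.tau.cartan hρ.pos.1 w
    rwa [hρσ] at this
  have haβ : ∀ w ∈ X ρ, a w = β w := by
    intro w hw
    rw [ha, MulAut.mul_apply, MulAut.mul_apply, MulAut.conj_apply, MulAut.conj_apply, ← hcen hw hsU,
      mul_inv_cancel_right, inv_inv, ← hcen ((hfix w).2 hw) (inv_mem hsU), inv_mul_cancel_right]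
  obtain ⟨c, hc, hcx⟩ := Tau.root R C H.tau hρ.pos.1
  rw [hρσ] at hcx
  have hcoh := coh_coord (C.coord ρ hρ.pos.1) H.sq H.ne hcx
  obtain ⟨l, rfl⟩ := ((C.coord ρ hρ.pos.1).mem z).1 hz
  have h2 : x ρ l * x ρ l = 1 := by
    rw [← (C.coord ρ hρ.pos.1).add, CharTwo.add_self_eq_zero, (C.coord ρ hρ.pos.1).zero]
  have h3 : β (x ρ l) = x ρ l := by rw [← haβ _ hz, haz]
  obtain ⟨k, hk, hke⟩ := hcoh _ hz (by rw [h3, h2])
  refine ⟨k, hk, ?_⟩
  rw [haβ k hk, ← hab _ hρ.pos.1 _ (inv_mem hk) _ ((hfix k).2 hk)]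
  have e : k⁻¹ * (k * x ρ l * (β k)⁻¹) * β k = x ρ l := by group
  rw [← e, hke, mul_one]

/-- **`C_{X ρ}(a) ≤ [C_U(a), C_U(a)]`** -/
theorem der' [CharP F 2] [Finite W] [Nonempty I] (C : Coords cs h T n X x χ) (hs : SL cs h)
    (hN : Str cs h x) (H : Fram T X χ A β σ τ) {ρ : I → ℤ} (hρ : Highest cs h ρ) {i : I}
    (hi : cpr cs h ρ (sr i) = 1) {a : MulAut Y} {s : Y}
    (hsU : s ∈ RGD.Sup X (RGD.Pos cs h)) (ha : a = MulAut.conj s⁻¹ * β * MulAut.conj s) {z : Y} (hz : z ∈ X ρ)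
    (haz : a z = z) : z ∈ ⁅CU cs h X a, CU cs h X a⁆ := by
  have hab := ab_of_coords C.coord
  have hcen : ∀ {w u : Y}, w ∈ X ρ → u ∈ RGD.Sup X (RGD.Pos cs h) → w * u = u * w :=
    fun hw hu => central R hs hab hρ hw hu
  have hρσ := Fram.rho_comp H R hρ
  have hfix : ∀ w, β w ∈ X ρ ↔ w ∈ X ρ := by
    intro w
    have := Diag.root_comp R H.tau.diag H.tau.cartan hρ.pos.1 w
    rwa [hρσ] at this
  have haβ : a z = β z := by
    rw [ha, MulAut.mul_apply, MulAut.mul_apply, MulAut.conj_apply, MulAut.conj_apply, ← hcen hz hsU,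
      mul_inv_cancel_right, inv_inv, ← hcen ((hfix z).2 hz) (inv_mem hsU), inv_mul_cancel_right]
  have h1 := Dom.der_all H R C hs hN hρ hi hz (by rw [← haβ, haz])
  have h2 : (CU cs h X β).map (MulAut.conj s⁻¹).toMonoidHom ≤ CU cs h X a := by
    rintro _ ⟨w, ⟨hw, hβw⟩, rfl⟩
    show MulAut.conj s⁻¹ w ∈ CU cs h X a
    rw [mem_CU, MulAut.conj_apply, inv_inv]
    refine ⟨mul_mem (mul_mem (inv_mem hsU) hw) hsU, ?_⟩
    rw [ha, MulAut.mul_apply, MulAut.mul_apply, MulAut.conj_apply, MulAut.conj_apply, inv_inv]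
    have e : s * (s⁻¹ * w * s) * s⁻¹ = w := by group
    rw [e, hβw]
  have h3 : MulAut.conj s⁻¹ z ∈ (⁅CU cs h X β, CU cs h X β⁆).map (MulAut.conj s⁻¹).toMonoidHom := ⟨z, h1, rfl⟩
  rw [Subgroup.map_commutator] at h3
  have h4 : MulAut.conj s⁻¹ z = z := by
    rw [MulAut.conj_apply, inv_inv, ← hcen hz (inv_mem hsU), inv_mul_cancel_right]
  rw [h4] at h3
  exact Subgroup.commutator_mono h2 h2 h3

end

/-- `S₀` : a `2`-group of automorphisms fixing `U`, containing the inner automorphisms of `U`; `f` the frame part, `g`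
the symmetry. -/
structure Sit (cs : CoxeterSystem M W) (h : IsCartan M A) (T : Subgroup Y) (X : (I → ℤ) → Subgroup Y)
    (χ : (I → ℤ) → Y → F) (A' : I → I → ℤ) (S₀ : Subgroup (MulAut Y)) (f : ↥S₀ →* MulAut Y)
    (g : ↥S₀ →* Equiv.Perm I × (F ≃+* F)) : Prop where
  pg : IsPGroup 2 ↥S₀
  inn : ∀ u ∈ RGD.Sup X (RGD.Pos cs h), MulAut.conj u ∈ S₀
  fr : ∀ α : ↥S₀, ∃ u ∈ RGD.Sup X (RGD.Pos cs h), f α = MulAut.conj u * α
  ord : ∀ (α : ↥S₀) (k : ℕ), α ^ k = 1 → (f α) ^ k = 1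
  ker : ∀ α : ↥S₀, f α = 1 ↔ ∃ u ∈ RGD.Sup X (RGD.Pos cs h), (α : MulAut Y) = MulAut.conj u
  tau : ∀ α : ↥S₀, Tau T X χ A' (f α) (g α).1 (g α).2

/-- Existence. -/
theorem exists_sit [Finite W] [Nonempty I] (R : RGD cs h 2 T n X) (hG1 : RGD.Sup X {x | IsRoot cs h x} = ⊤)
    (C : Coords cs h T n X x χ) {S₀ : Subgroup (MulAut Y)} (hp : IsPGroup 2 ↥S₀)
    (hfix : ∀ α ∈ S₀, _root_.Cfsg.Agent.KFacts.RgdAut.Fix α (RGD.Sup X (RGD.Pos cs h))) (hinn : ∀ u ∈ RGD.Sup X (RGD.Pos cs h), MulAut.conj u ∈ S₀)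
    (g : ↥S₀ →* Equiv.Perm I × (F ≃+* F)) (hg : ∀ α : ↥S₀, ∃ u ∈ RGD.Sup X (RGD.Pos cs h),
      Tau T X χ A (MulAut.conj u * α) (g α).1 (g α).2) :
    ∃ f : ↥S₀ →* MulAut Y, Sit cs h T X χ A S₀ f g := by
  have hG := GG_eq_top (T := T) hG1
  obtain ⟨f, hf⟩ := exists_toFrame R hG S₀ hfix
  refine ⟨f, hp, hinn, fun α => (hf α).2.1, fun α k hk => (hf α).2.2.1 k hk, fun α => (hf α).2.2.2.1, fun α => ?_⟩
  obtain ⟨u, hu, hτ⟩ := hg α
  obtain ⟨u', hu', e⟩ := (hf α).2.1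
  have h1 : u' = u := frame_unique R hG (α := (α : MulAut Y)) hu' hu (by rw [← e]; exact (hf α).1.2)
    (Tau.fix_UN R hτ)
  rw [e, h1]
  exact hτ

section

variable {S₀ : Subgroup (MulAut Y)} {f : ↥S₀ →* MulAut Y} {g : ↥S₀ →* Equiv.Perm I × (F ≃+* F)}

theorem Sit.g_conj (S : Sit cs h T X χ A S₀ f g) (R : RGD cs h 2 T n X) [Finite W] [Nonempty I]
    (C : Coords cs h T n X x χ) {α : ↥S₀} {u : Y} (hu : u ∈ RGD.Sup X (RGD.Pos cs h))
    (he : (α : MulAut Y) = MulAut.conj u) : g α = 1 := by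
  have h1 := S.tau α
  rw [(S.ker α).2 ⟨u, hu, he⟩] at h1
  obtain ⟨h2, h3⟩ := Tau.unique R C h1 Tau.one
  exact Prod.ext h2 h3

theorem Sit.pow (S : Sit cs h T X χ A S₀ f g) (α : ↥S₀) : ∃ k : ℕ, (f α) ^ 2 ^ k = 1 := by
  obtain ⟨k, hk⟩ := S.pg α
  exact ⟨k, S.ord α _ hk⟩

/-- an element of `S₀` with trivial symmetry is inner -/
theorem Sit.inner (S : Sit cs h T X χ A S₀ f g) (R : RGD cs h 2 T n X) [Finite W] [Nonempty I] [CharP F 2]
    (hG1 : RGD.Sup X {x | IsRoot cs h x} = ⊤) (C : Coords cs h T n X x χ) {α : ↥S₀} (he : g α = 1) :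
    ∃ u ∈ RGD.Sup X (RGD.Pos cs h), (α : MulAut Y) = MulAut.conj u := by
  have : Fact (Nat.Prime 2) := ⟨Nat.prime_two⟩
  rw [← S.ker]
  have h1 := S.tau α
  rw [he] at h1
  obtain ⟨k, hk⟩ := S.pow α
  exact Tau.eq_one R hG1 C h1 hk

/-- The first case of `Sit.cent`. -/
theorem Sit.cent_one (S : Sit cs h T X χ A S₀ f g) (R : RGD cs h 2 T n X) [Finite W] [Nonempty I] [CharP F 2]
    (hG1 : RGD.Sup X {x | IsRoot cs h x} = ⊤) (C : Coords cs h T n X x χ) (hs : SL cs h) (hN : Str cs h x)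
    {ρ : I → ℤ} (hρ : Highest cs h ρ) {a : ↥S₀} (hne : (g a).2 ≠ 1) (ha : a * a = 1) {δ : ↥S₀}
    (hcomm : δ * a = a * δ)
    (hcent : ∀ w ∈ RGD.Sup X (RGD.Pos cs h), (a : MulAut Y) w = w → (δ : MulAut Y) w = w) (hδ : g δ = 1) :
    ∃ z ∈ X ρ, (a : MulAut Y) z = z ∧ (δ : MulAut Y) = MulAut.conj z := by
  have hH : Fram T X χ A (f a) (g a).1 (g a).2 := by
    refine ⟨S.tau a, fun y => ?_, hne⟩
    have h1 : f a * f a = 1 := by rw [← map_mul, ha, map_one]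
    exact congrArg (fun b : MulAut Y => b y) h1
  obtain ⟨u, hu, hue⟩ := S.fr a
  have ha' : (a : MulAut Y) * a = 1 := congrArg Subtype.val ha
  obtain ⟨s, hsU, hse⟩ := exists_conj R hG1 C hs hH ha' hu hue
  obtain ⟨z, hz, hze⟩ := S.inner R hG1 C hδ
  have hfixa : ∀ w, (a : MulAut Y) w ∈ RGD.Sup X (RGD.Pos cs h) ↔ w ∈ RGD.Sup X (RGD.Pos cs h) := by
    have h1 : _root_.Cfsg.Agent.KFacts.RgdAut.Fix (MulAut.conj s⁻¹ * f a * MulAut.conj s) (RGD.Sup X (RGD.Pos cs h)) := by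
      have h2 : ∀ r ∈ RGD.Sup X (RGD.Pos cs h), _root_.Cfsg.Agent.KFacts.RgdAut.Fix (MulAut.conj r) (RGD.Sup X (RGD.Pos cs h)) := by
        intro r hr w
        rw [MulAut.conj_apply]
        exact (Subgroup.mem_normalizer_iff.1 (Subgroup.le_normalizer hr) w).symm
      exact ((h2 _ (inv_mem hsU)).mul (Tau.fix_U R (S.tau a))).mul (h2 _ hsU)
    rw [← hse] at h1
    exact h1
  -- `z` is fixed by `a`
  have hz1 : (a : MulAut Y) z = z := by
    apply conj_inj R hG1 ((hfixa z).2 hz) hz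
    have h1 : (δ : MulAut Y) * a = a * δ := congrArg Subtype.val hcomm
    rw [hze, mul_conj] at h1
    exact (mul_right_cancel h1).symm
  -- `s z s⁻¹` commutes with the fixed points of `β`
  have hc : ∀ w ∈ RGD.Sup X (RGD.Pos cs h), f a w = w → w * (s * z * s⁻¹) = s * z * s⁻¹ * w := by
    intro w hw hβw
    have h1 : (a : MulAut Y) (s⁻¹ * w * s) = s⁻¹ * w * s := by
      rw [hse, MulAut.mul_apply, MulAut.mul_apply, MulAut.conj_apply, MulAut.conj_apply, inv_inv]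
      have e : s * (s⁻¹ * w * s) * s⁻¹ = w := by group
      rw [e, hβw]
    have h2 := hcent _ (mul_mem (mul_mem (inv_mem hsU) hw) hsU) h1
    rw [hze, MulAut.conj_apply, mul_inv_eq_iff_eq_mul] at h2
    calc w * (s * z * s⁻¹) = s * (s⁻¹ * w * s * z) * s⁻¹ := by group
      _ = s * (z * (s⁻¹ * w * s)) * s⁻¹ := by rw [h2]
      _ = s * z * s⁻¹ * w := by group
  have h2 := hH.center R C hs hN hρ (mul_mem (mul_mem hsU hz) (inv_mem hsU)) hc
  have h3 := central R hs (ab_of_coords C.coord) hρ h2 hsU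
  have h4 : z = s * z * s⁻¹ := by
    have e : s * z * s⁻¹ * s = s * z := by group
    rw [e] at h3
    exact mul_left_cancel h3
  exact ⟨z, by rw [h4]; exact h2, hz1, hze⟩

/-- **An element of `S₀` commuting with `a` and centralising `C_U(a)` lies in `X ρ ⟨a⟩`.** -/
theorem Sit.cent (S : Sit cs h T X χ A S₀ f g) (R : RGD cs h 2 T n X) [Finite W] [Nonempty I] [CharP F 2]
    (hG1 : RGD.Sup X {x | IsRoot cs h x} = ⊤) (C : Coords cs h T n X x χ) (hs : SL cs h) (hN : Str cs h x)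
    {ρ : I → ℤ} (hρ : Highest cs h ρ) {a : ↥S₀} (hne : (g a).2 ≠ 1) (ha : a * a = 1) {δ : ↥S₀}
    (hcomm : δ * a = a * δ)
    (hcent : ∀ w ∈ RGD.Sup X (RGD.Pos cs h), (a : MulAut Y) w = w → (δ : MulAut Y) w = w) :
    ∃ z ∈ X ρ, (a : MulAut Y) z = z ∧
      ((δ : MulAut Y) = MulAut.conj z ∨ (δ : MulAut Y) = (a : MulAut Y) * MulAut.conj z) := by
  have hH : Fram T X χ A (f a) (g a).1 (g a).2 := by
    refine ⟨S.tau a, fun y => ?_, hne⟩
    have h1 : f a * f a = 1 := by rw [← map_mul, ha, map_one]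
    exact congrArg (fun b : MulAut Y => b y) h1
  obtain ⟨u, hu, hue⟩ := S.fr a
  have ha' : (a : MulAut Y) * a = 1 := congrArg Subtype.val ha
  obtain ⟨s, hsU, hse⟩ := exists_conj R hG1 C hs hH ha' hu hue
  -- conjugate by `s`
  obtain ⟨c, hc⟩ : ∃ c : ↥S₀, (c : MulAut Y) = MulAut.conj s := ⟨⟨_, S.inn s hsU⟩, rfl⟩
  have hgc : g c = 1 := S.g_conj R C hsU hc
  have hgγ : g (c * δ * c⁻¹) = g δ := by rw [map_mul, map_mul, map_inv, hgc, one_mul, inv_one, mul_one]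
  obtain ⟨u₁, hu₁, hue₁⟩ := S.fr (c * δ * c⁻¹)
  have hγ : ∀ w ∈ RGD.Sup X (RGD.Pos cs h), f a w = w →
      f (c * δ * c⁻¹) w * w⁻¹ ∈ RGD.Sup X (Lay cs h 2) := by
    intro w hw hβw
    have h1 : (a : MulAut Y) (s⁻¹ * w * s) = s⁻¹ * w * s := by
      rw [hse, MulAut.mul_apply, MulAut.mul_apply, MulAut.conj_apply, MulAut.conj_apply, inv_inv]
      have e : s * (s⁻¹ * w * s) * s⁻¹ = w := by group
      rw [e, hβw]
    have h2 := hcent _ (mul_mem (mul_mem (inv_mem hsU) hw) hsU) h1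
    have h3 : ((c * δ * c⁻¹ : ↥S₀) : MulAut Y) w = w := by
      have e : ((c * δ * c⁻¹ : ↥S₀) : MulAut Y) = MulAut.conj s * δ * MulAut.conj s⁻¹ := by
        rw [Subgroup.coe_mul, Subgroup.coe_mul, Subgroup.coe_inv, hc, map_inv]
      rw [e, MulAut.mul_apply, MulAut.mul_apply, MulAut.conj_apply, MulAut.conj_apply, inv_inv, h2]
      group
    rw [hue₁, MulAut.mul_apply, h3, MulAut.conj_apply]
    have h4 := comm_lay R hs (ab_of_coords C.coord) (k := 1) (l := 1) one_pos one_pos (a := u₁) (b := w)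
      (by rw [lay_one]; exact hu₁) (by rw [lay_one]; exact hw)
    rw [commutatorElement_def] at h4
    exact h4
  rcases SigTau.Fram.sig_tau hH R C hs (S.tau (c * δ * c⁻¹)) hγ with ⟨h1, h2⟩ | ⟨h1, h2⟩
  · have h3 : g δ = 1 := by rw [← hgγ]; exact Prod.ext h1 h2
    obtain ⟨z, hz, hz1, hze⟩ := S.cent_one R hG1 C hs hN hρ hne ha hcomm hcent h3
    exact ⟨z, hz, hz1, Or.inl hze⟩
  · have h3 : g δ = g a := by rw [← hgγ]; exact Prod.ext h1 h2
    obtain ⟨z, hz, hz1, hze⟩ := S.cent_one R hG1 C hs hN hρ hne ha (δ := a⁻¹ * δ)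
      (by rw [mul_assoc, hcomm, inv_mul_cancel_left, ← mul_assoc, mul_inv_cancel, one_mul])
      (fun w hw hw' => by
        have e : ((a⁻¹ * δ : ↥S₀) : MulAut Y) = (a : MulAut Y)⁻¹ * δ := rfl
        rw [e, MulAut.mul_apply, hcent w hw hw']
        conv_lhs => rw [← hw']
        exact MulAut.inv_apply_self _ _ _)
      (by rw [map_mul, map_inv, h3, inv_mul_cancel])
    refine ⟨z, hz, hz1, Or.inr ?_⟩
    have e : ((a⁻¹ * δ : ↥S₀) : MulAut Y) = (a : MulAut Y)⁻¹ * δ := rfl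
    rw [← hze, e, mul_inv_cancel_left]

end

end Cfsg.Agent.KFacts.RgdFld.AutP

end

-- merged: Cfsg.Agent.KFacts.RgdFld.Fld
section

/-!
# The field part of `C(t)`: the facts `Defs.Fld`

`K` a group with a simply laced root group datum over a field of characteristic two, normal in `C(t)`.

* `actC` : the action of `C(t)` on `K`;
* `exists_fld` : `Defs.Fld`.
-/

set_option autoImplicit false
set_option linter.unusedSectionVars false

namespace Cfsg.Agent.KFacts.RgdFld.Fld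

open CoxeterSystem Cfsg.Agent.ChevalleyStructure.CoxeterGeom Cfsg.Agent.Tits.Roots Cfsg.Agent.Tits.Core
  Cfsg.Agent.Tits.Exchange Cfsg.Agent.Nodes.Reps Cfsg.Agent.Nodes.BNOf Cfsg.Agent.Nodes.StabComb
  Cfsg.Agent.Nodes.Bruhat Cfsg.Agent.Nodes.OppDec Cfsg.Agent.Nodes.PosPair Cfsg.Agent.Nodes.Coroot
  Cfsg.Agent.KFacts.RgdSL Cfsg.Agent.KFacts.RgdAut Cfsg.Agent.KFacts.RgdDiag Cfsg.Agent.KFacts.RgdRigid
  Cfsg.Agent.KFacts.RgdFld.Layer Cfsg.Agent.KFacts.RgdField Cfsg.Agent.KFacts.RgdTau Cfsg.Agent.KFacts.RgdFld.Coh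
  Cfsg.Agent.KFacts.RgdFld.Center Cfsg.Agent.KFacts.RgdFld.SigTau Cfsg.Agent.KFacts.RgdFld.Der
  Cfsg.Agent.KFacts.RgdFld.Hom Cfsg.Agent.KFacts.RgdFld.AutP Cfsg.Agent.OddHalf.D7Out
open scoped commutatorElement

section Abstract

variable {G : Type*} [Group G] {t v : G} {K U Z T : Subgroup G}

theorem mem_cent {c : G} : c ∈ Subgroup.centralizer ({t} : Set G) ↔ c * t = t * c :=
  Subgroup.mem_centralizer_singleton_iff

theorem nK' (E : Defs.Fr t v K U Z T) (c : ↥(Subgroup.centralizer ({t} : Set G))) (k : ↥K) :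
    (c : G) * k * (c : G)⁻¹ ∈ K :=
  (Subgroup.mem_normalizer_iff.1 (E.nK c (mem_cent.1 c.2)) k).1 k.2

/-- the action of `C(t)` on `K` -/
def actC (E : Defs.Fr t v K U Z T) : ↥(Subgroup.centralizer ({t} : Set G)) →* MulAut ↥K where
  toFun c :=
    { toFun := fun k => ⟨(c : G) * k * (c : G)⁻¹, nK' E c k⟩
      invFun := fun k => ⟨((c⁻¹ : ↥(Subgroup.centralizer ({t} : Set G))) : G) * k *
        ((c⁻¹ : ↥(Subgroup.centralizer ({t} : Set G))) : G)⁻¹, nK' E c⁻¹ k⟩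
      left_inv := fun k => Subtype.ext (by
        show (c : G)⁻¹ * ((c : G) * k * (c : G)⁻¹) * ((c : G)⁻¹)⁻¹ = k
        group)
      right_inv := fun k => Subtype.ext (by
        show (c : G) * ((c : G)⁻¹ * k * ((c : G)⁻¹)⁻¹) * (c : G)⁻¹ = k
        group)
      map_mul' := fun k k' => Subtype.ext (by
        show (c : G) * (k * k') * (c : G)⁻¹ = (c : G) * k * (c : G)⁻¹ * ((c : G) * k' * (c : G)⁻¹)
        group) }
  map_one' := MulEquiv.ext fun k => Subtype.ext (by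
    show (1 : G) * k * (1 : G)⁻¹ = k
    group)
  map_mul' c c' := MulEquiv.ext fun k => Subtype.ext (by
    show (c : G) * c' * k * ((c : G) * c')⁻¹ = (c : G) * ((c' : G) * k * (c' : G)⁻¹) * (c : G)⁻¹
    group)

theorem actC_apply (E : Defs.Fr t v K U Z T) (c : ↥(Subgroup.centralizer ({t} : Set G))) (k : ↥K) :
    ((actC E c k : ↥K) : G) = c * k * (c : G)⁻¹ := rfl

/-- the kernel of the action is `R` -/
theorem actC_eq_one (E : Defs.Fr t v K U Z T) {c : ↥(Subgroup.centralizer ({t} : Set G))} :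
    actC E c = 1 ↔ (c : G) ∈ Subgroup.zpowers v := by
  constructor
  · intro h1
    refine E.cK c (mem_cent.1 c.2) fun k hk => ?_
    have h2 : (c : G) * k * (c : G)⁻¹ = k :=
      congrArg Subtype.val (congrArg (fun b : MulAut ↥K => b ⟨k, hk⟩) h1)
    rw [mul_inv_eq_iff_eq_mul] at h2
    exact h2.symm
  · intro h1
    obtain ⟨j, hj⟩ := Subgroup.mem_zpowers_iff.1 h1
    ext k
    rw [actC_apply]
    have h2 : Commute (k : G) v := E.vK k k.2
    have h3 : (k : G) * c = c * k := by rw [← hj]; exact h2.zpow_right j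
    rw [← h3, mul_inv_cancel_right]; rfl

theorem actC_of_mem (E : Defs.Fr t v K U Z T) {c : ↥(Subgroup.centralizer ({t} : Set G))} (hc : (c : G) ∈ K) :
    actC E c = MulAut.conj (⟨c, hc⟩ : ↥K) := by
  ext k
  rfl

/-- two elements of `C(t)` acting in the same way on `K` differ by an element of `R` -/
theorem actC_eq (E : Defs.Fr t v K U Z T) {c c' : ↥(Subgroup.centralizer ({t} : Set G))} (he : actC E c = actC E c') :
    (c : G) * (c' : G)⁻¹ ∈ Subgroup.zpowers v := by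
  have h1 : actC E (c * c'⁻¹) = 1 := by rw [map_mul, map_inv, he, mul_inv_cancel]
  exact (actC_eq_one E).1 h1

end Abstract

variable {I W : Type*} [Fintype I] [DecidableEq I] [Group W] {M : CoxeterMatrix I}
  {cs : CoxeterSystem M W} {A : I → I → ℤ} {h : IsCartan M A}
  {G : Type*} [Group G] {K : Subgroup G} {T₀ : Subgroup ↥K} {n : I → ↥K} {X : (I → ℤ) → Subgroup ↥K}
  {F : Type*} [Field F] {x : (I → ℤ) → F → ↥K} {χ : (I → ℤ) → ↥K → F} {hh : I → F → ↥K}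
  {t v : G} {U Z T : Subgroup G}

/-- **The field part of `C(t)`.** -/
theorem exists_fld [Finite G] [Finite W] [Nontrivial I] [CharP F 2] (E : Defs.Fr t v K U Z T)
    (hU : U = (RGD.Sup X (RGD.Pos cs h)).map K.subtype) {ρ : I → ℤ} (hZ : Z = (X ρ).map K.subtype)
    (R : RGD cs h 2 T₀ n X)
    (hG1 : RGD.Sup X {x | IsRoot cs h x} = ⊤) (C : Coords cs h T₀ n X x χ) (H : Coroots A T₀ X χ hh)
    (hconn : ∀ J : Set I, J.Nonempty → J ≠ Set.univ → ∃ a ∈ J, ∃ b, b ∉ J ∧ M a b ≠ 2)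
    (hA : ∀ σ : Equiv.Perm I, (∀ i j, M (σ i) (σ j) = M i j) → ∀ i j, A (σ i) (σ j) = A i j)
    (hs : SL cs h) (hN : Str cs h x) (hρr : IsRoot cs h ρ) (hρd : ∀ i, 0 ≤ cpr cs h (sr i) ρ)
    (hM2 : ∀ σ : Equiv.Perm I, (∀ i j, M (σ i) (σ j) = M i j) → ∀ k : ℕ, σ ^ 2 ^ k = 1 → σ * σ = 1) :
    ∃ (B : Type) (_ : CommGroup B) (lf : ↥(Subgroup.centralizer ({t} : Set G)) →* B)
      (hT : T ≤ Subgroup.centralizer ({t} : Set G)), Defs.Fld E lf hT ∧
      ∀ (y : G) (hy : y ∈ T) (u : ↥K) (σ : Equiv.Perm I) (τ : F ≃+* F),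
        Tau T₀ X χ A (MulAut.conj u * actC E ⟨y, hT hy⟩) σ τ → lf ⟨y, hT hy⟩ = 1 → τ = 1 := by
  have : Fact (Nat.Prime 2) := ⟨Nat.prime_two⟩
  have hG := GG_eq_top (T := T₀) hG1
  have hρ : Highest cs h ρ := Dom.highest hconn hs hρr hρd
  obtain ⟨i₀, hi₀⟩ := Dom.exists_node hconn hs hρr hρd
  -- the field is finite
  have hFfin : Finite F := by
    obtain ⟨i⟩ : Nonempty I := inferInstance
    exact Finite.of_injective _ (C.coord _ (isRoot_sr cs h i)).inj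
  have hAfin : Finite (F ≃+* F) := Finite.of_injective (fun e : F ≃+* F => (e : F → F)) DFunLike.coe_injective
  have hcyc : IsCyclic (F ≃+* F) := Cfsg.Agent.LieRecognition.FieldSemilinear.isCyclic_ringAut F
  obtain ⟨φ, hφ⟩ := exists_phi R hG1 C H hconn hA
  obtain ⟨B, hB, π, hπ2, hBu, hπ1⟩ := Two.exists_proj (F ≃+* F)
  have hT : T ≤ Subgroup.centralizer ({t} : Set G) := fun y hy => mem_cent.2 (E.tc y hy)
  have hUT : U ≤ T := by rw [E.U_eq]; exact inf_le_left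
  have hUK : U ≤ K := by rw [E.U_eq]; exact inf_le_right
  have hmemU : ∀ k : ↥K, (k : G) ∈ U ↔ k ∈ RGD.Sup X (RGD.Pos cs h) := by
    intro k
    rw [hU]
    constructor
    · rintro ⟨k', hk', e⟩
      rwa [← Subtype.ext e]
    · intro hk
      exact ⟨k, hk, rfl⟩
  have hmemZ : ∀ k : ↥K, (k : G) ∈ Z ↔ k ∈ X ρ := by
    intro k
    rw [hZ]
    constructor
    · rintro ⟨k', hk', e⟩
      rwa [← Subtype.ext e]
    · intro hk
      exact ⟨k, hk, rfl⟩
  -- the symmetry of the elements of `C(t)`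
  obtain ⟨ψ, hψ⟩ : ∃ ψ : ↥(Subgroup.centralizer ({t} : Set G)) →* (F ≃+* F),
      ψ = (MonoidHom.snd _ _).comp (φ.comp (actC E)) := ⟨_, rfl⟩
  have hψ' : ∀ c, ψ c = (φ (actC E c)).2 := fun c => by rw [hψ]; rfl
  obtain ⟨lf, hlf⟩ : ∃ lf : ↥(Subgroup.centralizer ({t} : Set G)) →* B, lf = π.comp ψ := ⟨_, rfl⟩
  have hlf' : ∀ c, lf c = π (ψ c) := fun c => by rw [hlf]; rfl
  -- the action of `T`
  obtain ⟨aT, haT⟩ : ∃ aT : ↥T →* MulAut ↥K, aT = (actC E).comp (Subgroup.inclusion hT) := ⟨_, rfl⟩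
  have haT' : ∀ y : ↥T, aT y = actC E ⟨y, hT y.2⟩ := fun y => by rw [haT]; rfl
  have hpT : ∀ y : ↥T, ∃ k : ℕ, y ^ 2 ^ k = 1 := fun y => E.pT y
  have hSp : IsPGroup 2 ↥aT.range := by
    rintro ⟨_, y, rfl⟩
    obtain ⟨k, hk⟩ := hpT y
    exact ⟨k, Subtype.ext (by
      show aT y ^ 2 ^ k = 1
      rw [← map_pow, hk, map_one])⟩
  have hfix : ∀ α ∈ aT.range, _root_.Cfsg.Agent.KFacts.RgdAut.Fix α (RGD.Sup X (RGD.Pos cs h)) := by
    rintro _ ⟨y, rfl⟩
    have key : ∀ y : ↥T, ∀ k ∈ RGD.Sup X (RGD.Pos cs h), aT y k ∈ RGD.Sup X (RGD.Pos cs h) := by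
      intro y k hk
      rw [← hmemU, E.U_eq]
      rw [← hmemU] at hk
      refine ⟨?_, (aT y k).2⟩
      rw [haT']
      exact T.mul_mem (T.mul_mem y.2 (hUT hk)) (T.inv_mem y.2)
    intro k
    refine ⟨fun hk => ?_, key y k⟩
    have h1 := key y⁻¹ _ hk
    rwa [map_inv, MulAut.inv_apply_self] at h1
  have haTU : ∀ (u : ↥K) (hu : (u : G) ∈ U), aT ⟨u, hUT hu⟩ = MulAut.conj u := by
    intro u hu
    rw [haT', actC_of_mem E (c := ⟨u, hT (hUT hu)⟩) u.2]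
  have hinn : ∀ u ∈ RGD.Sup X (RGD.Pos cs h), MulAut.conj u ∈ aT.range := by
    intro u hu
    rw [← hmemU] at hu
    exact ⟨⟨u, hUT hu⟩, haTU u hu⟩
  obtain ⟨g, hg⟩ : ∃ g : ↥aT.range →* Equiv.Perm I × (F ≃+* F), g = φ.comp aT.range.subtype := ⟨_, rfl⟩
  have hg' : ∀ α, g α = φ α := fun α => by rw [hg]; rfl
  obtain ⟨f, S⟩ := exists_sit R hG1 C hSp hfix hinn g (by
    intro α
    obtain ⟨u, hu, -, -, -, σ, D⟩ := exists_frame_pow R hG (hfix α.1 α.2)
    obtain ⟨τ, hτ⟩ := exists_tau R C H hconn D (hA σ (D.matrix R))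
    refine ⟨u, hu, ?_⟩
    rw [hg', (hφ α.1).2 u σ τ hτ]
    exact hτ)
  -- the element of `S₀` defined by `y ∈ T`
  obtain ⟨r, hr⟩ : ∃ r : ↥T →* ↥aT.range, r = aT.rangeRestrict := ⟨_, rfl⟩
  have hr' : ∀ y, (r y : MulAut ↥K) = aT y := fun y => by rw [hr]; rfl
  have hgr : ∀ y : ↥T, (g (r y)).2 = ψ ⟨y, hT y.2⟩ := by
    intro y
    rw [hg', hr', haT', hψ']
  have hpow2 : ∀ y : ↥T, ∃ k : ℕ, ψ ⟨y, hT y.2⟩ ^ 2 ^ k = 1 := by
    intro y
    obtain ⟨k, hk⟩ := hpT y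
    refine ⟨k, ?_⟩
    rw [← map_pow]
    have h1 : (y : G) ^ 2 ^ k = 1 := by
      rw [← Subgroup.coe_pow, hk]; rfl
    have : (⟨(y : G), hT y.2⟩ : ↥(Subgroup.centralizer ({t} : Set G))) ^ 2 ^ k = 1 := by
      apply Subtype.ext
      rw [Subgroup.coe_pow]
      exact h1
    rw [this, map_one]
  have hlf1 : ∀ y : ↥T, lf ⟨y, hT y.2⟩ = 1 → ψ ⟨y, hT y.2⟩ = 1 := by
    intro y h1
    obtain ⟨k, hk⟩ := hpow2 y
    rw [hlf'] at h1
    exact hπ1 _ k hk h1
  -- a good element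
  have hgood : ∀ y : G, Defs.GoodY (v := v) lf hT y → ∃ hy : y ∈ T,
      (g (r ⟨y, hy⟩)).2 ≠ 1 ∧ r ⟨y, hy⟩ * r ⟨y, hy⟩ = 1 := by
    rintro y ⟨hy, h1, -, h3⟩
    refine ⟨hy, ?_, ?_⟩
    · rw [hgr]
      intro h4
      exact h1 (by rw [hlf', h4, map_one])
    · apply Subtype.ext
      have h4 := (actC_eq_one E (c := ⟨y, hT hy⟩ * ⟨y, hT hy⟩)).2 h3
      rw [map_mul, ← haT' ⟨y, hy⟩, ← hr'] at h4
      exact h4
  refine ⟨B, hB, lf, hT, ?_, ?_⟩
  swap
  · intro y hy u σ τ hτ h1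
    have h2 := hlf1 ⟨y, hy⟩ h1
    rw [hψ', (hφ _).2 u σ τ hτ] at h2
    exact h2
  constructor
  · -- lK
    intro c hc
    rw [hlf', hψ', actC_of_mem E hc]
    have h1 : φ (MulAut.conj (⟨c, hc⟩ : ↥K)) = (1, 1) := by
      apply (hφ _).2 (⟨c, hc⟩ : ↥K)⁻¹ 1 1
      rw [map_inv, inv_mul_cancel]
      exact Tau.one
    rw [h1, map_one]
  · -- lv
    intro c hc
    rw [hlf', hψ', (actC_eq_one E).2 hc, map_one]
    exact map_one π
  · -- l2
    intro c
    rw [hlf']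
    exact hπ2 _
  · -- lu
    intro c c' h1 h2 h3 h4
    exact hBu _ _ h1 h2 h3 h4
  · -- (A)
    intro y hy h1 h2
    obtain ⟨u, hu, hue⟩ := S.fr (r ⟨y, hy⟩)
    have huU := (hmemU u).2 hu
    obtain ⟨y', hy'⟩ : ∃ y' : ↥T, y' = ⟨u, hUT huU⟩ * ⟨y, hy⟩ := ⟨_, rfl⟩
    have hf : aT y' = f (r ⟨y, hy⟩) := by
      rw [hy', map_mul, haTU u huU, hue, hr']
    have hlfy : lf ⟨y', hT y'.2⟩ = lf ⟨y, hT hy⟩ := by
      have e : (⟨(y' : G), hT y'.2⟩ : ↥(Subgroup.centralizer ({t} : Set G))) =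
          ⟨u, hT (hUT huU)⟩ * ⟨y, hT hy⟩ := Subtype.ext (by rw [hy']; rfl)
      rw [e, map_mul]
      have h3 : lf ⟨u, hT (hUT huU)⟩ = 1 := by
        rw [hlf', hψ', actC_of_mem E (c := ⟨u, hT (hUT huU)⟩) u.2]
        have h1 : φ (MulAut.conj u) = (1, 1) := by
          apply (hφ _).2 u⁻¹ 1 1
          rw [map_inv, inv_mul_cancel]
          exact Tau.one
        rw [h1, map_one]
      rw [h3, one_mul]
    have hsq : f (r ⟨y, hy⟩) * f (r ⟨y, hy⟩) = 1 := by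
      have h3 := (S.tau (r ⟨y, hy⟩)).mul (S.tau (r ⟨y, hy⟩))
      have hσ : (g (r ⟨y, hy⟩)).1 * (g (r ⟨y, hy⟩)).1 = 1 := by
        obtain ⟨k, hk⟩ := hSp (r ⟨y, hy⟩)
        refine hM2 _ ((S.tau (r ⟨y, hy⟩)).diag.matrix R) k ?_
        have h4 : (g (r ⟨y, hy⟩)) ^ 2 ^ k = 1 := by rw [← map_pow, hk, map_one]
        have h5 := congrArg Prod.fst h4
        rwa [Prod.pow_fst] at h5
      have hτ : (g (r ⟨y, hy⟩)).2 * (g (r ⟨y, hy⟩)).2 = 1 := by
        rw [hgr, ← map_mul]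
        have e : (⟨y, hT hy⟩ : ↥(Subgroup.centralizer ({t} : Set G))) * ⟨y, hT hy⟩ =
          ⟨((⟨y, hy⟩ * ⟨y, hy⟩ : ↥T) : G), hT (⟨y, hy⟩ * ⟨y, hy⟩ : ↥T).2⟩ := rfl
        rw [e]
        apply hlf1
        rw [← e, map_mul, h2]
      rw [hσ, hτ] at h3
      obtain ⟨k, hk⟩ := S.pow (r ⟨y, hy⟩ * r ⟨y, hy⟩)
      rw [map_mul] at hk
      exact Tau.eq_one R hG1 C h3 hk
    refine ⟨y', ⟨y'.2, ?_, ?_, ?_⟩, ?_⟩
    · rw [hlfy]; exact h1
    · rw [hlfy]; exact h2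
    · have h3 : actC E (⟨y', hT y'.2⟩ * ⟨y', hT y'.2⟩) = 1 := by
        rw [map_mul, ← haT' y', hf, hsq]
      exact (actC_eq_one E).1 h3
    · -- the order
      apply Nat.le_of_dvd (orderOf_pos y)
      apply orderOf_dvd_of_pow_eq_one
      have h3 : (r ⟨y, hy⟩) ^ orderOf y = 1 := by
        rw [← map_pow]
        have : (⟨y, hy⟩ : ↥T) ^ orderOf y = 1 := Subtype.ext (pow_orderOf_eq_one y)
        rw [this, map_one]
      have h4 := S.ord _ _ h3
      rw [← hf, ← map_pow] at h4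
      have h5 : ((y' ^ orderOf y : ↥T) : G) ∈ Subgroup.zpowers v := by
        rw [haT'] at h4
        exact (actC_eq_one E).1 h4
      have h6 : ∀ k : ℕ, ∃ w ∈ U, ((y' ^ k : ↥T) : G) = w * y ^ k := by
        intro k
        induction k with
        | zero => exact ⟨1, one_mem _, by rw [pow_zero, pow_zero, one_mul]; rfl⟩
        | succ k ih =>
          obtain ⟨w, hw, e⟩ := ih
          have h7 : ∀ w ∈ U, y ^ k * w * (y ^ k)⁻¹ ∈ U := by
            intro w hw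
            have h8 := (hfix _ ⟨(⟨y, hy⟩ ^ k : ↥T), rfl⟩ ⟨w, hUK hw⟩).2 ((hmemU _).1 hw)
            rw [← hmemU, haT'] at h8
            exact h8
          refine ⟨w * (y ^ k * u * (y ^ k)⁻¹), mul_mem hw (h7 _ huU), ?_⟩
          have e2 : (y' : G) = u * y := by rw [hy']; rfl
          have e3 : ((y' ^ (k + 1) : ↥T) : G) = ((y' ^ k : ↥T) : G) * y' := by rw [pow_succ]; rfl
          rw [e3, e, e2, pow_succ]
          group
      obtain ⟨w, hw, e⟩ := h6 (orderOf y)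
      rw [pow_orderOf_eq_one, mul_one] at e
      rw [e] at h5
      have h7 : ((y' ^ orderOf y : ↥T) : G) = 1 := by
        rw [e]
        exact E.KR w (hUK hw) h5
      exact h7
  · -- (B)
    intro y hyg w hw hwy hcent
    obtain ⟨hy, h1, h2⟩ := hgood y hyg
    obtain ⟨z, hz, hz1, hz2⟩ := S.cent R hG1 C hs hN hρ h1 h2 (δ := r ⟨w, hw⟩)
      (by rw [← map_mul, ← map_mul]; congr 1; exact Subtype.ext hwy) (by
        intro k hk hk1
        rw [hr', haT'] at hk1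
        rw [hr', haT']
        have h3 : y * k * y⁻¹ = k := congrArg Subtype.val hk1
        rw [mul_inv_eq_iff_eq_mul] at h3
        have h4 := hcent k ((hmemU k).2 hk) h3.symm
        apply Subtype.ext
        show w * k * w⁻¹ = k
        rw [← h4, mul_inv_cancel_right])
    have hzZ : (z : G) ∈ Z := (hmemZ z).2 hz
    have hzy : (z : G) * y = y * z := by
      rw [hr', haT'] at hz1
      have h3 : y * z * y⁻¹ = z := congrArg Subtype.val hz1
      rw [mul_inv_eq_iff_eq_mul] at h3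
      exact h3.symm
    have hzT : (z : G) ∈ Subgroup.centralizer ({t} : Set G) := hT (hUT (E.ZU hzZ))
    have hzC : actC E ⟨z, hzT⟩ = MulAut.conj z := actC_of_mem E (c := ⟨z, hzT⟩) z.2
    rcases hz2 with h3 | h3
    · rw [hr', haT', ← hzC] at h3
      exact ⟨w * (z : G)⁻¹, actC_eq E h3, z, hzZ, hzy, Or.inl (by group)⟩
    · rw [hr', hr', haT', haT', ← hzC, ← map_mul] at h3
      have h4 : w * (y * z)⁻¹ ∈ Subgroup.zpowers v := actC_eq E h3
      obtain ⟨q, hq⟩ : ∃ q, q = w * (y * (z : G))⁻¹ := ⟨_, rfl⟩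
      rw [← hq] at h4
      -- `y⁻¹ q y ∈ R`
      have h5 : y⁻¹ * q * y ∈ Subgroup.zpowers v := by
        have h6 := (actC_eq_one E (c := (⟨y, hT hy⟩ : ↥(Subgroup.centralizer ({t} : Set G)))⁻¹ *
          ⟨q, hq ▸ mul_mem (hT hw) (inv_mem (mul_mem (hT hy) hzT))⟩ * ⟨y, hT hy⟩)).1 (by
            rw [map_mul, map_mul, (actC_eq_one E (c := ⟨q, _⟩)).2 h4, mul_one, ← map_mul, inv_mul_cancel, map_one])
        exact h6
      refine ⟨y⁻¹ * q * y, h5, z, hzZ, hzy, Or.inr ?_⟩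
      rw [hq]; group
  · -- (C)
    intro y hyg z hz hzy
    obtain ⟨hy, h1, h2⟩ := hgood y hyg
    have hzK : z ∈ K := hUK (E.ZU hz)
    have hzX : (⟨z, hzK⟩ : ↥K) ∈ X ρ := (hmemZ ⟨z, hzK⟩).1 hz
    have hH : Fram T₀ X χ A (f (r ⟨y, hy⟩)) (g (r ⟨y, hy⟩)).1 (g (r ⟨y, hy⟩)).2 := by
      refine ⟨S.tau _, fun k => ?_, h1⟩
      have h3 : f (r ⟨y, hy⟩) * f (r ⟨y, hy⟩) = 1 := by rw [← map_mul, h2, map_one]
      exact congrArg (fun b : MulAut ↥K => b k) h3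
    obtain ⟨u, hu, hue⟩ := S.fr (r ⟨y, hy⟩)
    obtain ⟨s, hsU, hse⟩ := exists_conj R hG1 C hs hH (congrArg Subtype.val h2) hu hue
    obtain ⟨k, hk, hke⟩ := exists_comm R C hs hH hρ hsU hse hzX (by
      rw [hr', haT']
      apply Subtype.ext
      show y * z * y⁻¹ = z
      rw [← hzy, mul_inv_cancel_right])
    have hkU : (k : G) ∈ U := E.ZU ((hmemZ k).2 hk)
    have h3 : y * k * y⁻¹ * (k : G)⁻¹ = z := by
      rw [hr', haT'] at hke
      exact congrArg Subtype.val hke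
    -- `y² ∈ R` centralises `K`
    have h4 : (k : G) * (y * y) = y * y * k := by
      have h5 : aT ⟨y, hy⟩ * aT ⟨y, hy⟩ = 1 := by
        rw [← hr']
        exact congrArg Subtype.val h2
      rw [haT'] at h5
      have h6 : y * (y * k * y⁻¹) * y⁻¹ = k :=
        congrArg Subtype.val (congrArg (fun b : MulAut ↥K => b k) h5)
      calc (k : G) * (y * y) = y * (y * k * y⁻¹) * y⁻¹ * (y * y) := by rw [h6]
        _ = y * y * k := by group
    refine ⟨k, hkU, ?_⟩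
    -- `y z = z y = y k y⁻¹ k⁻¹ y`, and `y⁻¹ k y = y k y⁻¹`
    have h5 : y⁻¹ * k * y = y * k * y⁻¹ := by
      calc y⁻¹ * k * y = y⁻¹ * ((k : G) * (y * y)) * y⁻¹ := by group
        _ = y⁻¹ * (y * y * k) * y⁻¹ := by rw [h4]
        _ = y * k * y⁻¹ := by group
    rw [← h3, ← h5]
    group
  · -- (D)
    intro y hyg z hz hzy
    obtain ⟨hy, h1, h2⟩ := hgood y hyg
    have hzK : z ∈ K := hUK (E.ZU hz)
    have hzX : (⟨z, hzK⟩ : ↥K) ∈ X ρ := (hmemZ ⟨z, hzK⟩).1 hz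
    have hH : Fram T₀ X χ A (f (r ⟨y, hy⟩)) (g (r ⟨y, hy⟩)).1 (g (r ⟨y, hy⟩)).2 := by
      refine ⟨S.tau _, fun k => ?_, h1⟩
      have h3 : f (r ⟨y, hy⟩) * f (r ⟨y, hy⟩) = 1 := by rw [← map_mul, h2, map_one]
      exact congrArg (fun b : MulAut ↥K => b k) h3
    obtain ⟨u, hu, hue⟩ := S.fr (r ⟨y, hy⟩)
    obtain ⟨s, hsU, hse⟩ := exists_conj R hG1 C hs hH (congrArg Subtype.val h2) hu hue
    have h3 := der' R C hs hN hH hρ hi₀ hsU hse hzX (by
      rw [hr', haT']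
      apply Subtype.ext
      show y * z * y⁻¹ = z
      rw [← hzy, mul_inv_cancel_right])
    have h4 : (CU cs h X ((r ⟨y, hy⟩ : ↥aT.range) : MulAut ↥K)).map K.subtype ≤
        U ⊓ Subgroup.centralizer ({y} : Set G) := by
      rintro _ ⟨k, ⟨hk, hk1⟩, rfl⟩
      refine ⟨(hmemU k).2 hk, ?_⟩
      rw [hr', haT'] at hk1
      have h5 : y * k * y⁻¹ = k := congrArg Subtype.val hk1
      rw [mul_inv_eq_iff_eq_mul] at h5
      exact Subgroup.mem_centralizer_singleton_iff.2 h5.symm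
    have h5 : z ∈ (⁅CU cs h X ((r ⟨y, hy⟩ : ↥aT.range) : MulAut ↥K),
        CU cs h X ((r ⟨y, hy⟩ : ↥aT.range) : MulAut ↥K)⁆).map K.subtype := ⟨⟨z, hzK⟩, h3, rfl⟩
    rw [Subgroup.map_commutator] at h5
    exact Subgroup.commutator_mono h4 h4 h5

end Cfsg.Agent.KFacts.RgdFld.Fld

end

private theorem dce_5eb3d81c5483 : _root_.True := by
  try have : _root_.True := by simp only [_root_.Cfsg.Agent.KFacts.RgdFld.Layer.Lay.congr_simp]
  exact _root_.True.intro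
end

-- part: KFacts/J4/SheetMJ4
section
set_option linter.all false
open scoped Cfsg.Agent.FastGrp

/-!
# The fourth Janko group: the facts of case (M)
-/

set_option autoImplicit false

namespace Cfsg.Agent.KFacts.J4.SheetMJ4

open Cfsg Cfsg.Agent.J4Type Cfsg.Agent.KFacts.J4.Base Cfsg.Agent.KFacts.J4.AutP
open scoped commutatorElement

variable {K : Type*} [Group K]

/-- `MM` has index 2 in `C_K(z)` -/
theorem relIndex_MM (C : Cent K) : (MM C).relIndex (Subgroup.centralizer ({C.z} : Set K)) = 2 := by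
  obtain ⟨g, hg, hg'⟩ := Base.exists_swap
  rw [← C.P_range] at hg
  obtain ⟨c, rfl⟩ := hg
  have hc : (c : K) ∉ MM C := fun h => hg' h.2
  show ((MM C).subgroupOf (Subgroup.centralizer ({C.z} : Set K))).index = 2
  rw [Subgroup.index_eq_two_iff]
  refine ⟨c, fun b => ?_⟩
  rw [Subgroup.mem_subgroupOf, Subgroup.mem_subgroupOf, Subgroup.coe_mul]
  have hbz := Subgroup.mem_centralizer_singleton_iff.1 b.2
  have hcz := Subgroup.mem_centralizer_singleton_iff.1 c.2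
  by_cases hb : (b : K) ∈ MM C
  · right
    refine ⟨hb, fun h => hc ?_⟩
    have h1 := (MM C).mul_mem ((MM C).inv_mem hb) h
    rwa [inv_mul_cancel_left] at h1
  · left
    exact ⟨mul_mem_of_not_mem hbz hcz hb hc, hb⟩

/-- **`P/R` is quasisimple.** -/
theorem quasi [Finite K] {C : Cent K} (hp : ⁅MM C, MM C⁆ = MM C) (N : Subgroup K) (hN : N ≤ MM C)
    (hQ : C.Q ≤ N) (hn : ∀ p ∈ MM C, ∀ n ∈ N, p * n * p⁻¹ ∈ N) : ⁅N, MM C⁆ ≤ C.Q ∨ N = MM C := by
  have := Cfsg.Agent.SporadicA.MathieuRecog.simple_M22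
  let N' : Subgroup (MM C) := N.subgroupOf (MM C)
  have hN'n : N'.Normal := ⟨fun b hb g => hn g g.2 b hb⟩
  have h1 : (N'.map (pi C)).Normal := hN'n.map _ (pi_surjective C)
  rcases h1.eq_bot_or_eq_top with h2 | h2
  · left
    rw [Subgroup.commutator_le]
    intro n hn' p hp'
    have h3 : pi C ⟨n, hN hn'⟩ ∈ N'.map (pi C) := ⟨_, hn', rfl⟩
    rw [h2, Subgroup.mem_bot] at h3
    exact (ker_iff _).1 h3 ⟨p, hp'⟩
  · right
    -- every element is `n ρ^i`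
    have hel : ∀ x : MM C, ∃ n : MM C, n ∈ N' ∧ ∃ i : ℕ, x = n * ⟨C.ρ, rho_mem_MM C⟩ ^ i := by
      intro x
      have h3 : pi C x ∈ N'.map (pi C) := by rw [h2]; trivial
      obtain ⟨n, hn', h4⟩ := h3
      have h5 : pi C (x * n⁻¹) = 1 := by rw [map_mul, map_inv, h4, mul_inv_cancel]
      obtain ⟨q, hq, i, h6⟩ := (pi_eq_one _).1 h5
      refine ⟨(⟨q, Q_le_MM C hq⟩ * (⟨C.ρ, rho_mem_MM C⟩ ^ i * n * (⟨C.ρ, rho_mem_MM C⟩ ^ i)⁻¹) :),
        N'.mul_mem (hQ hq) (hN'n.conj_mem n hn' _), i, ?_⟩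
      apply Subtype.ext
      have h7 : (x : K) = q * C.ρ ^ i * n := by
        have h8 : (x : K) * (n : K)⁻¹ = q * C.ρ ^ i := h6
        rw [← h8]; group
      rw [h7]
      show q * C.ρ ^ i * (n : K) = q * (C.ρ ^ i * n * (C.ρ ^ i)⁻¹) * C.ρ ^ i
      group
    have hcomm : ∀ a b : MM C ⧸ N', a * b = b * a := by
      have hel' : ∀ a : MM C ⧸ N', ∃ i : ℕ, a = ((⟨C.ρ, rho_mem_MM C⟩ : MM C) : MM C ⧸ N') ^ i := by
        intro a
        obtain ⟨x, rfl⟩ := QuotientGroup.mk_surjective a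
        obtain ⟨n, hn', i, rfl⟩ := hel x
        refine ⟨i, ?_⟩
        rw [QuotientGroup.mk_mul, (QuotientGroup.eq_one_iff n).2 hn', one_mul, QuotientGroup.mk_pow]
      intro a b
      obtain ⟨i, rfl⟩ := hel' a
      obtain ⟨j, rfl⟩ := hel' b
      rw [← pow_add, ← pow_add, add_comm]
    have h3 : (⊤ : Subgroup (MM C)) ≤ N' := by
      rw [← commutator_eq_top hp, commutator_def, Subgroup.commutator_le]
      intro a _ b _
      rw [← QuotientGroup.eq_one_iff, ← QuotientGroup.mk'_apply, map_commutatorElement,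
        commutatorElement_eq_one_iff_mul_comm]
      exact hcomm _ _
    exact le_antisymm hN fun x hx => h3 (Subgroup.mem_top ⟨x, hx⟩)

/-- an element of order 7 acting non-trivially -/
theorem exists_seven [Finite K] (C : Cent K) : ∃ x ∈ MM C, IsPGroup 7 (Subgroup.zpowers x) ∧
    ∃ y ∈ MM C, ⁅x, y⁆ ∉ C.Q := by
  have h7 : Fact (Nat.Prime 7) := ⟨by norm_num⟩
  have hdvd : 7 ∣ Nat.card (MM C) := by
    have h1 : Nat.card Cfsg.Spor.M22 ∣ Nat.card (MM C) :=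
      Subgroup.card_dvd_of_surjective (pi C) (pi_surjective C)
    rw [Cfsg.Agent.SporadicA.MathieuRecog.card_M22] at h1
    exact (by norm_num : 7 ∣ 443520).trans h1
  obtain ⟨x, hx⟩ := exists_prime_orderOf_dvd_card' (G := MM C) 7 hdvd
  refine ⟨x, x.2, ?_, ?_⟩
  · have h1 : orderOf (x : K) = 7 := by rw [Subgroup.orderOf_coe]; exact hx
    exact IsPGroup.of_card (n := 1) (by rw [Nat.card_zpowers, h1, pow_one])
  · by_contra hcon
    push Not at hcon
    have h1 : pi C x = 1 := (ker_iff x).2 fun y => hcon y y.2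
    obtain ⟨q, hq, i, h2⟩ := (pi_eq_one x).1 h1
    obtain ⟨q', hq', h3⟩ := pow_eq hq i 7
    have h4 : (x : K) ^ 7 = 1 := by
      rw [← Subgroup.coe_pow, ← hx, pow_orderOf_eq_one]; rfl
    rw [← h2, h4] at h3
    have h5 : C.ρ ^ (i * 7) ∈ C.Q := by
      rw [pow_mul]
      have h6 : (C.ρ ^ i) ^ 7 = q'⁻¹ := eq_inv_of_mul_eq_one_right h3.symm
      rw [h6]
      exact C.Q.inv_mem hq'
    have h6 := orderOf_dvd_of_pow_eq_one (rho_pow_eq_one h5)
    rw [C.ρ_order] at h6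
    have h7 : 3 ∣ i := by omega
    obtain ⟨j, rfl⟩ := h7
    rw [pow_mul, rho_cube, one_pow, mul_one] at h2
    have h8 : (x : K) ^ 4 = 1 := by rw [h2]; exact Q_pow_four hq
    have h9 : x ^ 4 = 1 := Subtype.ext h8
    have h10 := orderOf_dvd_of_pow_eq_one h9
    rw [hx] at h10
    norm_num at h10

/-- **the facts of case (M)** -/
theorem sheetM [Finite K] [IsSimpleGroup K] (F : Full K) :
    OddHalf.CaseM.SheetM (MM F.C.toCent) F.C.Q := by
  obtain ⟨x, hx, hx7, y, hy, hxy⟩ := exists_seven F.C.toCent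
  refine OddHalf.CaseM.SheetM.of_quasisimple (SheetJ4.sheet F)
    (fun N hN hQ hn => quasi F.perf N hN hQ hn) (p := 7) (w := 6) (by norm_num) (by norm_num)
    (by rw [F.C.Q_card]) hx hx7 hy hxy ⟨0, ?_⟩ ⟨1, by rw [relIndex_MM, pow_one]⟩
  have hrange : (MulAut.conj : K →* MulAut K).range = ⊤ := by
    rw [eq_top_iff]
    intro α _
    obtain ⟨p, hp⟩ := SheetJ4.inner F α
    exact ⟨p, hp.symm⟩
  rw [hrange, Subgroup.index_top, pow_zero]

/-- **both sheets for every group isomorphic to `J4`** -/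
theorem exists_sheets {K : Type*} [Group K] (h : Cfsg.Spor.IsoJ4 K) :
    ∃ (z : K) (P R : Subgroup K), OddHalf.D8.Sheet.SheetE z P R ∧ OddHalf.CaseM.SheetM P R := by
  obtain ⟨h1, h2, ⟨F⟩⟩ := exists_full h
  exact ⟨_, _, _, SheetJ4.sheet F, sheetM F⟩

end Cfsg.Agent.KFacts.J4.SheetMJ4
end
end
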